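import Mathlib
set_option linter.all false

/-!
# Orders of maximal subgroups: elementary facts (helper438)

* `card_dvd_of_coatoms` : if `S` is finite and not a `p`-group, and every order of a maximal subgroup of `S` divides
  `n`, then `|S|` divides `n`.
* `card_eq_of_coatoms` : two finite groups with the same set of orders of maximal subgroups, one of them with order
  divisible by two primes, have the same order.
* `exists_simple_quotient` : a nontrivial finite group has a simple quotient.
* `isCoatom_comap` : preimages of maximal subgroups.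
-/

set_option autoImplicit false

namespace Cfsg.Agent.H438.MaxOrders

open Subgroup

/-- The set of orders of maximal subgroups. -/
abbrev MO (G : Type*) [Group G] : Set ℕ := {k : ℕ | ∃ M : Subgroup G, IsCoatom M ∧ k = Nat.card ↥M}

theorem card_dvd_of_coatoms {S : Type*} [Group S] [Finite S] (hS : ∀ p : ℕ, p.Prime → ¬ IsPGroup p S) {n : ℕ}
    (h : ∀ M : Subgroup S, IsCoatom M → Nat.card M ∣ n) : Nat.card S ∣ n := by
  rw [Nat.dvd_iff_prime_pow_dvd_dvd]
  intro p k hp hk
  have : Fact p.Prime := ⟨hp⟩
  obtain ⟨P, hP⟩ := Sylow.exists_subgroup_card_pow_prime p hk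
  have hPp : IsPGroup p P := IsPGroup.of_card hP
  have hPt : P ≠ ⊤ := by
    rintro rfl
    exact hS p hp (hPp.of_equiv Subgroup.topEquiv)
  obtain ⟨M, hM, hPM⟩ := (eq_top_or_exists_le_coatom P).resolve_left hPt
  exact (hP ▸ Subgroup.card_dvd_of_le hPM).trans (h M hM)

theorem not_isPGroup_of {S : Type*} [Group S] [Finite S] {a b : ℕ} (ha : a.Prime) (hb : b.Prime) (hab : a ≠ b)
    (h1 : a ∣ Nat.card S) (h2 : b ∣ Nat.card S) : ∀ p : ℕ, p.Prime → ¬ IsPGroup p S := by
  intro p hp h
  have : Fact p.Prime := ⟨hp⟩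
  obtain ⟨k, hk⟩ := IsPGroup.iff_card.1 h
  rw [hk] at h1 h2
  have e1 := (Nat.prime_dvd_prime_iff_eq ha hp).1 (ha.dvd_of_dvd_pow h1)
  have e2 := (Nat.prime_dvd_prime_iff_eq hb hp).1 (hb.dvd_of_dvd_pow h2)
  exact hab (e1.trans e2.symm)

theorem card_eq_of_coatoms {G S : Type*} [Group G] [Finite G] [Group S] [Finite S] (h : MO G = MO S)
    {a b : ℕ} (ha : a.Prime) (hb : b.Prime) (hab : a ≠ b)
    (h1 : a ∣ Nat.card S) (h2 : b ∣ Nat.card S) : Nat.card G = Nat.card S := by
  have hS := not_isPGroup_of ha hb hab h1 h2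
  have hd : Nat.card S ∣ Nat.card G := by
    apply card_dvd_of_coatoms hS
    intro M hM
    have hm : Nat.card M ∈ MO G := by rw [h]; exact ⟨M, hM, rfl⟩
    obtain ⟨M', -, h'⟩ := hm
    rw [h']
    exact Subgroup.card_subgroup_dvd_card M'
  have hG := not_isPGroup_of ha hb hab (h1.trans hd) (h2.trans hd)
  refine Nat.dvd_antisymm ?_ hd
  apply card_dvd_of_coatoms hG
  intro M hM
  have hm : Nat.card M ∈ MO S := by rw [← h]; exact ⟨M, hM, rfl⟩
  obtain ⟨M', -, h'⟩ := hm
  rw [h']
  exact Subgroup.card_subgroup_dvd_card M'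

/-- Preimages of maximal subgroups under surjective homomorphisms are maximal, of the same index. -/
theorem isCoatom_comap {G H : Type*} [Group G] [Group H] (f : G →* H) (hf : Function.Surjective f)
    {M : Subgroup H} (hM : IsCoatom M) : IsCoatom (M.comap f) := by
  refine ⟨?_, ?_⟩
  · intro h
    apply hM.1
    rw [eq_top_iff]
    intro x _
    obtain ⟨g, rfl⟩ := hf x
    have : g ∈ M.comap f := by rw [h]; trivial
    exact this
  · intro K hK
    have hker : f.ker ≤ K := by
      refine le_trans ?_ hK.le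
      intro x hx
      rw [Subgroup.mem_comap, (MonoidHom.mem_ker).1 hx]
      exact M.one_mem
    have h1 : M < K.map f := by
      have h2 : M ≤ K.map f := by
        intro x hx
        obtain ⟨g, rfl⟩ := hf x
        exact ⟨g, hK.le hx, rfl⟩
      refine lt_of_le_of_ne h2 ?_
      intro h3
      apply hK.ne
      rw [h3, Subgroup.comap_map_eq, sup_eq_left.2 hker]
    have h4 := hM.2 _ h1
    have h5 : K = (K.map f).comap f := by rw [Subgroup.comap_map_eq, sup_eq_left.2 hker]
    rw [h5, h4, Subgroup.comap_top]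

/-- A nontrivial finite group has a simple quotient. -/
theorem exists_simple_quotient (G : Type*) [Group G] [Finite G] [Nontrivial G] :
    ∃ (N : Subgroup G) (_ : N.Normal), IsSimpleGroup (G ⧸ N) := by
  classical
  have hfin : (Set.univ : Set (Subgroup G)).Finite := Set.finite_univ
  obtain ⟨N, hN⟩ := (hfin.subset (Set.subset_univ {N : Subgroup G | N.Normal ∧ N ≠ ⊤})).exists_maximal
    ⟨⊥, inferInstance, bot_ne_top⟩
  have hN1 := hN.prop.1
  refine ⟨N, hN1, ?_⟩
  have hnt : Nontrivial (G ⧸ N) := by
    rw [← not_subsingleton_iff_nontrivial]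
    intro hs
    exact hN.prop.2 (QuotientGroup.subgroup_eq_top_of_subsingleton N hs)
  refine ⟨fun K hK => ?_⟩
  by_cases hKt : K = ⊤
  · exact Or.inr hKt
  left
  have h1 : K.comap (QuotientGroup.mk' N) ∈ {N : Subgroup G | N.Normal ∧ N ≠ ⊤} := by
    refine ⟨hK.comap _, ?_⟩
    intro h
    apply hKt
    rw [eq_top_iff]
    intro x _
    obtain ⟨g, rfl⟩ := QuotientGroup.mk'_surjective N x
    have : g ∈ K.comap (QuotientGroup.mk' N) := by rw [h]; trivial
    exact this
  have h2 : N ≤ K.comap (QuotientGroup.mk' N) := by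
    intro x hx
    rw [Subgroup.mem_comap]
    have : (QuotientGroup.mk' N) x = 1 := (QuotientGroup.eq_one_iff x).2 hx
    rw [this]
    exact K.one_mem
  have h3 := hN.le_of_ge h1 h2
  rw [eq_bot_iff]
  intro x hx
  obtain ⟨g, rfl⟩ := QuotientGroup.mk'_surjective N x
  have : g ∈ N := h3 hx
  rw [Subgroup.mem_bot]
  exact (QuotientGroup.eq_one_iff g).2 this

/-- A subgroup of prime index is maximal. -/
theorem isCoatom_of_index_prime {G : Type*} [Group G] {H : Subgroup G} {p : ℕ} (hp : p.Prime) (h : H.index = p) :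
    IsCoatom H := by
  refine ⟨?_, ?_⟩
  · rintro rfl
    rw [Subgroup.index_top] at h
    exact hp.one_lt.ne h
  · intro K hK
    have h1 := Subgroup.relIndex_mul_index hK.le
    rw [h] at h1
    have h2 : K.index ∣ p := ⟨_, by rw [mul_comm]; exact h1.symm⟩
    rcases (Nat.dvd_prime hp).1 h2 with h3 | h3
    · exact Subgroup.index_eq_one.1 h3
    · exfalso
      rw [h3] at h1
      have h4 : H.relIndex K = 1 := by
        have := hp.pos
        exact Nat.eq_of_mul_eq_mul_right this (by rw [h1, one_mul])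
      exact hK.not_ge (Subgroup.relIndex_eq_one.1 h4)

end Cfsg.Agent.H438.MaxOrders
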