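import Mathlib
import Cfsg.Prelude.Def_Sz
import Cfsg.Agent.LieRecognition.SzMatrix
import Cfsg.Agent.LieRecognition.RankOneAbstract
import Cfsg.Agent.S1162
import Cfsg.Agent.H438.MaxOrders
set_option linter.all false

/-!
# Maximal subgroups of odd index of the Suzuki groups; `Sz F e ≃* Sz K e` for isomorphic fields (helper438)

* `coatom_card_of_odd_index` : a maximal subgroup of odd index of `Sz(q)` has order `q² (q - 1)`;
* `exists_coatom` : `Sz(q)` has a maximal subgroup of order `q² (q - 1)` and index `q² + 1`;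
* `szCongr` : `Sz F e ≃* Sz K e` for isomorphic fields `F`, `K` (any universes);
* `szCongr_of_card` : the same for finite fields of the same order.
-/

set_option autoImplicit false

namespace Cfsg.Agent.H438.SzMax

open Subgroup
open Cfsg.Agent.LieRecognition.SzMatrix Cfsg.Agent.LieRecognition.RankOneAbstract

section abstract

variable {G : Type*} [Group G] {B S : Subgroup G} {w : G}

/-- In a simple group with rank one data, a proper subgroup containing `S` lies in `B`. -/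
theorem le_of_le [IsSimpleGroup G] (D : Data B S w) (hS : S ≠ ⊥) {M : Subgroup G} (hSM : S ≤ M) (hM : M ≠ ⊤) :
    M ≤ B := by
  intro g hg
  by_contra hgB
  apply hM
  have hw : ∀ s ∈ S, w * s * w⁻¹ ∈ M := by
    obtain ⟨s₀, hs₀, h⟩ := D.bruhat g hgB
    intro s hs
    set b := (s₀ * w)⁻¹ * g with hb
    have h1 : w * b ∈ M := by
      have : w * b = s₀⁻¹ * g := by rw [hb]; group
      rw [this]
      exact M.mul_mem (M.inv_mem (hSM hs₀)) hg
    have h2 : b⁻¹ * s * b ∈ S := by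
      have := D.norm b⁻¹ (B.inv_mem h) s hs
      rwa [inv_inv] at this
    have h3 := M.mul_mem (M.mul_mem h1 (hSM h2)) (M.inv_mem h1)
    have h4 : w * b * (b⁻¹ * s * b) * (w * b)⁻¹ = w * s * w⁻¹ := by group
    rwa [h4] at h3
  have hall : ∀ x : G, ∀ s ∈ S, x * s * x⁻¹ ∈ M := by
    intro x s hs
    by_cases hx : x ∈ B
    · exact hSM (D.norm x hx s hs)
    · obtain ⟨s₁, hs₁, h⟩ := D.bruhat x hx
      set b := (s₁ * w)⁻¹ * x with hb
      have h1 : x = s₁ * (w * b) := by rw [hb]; group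
      have h2 := D.norm b h s hs
      have h3 := hw _ h2
      have h4 := M.mul_mem (M.mul_mem (hSM hs₁) h3) (M.inv_mem (hSM hs₁))
      have h5 : s₁ * (w * (b * s * b⁻¹) * w⁻¹) * s₁⁻¹ = x * s * x⁻¹ := by rw [h1]; group
      rwa [h5] at h4
  have hn : normalClosure (S : Set G) ≤ M := by
    rw [normalClosure, closure_le]
    intro y hy
    obtain ⟨s, hs, hy⟩ := Group.mem_conjugatesOfSet_iff.1 hy
    obtain ⟨x, hx⟩ := isConj_iff.1 hy
    rw [← hx]
    exact hall x s hs
  have h6 : normalClosure (S : Set G) = ⊤ := by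
    rcases (normalClosure_normal (s := (S : Set G))).eq_bot_or_eq_top with h | h
    · exfalso
      apply hS
      rw [eq_bot_iff, ← h]
      exact subset_normalClosure
    · exact h
  rw [h6] at hn
  exact top_le_iff.1 hn

end abstract

section sz

variable {F : Type*} [Field F] [Fintype F] {m : ℕ}

theorem data (hF : Fintype.card F = 2 ^ (2 * m + 1)) :
    Data (good hF).borel (good hF).unip (good hF).w := Cfsg.Agent.S1162.data_sz (good hF)

theorem unip_ne_bot (hm : 1 ≤ m) (hF : Fintype.card F = 2 ^ (2 * m + 1)) : (good hF).unip ≠ ⊥ := by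
  intro h
  have hcu : Nat.card (good hF).unip = (2 ^ (2 * m + 1)) ^ 2 := by
    rw [(good hF).card_unip, Nat.card_eq_fintype_card, hF]
  rw [h, Subgroup.card_bot] at hcu
  have : 1 < (2 ^ (2 * m + 1)) ^ 2 := Nat.one_lt_pow (by norm_num) (Nat.one_lt_two_pow (by omega))
  omega

theorem card_borel (hF : Fintype.card F = 2 ^ (2 * m + 1)) :
    Nat.card (good hF).borel = (2 ^ (2 * m + 1)) ^ 2 * (2 ^ (2 * m + 1) - 1) := by
  rw [(good hF).card_borel, Nat.card_eq_fintype_card, hF]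

theorem index_borel (hF : Fintype.card F = 2 ^ (2 * m + 1)) :
    (good hF).borel.index = (2 ^ (2 * m + 1)) ^ 2 + 1 := by
  rw [(data hF).index, (good hF).card_unip, Nat.card_eq_fintype_card, hF]

theorem card_sz (hF : Fintype.card F = 2 ^ (2 * m + 1)) :
    Nat.card ↥(Cfsg.Lie.Sz F (2 ^ (m + 1))) =
      (2 ^ (2 * m + 1)) ^ 2 * (2 ^ (2 * m + 1) - 1) * ((2 ^ (2 * m + 1)) ^ 2 + 1) := by
  rw [← Subgroup.card_mul_index (good hF).borel, card_borel hF, index_borel hF]

theorem isCoatom_borel (hF : Fintype.card F = 2 ^ (2 * m + 1)) : IsCoatom (good hF).borel := by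
  refine ⟨?_, ?_⟩
  · intro h
    exact (data hF).w_not_mem (by rw [h]; trivial)
  · intro M hM
    obtain ⟨g, hg, hgB⟩ := SetLike.exists_of_lt hM
    exact Cfsg.Agent.S1162.eq_top_of_le (data hF) hM.le hg hgB

theorem exists_coatom (hF : Fintype.card F = 2 ^ (2 * m + 1)) :
    ∃ M : Subgroup ↥(Cfsg.Lie.Sz F (2 ^ (m + 1))), IsCoatom M ∧
      Nat.card M = (2 ^ (2 * m + 1)) ^ 2 * (2 ^ (2 * m + 1) - 1) ∧ M.index = (2 ^ (2 * m + 1)) ^ 2 + 1 :=
  ⟨_, isCoatom_borel hF, card_borel hF, index_borel hF⟩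

theorem odd_mul (hF : 0 < m) : ¬ 2 ∣ (2 ^ (2 * m + 1) - 1) * ((2 ^ (2 * m + 1)) ^ 2 + 1) := by
  intro h
  rcases (Nat.Prime.dvd_mul Nat.prime_two).mp h with h | h
  · have h1 : 1 ≤ 2 ^ (2 * m + 1) := Nat.one_le_two_pow
    have h2 : 2 ∣ 2 ^ (2 * m + 1) := dvd_pow_self 2 (by omega)
    omega
  · have h2 : 2 ∣ (2 ^ (2 * m + 1)) ^ 2 := dvd_pow (dvd_pow_self 2 (by omega)) (by omega)
    omega

/-- the unipotent subgroup as a Sylow subgroup -/
theorem exists_sylow (hm : 1 ≤ m) (hF : Fintype.card F = 2 ^ (2 * m + 1)) :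
    ∃ P : Sylow 2 ↥(Cfsg.Lie.Sz F (2 ^ (m + 1))), (P : Subgroup _) = (good hF).unip := by
  have hcu : Nat.card (good hF).unip = (2 ^ (2 * m + 1)) ^ 2 := by
    rw [(good hF).card_unip, Nat.card_eq_fintype_card, hF]
  have hpg : IsPGroup 2 (good hF).unip := by
    apply IsPGroup.of_card (n := (2 * m + 1) * 2)
    rw [hcu, ← pow_mul]
  have hidxS : ¬ 2 ∣ (good hF).unip.index := by
    have h1 := Subgroup.card_mul_index (good hF).unip
    rw [card_sz hF, hcu, mul_assoc] at h1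
    have h2 := Nat.eq_of_mul_eq_mul_left (by positivity) h1
    rw [h2]
    exact odd_mul (by omega)
  exact ⟨hpg.toSylow hidxS, rfl⟩

/-- A maximal subgroup of odd index of `Sz(q)` has order `q² (q - 1)`. -/
theorem coatom_card_of_odd_index (hm : 1 ≤ m) (hF : Fintype.card F = 2 ^ (2 * m + 1))
    {M : Subgroup ↥(Cfsg.Lie.Sz F (2 ^ (m + 1)))} (hM : IsCoatom M) (hodd : ¬ 2 ∣ M.index) :
    Nat.card M = (2 ^ (2 * m + 1)) ^ 2 * (2 ^ (2 * m + 1) - 1) := by
  classical
  have hsimp := Cfsg.Agent.S1162.result hm hF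
  have : Finite ↥(Cfsg.Lie.Sz F (2 ^ (m + 1))) := inferInstance
  obtain ⟨P, hP⟩ := exists_sylow hm hF
  -- `M` contains a Sylow 2-subgroup
  have : Fact (Nat.Prime 2) := ⟨Nat.prime_two⟩
  obtain ⟨Q⟩ : Nonempty (Sylow 2 M) := inferInstance
  have hQ : IsPGroup 2 ((Q : Subgroup M).map M.subtype) := Q.2.map _
  obtain ⟨Q', hQ'⟩ := hQ.exists_le_sylow
  have hQQ : (Q : Subgroup M).map M.subtype = Q' := by
    apply Subgroup.eq_of_le_of_card_ge hQ'
    rw [Subgroup.card_map_of_injective M.subtype_injective, Sylow.card_eq_multiplicity, Sylow.card_eq_multiplicity,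
      ← Subgroup.card_mul_index M, Nat.factorization_mul Nat.card_pos.ne' (Subgroup.index_ne_zero_of_finite),
      Finsupp.add_apply, Nat.factorization_eq_zero_of_not_dvd hodd, add_zero]
  obtain ⟨g, hg⟩ := MulAction.exists_smul_eq ↥(Cfsg.Lie.Sz F (2 ^ (m + 1))) Q' P
  -- conjugate
  have hM' : IsCoatom (M.map (MulAut.conj g).toMonoidHom) := by
    have h1 : M.map (MulAut.conj g).toMonoidHom = M.comap (MulAut.conj g).symm.toMonoidHom :=
      Subgroup.map_equiv_eq_comap_symm (MulAut.conj g) M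
    rw [h1]
    exact Cfsg.Agent.H438.MaxOrders.isCoatom_comap _ (MulAut.conj g).symm.surjective hM
  have hle : (good hF).unip ≤ M.map (MulAut.conj g).toMonoidHom := by
    rw [← hP, ← hg]
    rw [Sylow.coe_subgroup_smul, ← hQQ]
    intro x hx
    obtain ⟨y, hy, rfl⟩ := hx
    refine ⟨y, ?_, rfl⟩
    obtain ⟨z, -, rfl⟩ := hy
    exact z.2
  have h5 := le_of_le (data hF) (unip_ne_bot hm hF) hle hM'.1
  have h6 : M.map (MulAut.conj g).toMonoidHom = (good hF).borel := by
    by_contra hne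
    exact (isCoatom_borel hF).1 (hM'.2 _ (lt_of_le_of_ne h5 hne))
  rw [← card_borel hF, ← h6, Subgroup.card_map_of_injective (MulAut.conj g).injective]

end sz

section congr

open Matrix

variable {F K : Type*} [Field F] [Field K]

/-- entrywise application of a field isomorphism -/
noncomputable def glEquiv (σ : F ≃+* K) : GL (Fin 4) F ≃* GL (Fin 4) K :=
  Units.mapEquiv (σ.mapMatrix (m := Fin 4)).toMulEquiv

theorem glEquiv_val (σ : F ≃+* K) (g : GL (Fin 4) F) :
    ((glEquiv σ g : GL (Fin 4) K) : Matrix (Fin 4) (Fin 4) K) = (g : Matrix (Fin 4) (Fin 4) F).map σ := rfl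

theorem glEquiv_symm (σ : F ≃+* K) (g : GL (Fin 4) K) : (glEquiv σ).symm g = glEquiv σ.symm g := by
  apply (glEquiv σ).injective
  rw [MulEquiv.apply_symm_apply]
  apply Units.ext
  ext i j
  rw [glEquiv_val, glEquiv_val]
  simp

theorem alt_map (σ : F ≃+* K) (u v : Fin 4 → F) :
    Cfsg.Lie.altForm4 (fun i => σ (u i)) (fun i => σ (v i)) = σ (Cfsg.Lie.altForm4 u v) := by
  unfold Cfsg.Lie.altForm4
  simp only [map_add, map_mul]

theorem star_map (σ : F ≃+* K) (g : Matrix (Fin 4) (Fin 4) F) :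
    Cfsg.Lie.star4 (g.map σ) = (Cfsg.Lie.star4 g).map σ := by
  ext i j
  simp only [Cfsg.Lie.star4, Matrix.of_apply, Matrix.map_apply, map_sub, map_mul]

theorem sp_map (σ : F ≃+* K) {g : GL (Fin 4) F} (hg : g ∈ Cfsg.Lie.Sp4 F) : glEquiv σ g ∈ Cfsg.Lie.Sp4 K := by
  intro u v
  have key : ∀ w : Fin 4 → K, (Units.coeHom (Matrix (Fin 4) (Fin 4) K) (glEquiv σ g)) *ᵥ w =
      fun i => σ (((Units.coeHom (Matrix (Fin 4) (Fin 4) F) g) *ᵥ (fun i => σ.symm (w i))) i) := by
    intro w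
    funext i
    show ((g : Matrix (Fin 4) (Fin 4) F).map σ *ᵥ w) i = σ (((g : Matrix (Fin 4) (Fin 4) F) *ᵥ (fun i => σ.symm (w i))) i)
    simp only [Matrix.mulVec, dotProduct, Matrix.map_apply, map_sum, map_mul, RingEquiv.apply_symm_apply]
  rw [key, key, alt_map, hg]
  have h1 := alt_map σ (fun i => σ.symm (u i)) (fun i => σ.symm (v i))
  rw [← h1]
  simp

theorem sz_map_le (σ : F ≃+* K) (e : ℕ) :
    (Cfsg.Lie.Sz F e).map (glEquiv σ).toMonoidHom ≤ Cfsg.Lie.Sz K e := by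
  rw [Subgroup.map_le_iff_le_comap]
  unfold Cfsg.Lie.Sz
  rw [closure_le]
  rintro g ⟨h1, h2⟩
  refine subset_closure ⟨sp_map σ h1, ?_⟩
  show Cfsg.Lie.star4 ((g : Matrix (Fin 4) (Fin 4) F).map σ) = ((g : Matrix (Fin 4) (Fin 4) F).map σ).map (fun x => x ^ e)
  rw [star_map, h2]
  ext i j
  simp

theorem szCongr (σ : F ≃+* K) (e : ℕ) : Nonempty (Cfsg.Lie.Sz F e ≃* Cfsg.Lie.Sz K e) := by
  have h1 : (Cfsg.Lie.Sz F e).map (glEquiv σ).toMonoidHom = Cfsg.Lie.Sz K e := by
    refine le_antisymm (sz_map_le σ e) ?_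
    intro x hx
    refine ⟨(glEquiv σ).symm x, ?_, ?_⟩
    · rw [glEquiv_symm]
      exact sz_map_le σ.symm e ⟨x, hx, rfl⟩
    · exact (glEquiv σ).apply_symm_apply x
  exact ⟨((glEquiv σ).subgroupMap (Cfsg.Lie.Sz F e)).trans (MulEquiv.subgroupCongr h1)⟩

theorem szCongr_of_card [Fintype F] [Fintype K] (h : Fintype.card F = Fintype.card K) (e : ℕ) :
    Nonempty (Cfsg.Lie.Sz F e ≃* Cfsg.Lie.Sz K e) :=
  szCongr (FiniteField.ringEquivOfCardEq h) e

end congr

end Cfsg.Agent.H438.SzMax
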