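import Mathlib
import Cfsg.Agent.S0680
import Cfsg.Agent.Lib.Cores
import Cfsg.Agent.Classification.NGroupExclude
import Cfsg.Agent.S0280
import Cfsg.Prelude.Def_Involutions
import Cfsg.Prelude.Def_Classical
import Cfsg.Agent.FastGrp
import Cfsg.Agent.Prune
set_option linter.all false
prune_inst 0x7ffcfefbeef9bddfffff7e7ffffddffe39d4dfffffdffb4bffeffbffffff23673be5fbaf9de4d8ffcef7e2b630b87853fbfffeffef6fdc7ffffd5ff45ffbee1ff7ffbf8c51d7b8341ffc6ffffbf37f9ffffffffffffffffffffffffffffffffffffffffffffd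
open scoped Cfsg.Agent.FastGrp

-- part: H438/ConstFix
section
/-!
# Doubly transitive groups with an involution whose centraliser has constant fixity (helper438, S3726)

`Hyp Ω i t` : `G` is finite, faithful and doubly transitive on the finite set `Ω`, `t` is an involution, and every
non-identity element commuting with `t` fixes exactly `i` points.

* `Hyp.swap_conj` : every element which interchanges two points is a conjugate of `t`;
* `Hyp.card_centralizer` : `|C(t)| = |Ω| - i`;
* `Hyp.comm` : two-point stabilisers are abelian; elements interchanging `a` and `b` invert `G_ab`.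
-/

set_option autoImplicit false
set_option linter.unusedSectionVars false

namespace Cfsg.Agent.H438.ConstFix

open Subgroup MulAction

/-- The two-point stabiliser. -/
def st2 (G : Type*) {Ω : Type*} [Group G] [MulAction G Ω] (a b : Ω) : Subgroup G := stabilizer G a ⊓ stabilizer G b

theorem mem_st2 {G Ω : Type*} [Group G] [MulAction G Ω] {a b : Ω} {g : G} :
    g ∈ st2 G a b ↔ g • a = a ∧ g • b = b := Iff.rfl

/-- The hypothesis of the theorem. -/
structure Hyp {G : Type*} (Ω : Type*) [Group G] [MulAction G Ω] (i : ℕ) (t : G) : Prop where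
  two : ∀ a b c d : Ω, a ≠ b → c ≠ d → ∃ g : G, g • a = c ∧ g • b = d
  ne : t ≠ 1
  sq : t * t = 1
  fix : ∀ g : G, Commute g t → g ≠ 1 → Nat.card {x : Ω // g • x = x} = i

variable {G Ω : Type*} [Group G] [MulAction G Ω] {i : ℕ} {t : G}

theorem Hyp.conj (h : Hyp Ω i t) (x : G) : Hyp Ω i (x * t * x⁻¹) where
  two := h.two
  ne := by
    intro h1
    apply h.ne
    have : t = x⁻¹ * (x * t * x⁻¹) * x := by group
    rw [this, h1]; group
  sq := by
    have : x * t * x⁻¹ * (x * t * x⁻¹) = x * (t * t) * x⁻¹ := by group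
    rw [this, h.sq]; group
  fix := by
    intro g hg hg1
    have h1 : Commute (x⁻¹ * g * x) t := by
      have h2 : g * (x * t * x⁻¹) = x * t * x⁻¹ * g := hg
      show x⁻¹ * g * x * t = t * (x⁻¹ * g * x)
      calc x⁻¹ * g * x * t = x⁻¹ * (g * (x * t * x⁻¹)) * x := by group
        _ = x⁻¹ * (x * t * x⁻¹ * g) * x := by rw [h2]
        _ = t * (x⁻¹ * g * x) := by group
    have h2 : x⁻¹ * g * x ≠ 1 := by
      intro h3
      apply hg1
      have : g = x * (x⁻¹ * g * x) * x⁻¹ := by group
      rw [this, h3]; group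
    rw [← h.fix _ h1 h2]
    refine (Nat.card_congr ?_).symm
    refine ⟨fun y => ⟨x • (y : Ω), ?_⟩, fun y => ⟨x⁻¹ • (y : Ω), ?_⟩, ?_, ?_⟩
    · have h4 := y.2
      rw [smul_smul]
      have h5 : g * x = x * (x⁻¹ * g * x) := by group
      rw [h5, mul_smul, h4]
    · have h4 := y.2
      rw [smul_smul]
      have h5 : x⁻¹ * g * x * x⁻¹ = x⁻¹ * g := by group
      rw [h5, mul_smul, h4]
    · intro y; simp
    · intro y; simp

section count

variable [Finite G] [Finite Ω]

/-- the number of points fixed by `t` is less than `|Ω|` -/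
theorem Hyp.fix_lt [FaithfulSMul G Ω] (h : Hyp Ω i t) : i < Nat.card Ω := by
  classical
  have h1 := h.fix t (Commute.refl t) h.ne
  rw [← h1]
  obtain ⟨x, hx⟩ : ∃ x : Ω, t • x ≠ x := by
    by_contra hc
    push Not at hc
    apply h.ne
    apply FaithfulSMul.eq_of_smul_eq_smul (α := Ω)
    intro x
    rw [hc x, one_smul]
  exact Finite.card_subtype_lt (p := fun x => t • x = x) hx

/-- Burnside's lemma for `C(t)`. -/
theorem Hyp.burnside (h : Hyp Ω i t) :
    ∃ k : ℕ, Nat.card Ω + (Nat.card (centralizer ({t} : Set G)) - 1) * i =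
      k * Nat.card (centralizer ({t} : Set G)) ∧ k = Nat.card (Quotient (orbitRel (centralizer ({t} : Set G)) Ω)) := by
  classical
  have : Fintype Ω := Fintype.ofFinite Ω
  have : Fintype (centralizer ({t} : Set G)) := Fintype.ofFinite _
  have : Fintype (Quotient (orbitRel (centralizer ({t} : Set G)) Ω)) := Fintype.ofFinite _
  have hb := MulAction.sum_card_fixedBy_eq_card_orbits_mul_card_group (centralizer ({t} : Set G)) Ω
  refine ⟨_, ?_, rfl⟩
  rw [Nat.card_eq_fintype_card, Nat.card_eq_fintype_card, Nat.card_eq_fintype_card, ← hb]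
  rw [← Finset.add_sum_erase Finset.univ _ (Finset.mem_univ 1)]
  congr 1
  · rw [Fintype.card_eq_nat_card, Fintype.card_eq_nat_card]
    apply Nat.card_congr
    refine (Equiv.subtypeUnivEquiv ?_).symm
    intro x
    simp [fixedBy]
  · rw [Finset.sum_congr rfl (g := fun _ => i), Finset.sum_const, smul_eq_mul, Finset.card_erase_of_mem (Finset.mem_univ _),
      Finset.card_univ]
    intro g hg
    rw [Fintype.card_eq_nat_card]
    have hg1 : (g : G) ≠ 1 := by
      intro h1
      exact (Finset.mem_erase.1 hg).1 (Subtype.ext h1)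
    have hc : Commute (g : G) t := by
      have := mem_centralizer_singleton_iff.1 g.2
      exact this
    exact h.fix g hc hg1

theorem Hyp.dvd [FaithfulSMul G Ω] (h : Hyp Ω i t) : Nat.card (centralizer ({t} : Set G)) ∣ Nat.card Ω - i := by
  obtain ⟨k, hk, -⟩ := h.burnside
  have hlt := h.fix_lt
  have hpos : 0 < Nat.card (centralizer ({t} : Set G)) := Nat.card_pos
  obtain ⟨c, hc⟩ : ∃ c, Nat.card (centralizer ({t} : Set G)) = c + 1 := ⟨_, (Nat.succ_pred_eq_of_pos hpos).symm⟩
  rw [hc] at hk ⊢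
  rw [Nat.add_sub_cancel] at hk
  have h1 : Nat.card Ω - i + (c + 1) * i = k * (c + 1) := by
    rw [← hk]
    have : (c + 1) * i = c * i + i := by ring
    omega
  have h2 : (c + 1) ∣ Nat.card Ω - i + (c + 1) * i := by rw [h1]; exact Dvd.intro_left k rfl
  exact (Nat.dvd_add_left (Dvd.intro _ rfl)).1 h2

theorem two_pretransitive_iff_st2 (h : Hyp Ω i t) {a b : Ω} (hab : a ≠ b) :
    Nat.card G = Nat.card {p : Ω × Ω // p.1 ≠ p.2} * Nat.card (st2 G a b) := by
  classical
  have : Fintype G := Fintype.ofFinite G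
  have : Fintype Ω := Fintype.ofFinite Ω
  have h1 := MulAction.card_orbit_mul_card_stabilizer_eq_card_group G ((a, b) : Ω × Ω)
  rw [Fintype.card_eq_nat_card, Fintype.card_eq_nat_card, Fintype.card_eq_nat_card] at h1
  rw [← h1]
  congr 1
  · apply Nat.card_congr
    refine Equiv.subtypeEquivRight ?_
    rintro ⟨c, d⟩
    constructor
    · rintro ⟨g, hg⟩
      have hg1 : g • a = c := congrArg Prod.fst hg
      have hg2 : g • b = d := congrArg Prod.snd hg
      show c ≠ d
      rintro rfl
      exact hab (MulAction.injective g (hg1.trans hg2.symm))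
    · intro hcd
      obtain ⟨g, hg1, hg2⟩ := h.two a b c d hab hcd
      exact ⟨g, Prod.ext hg1 hg2⟩
  · congr 1
    have : stabilizer G ((a, b) : Ω × Ω) = st2 G a b := by
      ext g
      rw [mem_stabilizer_iff, mem_st2]
      exact Prod.ext_iff
    rw [this]

theorem card_offDiag (Ω : Type*) [Finite Ω] :
    Nat.card {p : Ω × Ω // p.1 ≠ p.2} = Nat.card Ω * (Nat.card Ω - 1) := by
  classical
  have : Fintype Ω := Fintype.ofFinite Ω
  rw [Nat.card_eq_fintype_card, Nat.card_eq_fintype_card, Fintype.card_subtype]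
  have : (Finset.univ.filter fun p : Ω × Ω => p.1 ≠ p.2) = (Finset.univ : Finset Ω).offDiag := by
    ext p
    simp only [Finset.mem_offDiag, _root_.ne_eq, _root_.Finset.mem_filter, _root_.Finset.mem_univ, _root_.true_and]
  rw [this, Finset.offDiag_card, Finset.card_univ, Nat.mul_sub_one]

/-- the number of conjugates of `t` that map `a` to `b` does not depend on the pair -/
theorem Hyp.card_map_eq (h : Hyp Ω i t) {a b c d : Ω} (hab : a ≠ b) (hcd : c ≠ d) :
    Nat.card {u : G // IsConj t u ∧ u • a = b} = Nat.card {u : G // IsConj t u ∧ u • c = d} := by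
  obtain ⟨g, hg1, hg2⟩ := h.two a b c d hab hcd
  refine Nat.card_congr ?_
  refine ⟨fun u => ⟨g * u * g⁻¹, ?_, ?_⟩, fun u => ⟨g⁻¹ * u * g, ?_, ?_⟩, ?_, ?_⟩
  · exact u.2.1.trans (isConj_iff.2 ⟨g, rfl⟩)
  · have h1 : g⁻¹ • c = a := by rw [← hg1, inv_smul_smul]
    rw [mul_smul, mul_smul, h1, u.2.2, hg2]
  · refine u.2.1.trans (isConj_iff.2 ⟨g⁻¹, ?_⟩)
    group
  · have h1 : g⁻¹ • d = b := by rw [← hg2, inv_smul_smul]
    rw [mul_smul, mul_smul, hg1, u.2.2, h1]
  · intro u
    apply Subtype.ext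
    show g⁻¹ * (g * (u : G) * g⁻¹) * g = u
    group
  · intro u
    apply Subtype.ext
    show g * (g⁻¹ * (u : G) * g) * g⁻¹ = u
    group

/-- double counting of the pairs (conjugate of `t`, point moved by it) -/
theorem Hyp.double_count (h : Hyp Ω i t) {a b : Ω} (hab : a ≠ b) :
    Nat.card {u : G // IsConj t u} * (Nat.card Ω - i) =
      Nat.card {p : Ω × Ω // p.1 ≠ p.2} * Nat.card {u : G // IsConj t u ∧ u • a = b} := by
  classical
  have : Fintype G := Fintype.ofFinite G
  have : Fintype Ω := Fintype.ofFinite Ω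
  -- the set of pairs
  have e1 : Nat.card {q : G × Ω // IsConj t q.1 ∧ q.1 • q.2 ≠ q.2} =
      Nat.card {u : G // IsConj t u} * (Nat.card Ω - i) := by
    have e : {q : G × Ω // IsConj t q.1 ∧ q.1 • q.2 ≠ q.2} ≃
        (Σ u : {u : G // IsConj t u}, {x : Ω // (u : G) • x ≠ x}) :=
      ⟨fun q => ⟨⟨q.1.1, q.2.1⟩, ⟨q.1.2, q.2.2⟩⟩, fun q => ⟨⟨q.1.1, q.2.1⟩, q.1.2, q.2.2⟩, fun q => rfl, fun q => rfl⟩
    rw [Nat.card_congr e, Nat.card_eq_fintype_card, Fintype.card_sigma,
      Finset.sum_congr rfl (g := fun _ => Nat.card Ω - i), Finset.sum_const, smul_eq_mul, Finset.card_univ,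
      Fintype.card_eq_nat_card]
    rintro ⟨u, hu⟩ -
    obtain ⟨x, rfl⟩ := isConj_iff.1 hu
    have h1 := (h.conj x).fix _ (Commute.refl _) (h.conj x).ne
    rw [Fintype.card_subtype_compl, ← h1, Nat.card_eq_fintype_card, Nat.card_eq_fintype_card]
  have e2 : Nat.card {q : G × Ω // IsConj t q.1 ∧ q.1 • q.2 ≠ q.2} =
      Nat.card {p : Ω × Ω // p.1 ≠ p.2} * Nat.card {u : G // IsConj t u ∧ u • a = b} := by
    have e : {q : G × Ω // IsConj t q.1 ∧ q.1 • q.2 ≠ q.2} ≃
        (Σ p : {p : Ω × Ω // p.1 ≠ p.2}, {u : G // IsConj t u ∧ u • p.1.1 = p.1.2}) :=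
      { toFun := fun q => ⟨⟨(q.1.2, q.1.1 • q.1.2), fun h' => q.2.2 h'.symm⟩, ⟨q.1.1, q.2.1, rfl⟩⟩
        invFun := fun q => ⟨(q.2.1, q.1.1.1), q.2.2.1, fun h' => q.1.2 (h'.symm.trans q.2.2.2)⟩
        left_inv := fun q => rfl
        right_inv := by
          rintro ⟨⟨⟨x, y⟩, hxy⟩, ⟨u, hu, hux⟩⟩
          simp only at hux
          subst hux
          rfl }
    rw [Nat.card_congr e, Nat.card_eq_fintype_card, Fintype.card_sigma,
      Finset.sum_congr rfl (g := fun _ => Nat.card {u : G // IsConj t u ∧ u • a = b}), Finset.sum_const, smul_eq_mul,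
      Finset.card_univ, Fintype.card_eq_nat_card]
    rintro ⟨⟨x, y⟩, hxy⟩ -
    rw [Fintype.card_eq_nat_card]
    exact h.card_map_eq hxy hab
  rw [← e1, e2]

theorem card_conj_mul (t : G) :
    Nat.card {u : G // IsConj t u} * Nat.card (centralizer ({t} : Set G)) = Nat.card G := by
  classical
  have : Fintype G := Fintype.ofFinite G
  have : Fintype (ConjAct G) := Fintype.ofFinite _
  have h1 := MulAction.card_orbit_mul_card_stabilizer_eq_card_group (ConjAct G) t
  rw [Fintype.card_eq_nat_card, Fintype.card_eq_nat_card, Fintype.card_eq_nat_card] at h1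
  have h2 : Nat.card (ConjAct G) = Nat.card G := Nat.card_congr ConjAct.ofConjAct.toEquiv
  rw [← h2, ← h1]
  congr 1
  · apply Nat.card_congr
    refine Equiv.subtypeEquivRight ?_
    intro u
    rw [ConjAct.mem_orbit_conjAct]
    exact isConj_comm
  · rw [ConjAct.stabilizer_eq_centralizer]
    rfl

/-- elements interchanging `a` and `b` -/
theorem card_swap_le {a b : Ω} : Nat.card {g : G // g • a = b ∧ g • b = a} ≤ Nat.card (st2 G a b) := by
  classical
  by_cases hne : Nonempty {g : G // g • a = b ∧ g • b = a}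
  · obtain ⟨g₀, h1, h2⟩ := hne
    refine Nat.card_le_card_of_injective (fun g => (⟨g₀⁻¹ * g, ?_, ?_⟩ : st2 G a b)) ?_
    · show (g₀⁻¹ * (g : G)) • a = a
      rw [mul_smul, g.2.1, inv_smul_eq_iff, h1]
    · show (g₀⁻¹ * (g : G)) • b = b
      rw [mul_smul, g.2.2, inv_smul_eq_iff, h2]
    · intro g g' hgg
      have := congrArg Subtype.val hgg
      exact Subtype.ext (mul_left_cancel this)
  · rw [not_nonempty_iff] at hne
    rw [Nat.card_of_isEmpty]
    exact Nat.zero_le _

theorem Hyp.conj_sq (h : Hyp Ω i t) {u : G} (hu : IsConj t u) : u * u = 1 := by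
  obtain ⟨x, rfl⟩ := isConj_iff.1 hu
  exact (h.conj x).sq

theorem Hyp.main_count [FaithfulSMul G Ω] (h : Hyp Ω i t) {a b : Ω} (hab : a ≠ b) :
    Nat.card (centralizer ({t} : Set G)) = Nat.card Ω - i ∧
      Nat.card {u : G // IsConj t u ∧ u • a = b} = Nat.card (st2 G a b) := by
  classical
  set C := Nat.card (centralizer ({t} : Set G)) with hC
  set μ := Nat.card {u : G // IsConj t u ∧ u • a = b} with hμ
  set D := Nat.card (st2 G a b) with hD
  set P := Nat.card {p : Ω × Ω // p.1 ≠ p.2} with hP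
  have hCpos : 0 < C := Nat.card_pos
  have hDpos : 0 < D := Nat.card_pos
  have hPpos : 0 < P := by
    have : Nonempty {p : Ω × Ω // p.1 ≠ p.2} := ⟨⟨(a, b), hab⟩⟩
    exact Nat.card_pos
  have h1 := h.double_count hab
  have h2 := card_conj_mul t
  have h3 := two_pretransitive_iff_st2 h hab
  have h4 : μ * C = D * (Nat.card Ω - i) := by
    have h5 : P * (μ * C) = P * (D * (Nat.card Ω - i)) := by
      calc P * (μ * C) = (P * μ) * C := by ring
        _ = (Nat.card {u : G // IsConj t u} * (Nat.card Ω - i)) * C := by rw [← h1]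
        _ = (Nat.card {u : G // IsConj t u} * C) * (Nat.card Ω - i) := by ring
        _ = (P * D) * (Nat.card Ω - i) := by rw [h2, h3]
        _ = P * (D * (Nat.card Ω - i)) := by ring
    exact Nat.eq_of_mul_eq_mul_left hPpos h5
  have hkey : ∀ u : G, IsConj t u ∧ u • a = b → u • b = a := by
    rintro u ⟨hu1, hu2⟩
    rw [← hu2, smul_smul, h.conj_sq hu1, one_smul]
  have h5 : μ ≤ D := by
    refine le_trans ?_ card_swap_le
    refine Nat.card_le_card_of_injective
      (fun u : {u : G // IsConj t u ∧ u • a = b} =>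
        (⟨u.1, u.2.2, hkey u.1 u.2⟩ : {g : G // g • a = b ∧ g • b = a})) ?_
    intro u u' huu
    exact Subtype.ext (by simpa using huu)
  have h6 := h.dvd
  have h7 : 0 < Nat.card Ω - i := Nat.sub_pos_of_lt h.fix_lt
  have h8 : C ≤ Nat.card Ω - i := Nat.le_of_dvd h7 h6
  have h9 : Nat.card Ω - i ≤ C := by
    have h10 : D * (Nat.card Ω - i) ≤ D * C := by rw [← h4]; exact Nat.mul_le_mul_right C h5
    exact Nat.le_of_mul_le_mul_left h10 hDpos
  have h10 : C = Nat.card Ω - i := le_antisymm h8 h9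
  refine ⟨h10, ?_⟩
  rw [← h10] at h4
  exact Nat.eq_of_mul_eq_mul_right hCpos h4

/-- Every element interchanging two points is a conjugate of `t`. -/
theorem Hyp.swap_conj [FaithfulSMul G Ω] (h : Hyp Ω i t) {a b : Ω} (hab : a ≠ b) {g : G} (hg1 : g • a = b)
    (hg2 : g • b = a) : IsConj t g := by
  classical
  have h1 := (h.main_count hab).2
  set S₁ : Set G := {u : G | IsConj t u ∧ u • a = b}
  set S₂ : Set G := {g : G | g • a = b ∧ g • b = a}
  have hsub : S₁ ⊆ S₂ := by
    intro u hu
    refine ⟨hu.2, ?_⟩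
    rw [← hu.2, smul_smul, h.conj_sq hu.1, one_smul]
  have hcard : S₂.ncard ≤ S₁.ncard := by
    have e1 : S₂.ncard = Nat.card {g : G // g • a = b ∧ g • b = a} := rfl
    have e2 : S₁.ncard = Nat.card {u : G // IsConj t u ∧ u • a = b} := rfl
    rw [e1, e2, h1]
    exact card_swap_le
  have heq := Set.eq_of_subset_of_ncard_le hsub hcard (Set.toFinite _)
  have : g ∈ S₁ := by rw [heq]; exact ⟨hg1, hg2⟩
  exact this.1

end count

section structure_

variable [Finite G] [Finite Ω] [FaithfulSMul G Ω]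

/-- involutions are conjugates of `t` -/
theorem Hyp.conj_of_sq (h : Hyp Ω i t) {u : G} (hu : u ≠ 1) (hu2 : u * u = 1) : IsConj t u := by
  obtain ⟨x, hx⟩ : ∃ x : Ω, u • x ≠ x := by
    by_contra hc
    push Not at hc
    apply hu
    apply FaithfulSMul.eq_of_smul_eq_smul (α := Ω)
    intro x
    rw [hc x, one_smul]
  refine h.swap_conj (a := x) (b := u • x) hx.symm rfl ?_
  rw [smul_smul, hu2, one_smul]

theorem Hyp.exists_swap (h : Hyp Ω i t) {a b : Ω} (hab : a ≠ b) : ∃ s : G, s • a = b ∧ s • b = a := by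
  obtain ⟨s, h1, h2⟩ := h.two a b b a hab hab.symm
  exact ⟨s, h1, h2⟩

/-- an element interchanging `a` and `b` inverts `G_ab` -/
theorem Hyp.inv (h : Hyp Ω i t) {a b : Ω} (hab : a ≠ b) {s : G} (h1 : s • a = b) (h2 : s • b = a) {d : G}
    (hd : d ∈ st2 G a b) : s * d * s⁻¹ = d⁻¹ := by
  have h3 : s * s = 1 := h.conj_sq (h.swap_conj hab h1 h2)
  have h4 : (s * d) * (s * d) = 1 := by
    apply h.conj_sq
    apply h.swap_conj hab
    · rw [mul_smul, hd.1, h1]
    · rw [mul_smul, hd.2, h2]
  have h5 : s⁻¹ = s := inv_eq_of_mul_eq_one_left h3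
  rw [h5]
  apply eq_inv_of_mul_eq_one_left
  rw [← h4]
  group

theorem Hyp.comm (h : Hyp Ω i t) {a b : Ω} (hab : a ≠ b) {d e : G} (hd : d ∈ st2 G a b) (he : e ∈ st2 G a b) :
    d * e = e * d := by
  obtain ⟨s, h1, h2⟩ := h.exists_swap hab
  have e1 := h.inv hab h1 h2 hd
  have e2 := h.inv hab h1 h2 he
  have e3 := h.inv hab h1 h2 (mul_mem he hd)
  have e4 : s * (e * d) * s⁻¹ = (s * e * s⁻¹) * (s * d * s⁻¹) := by group
  rw [e4, e1, e2, mul_inv_rev] at e3
  -- e⁻¹ * d⁻¹ = d⁻¹ * e⁻¹
  have e5 := congrArg (·⁻¹) e3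
  simpa only [mul_inv_rev, _root_.inv_inv] using e5

end structure_

end Cfsg.Agent.H438.ConstFix
end

-- part: H438/ConstFixTwo
section
/-!
# Doubly transitive groups with an involution whose centraliser has constant fixity, II (helper438, S3726)

* `Hyp.trivial3_zero`, `Hyp.trivial3_two` : three-point stabilisers are trivial if `i = 0` or `i = 2`;
* `Hyp.card_sq` : `i = |{d ∈ G_ab : d² = 1}|` if `i ≥ 2`;
* `Hyp.elem` : if `i > 2` then `C(t)` is elementary abelian.
-/

set_option autoImplicit false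
set_option linter.unusedSectionVars false

namespace Cfsg.Agent.H438.ConstFix

open Subgroup MulAction

variable {G Ω : Type*} [Group G] [MulAction G Ω] {i : ℕ} {t : G}

/-- A 2-element moving a point has a power interchanging two points. -/
theorem exists_pow_swap {g : G} {k : ℕ} (hg : g ^ 2 ^ k = 1) {x : Ω} (hx : g • x ≠ x) :
    ∃ j : ℕ, g ^ 2 ^ j • x ≠ x ∧ g ^ 2 ^ j • (g ^ 2 ^ j • x) = x := by
  classical
  have hex : ∃ j : ℕ, g ^ 2 ^ j • x = x := ⟨k, by rw [hg, one_smul]⟩
  have h0 : Nat.find hex ≠ 0 := by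
    intro h
    have h1 := Nat.find_spec hex
    rw [h, pow_zero, pow_one] at h1
    exact hx h1
  obtain ⟨j, hj⟩ := Nat.exists_eq_succ_of_ne_zero h0
  refine ⟨j, ?_, ?_⟩
  · exact Nat.find_min hex (by omega)
  · have h1 := Nat.find_spec hex
    rw [hj] at h1
    rw [smul_smul, ← pow_add, ← two_mul, ← pow_succ']
    exact h1

theorem two_dvd_of_involutive {α : Type*} [Finite α] {f : α → α} (hf : Function.Involutive f) (hne : ∀ x, f x ≠ x) :
    2 ∣ Nat.card α := by
  classical
  have : Fintype α := Fintype.ofFinite α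
  have h1 : (hf.toPerm f) ^ 2 = 1 := by
    ext x
    rw [pow_two]
    exact hf x
  have h2 := Equiv.Perm.two_dvd_card_support h1
  have h3 : (hf.toPerm f).support = Finset.univ := by
    ext x
    simp only [Equiv.Perm.mem_support, Finset.mem_univ, iff_true]
    exact hne x
  rw [h3, Finset.card_univ] at h2
  rwa [Nat.card_eq_fintype_card]

section

variable [Finite G] [Finite Ω] [FaithfulSMul G Ω]

/-- number of fixed points of involutions -/
theorem Hyp.fix_inv (h : Hyp Ω i t) {u : G} (hu : u ≠ 1) (hu2 : u * u = 1) :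
    Nat.card {x : Ω // u • x = x} = i := by
  obtain ⟨x, rfl⟩ := isConj_iff.1 (h.conj_of_sq hu hu2)
  exact (h.conj x).fix _ (Commute.refl _) hu

/-- the hypothesis holds for every involution -/
theorem Hyp.of_inv (h : Hyp Ω i t) {u : G} (hu : u ≠ 1) (hu2 : u * u = 1) : Hyp Ω i u := by
  obtain ⟨x, rfl⟩ := isConj_iff.1 (h.conj_of_sq hu hu2)
  exact h.conj x

theorem Hyp.no_fix (h : Hyp Ω 0 t) {u : G} (hu : u ≠ 1) (hu2 : u * u = 1) (x : Ω) : u • x ≠ x := by
  intro hx
  have h3 := h.fix_inv hu hu2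
  have : Nonempty {x : Ω // u • x = x} := ⟨⟨x, hx⟩⟩
  have : 0 < Nat.card {x : Ω // u • x = x} := Nat.card_pos
  omega

theorem Hyp.trivial3_zero (h : Hyp Ω 0 t) {d : G} {a b c : Ω} (hab : a ≠ b) (hbc : b ≠ c) (hac : a ≠ c)
    (ha : d • a = a) (hb : d • b = b) (hc : d • c = c) : d = 1 := by
  classical
  by_contra hd
  -- `d` is no involution
  have hd2 : d * d ≠ 1 := fun h2 => h.no_fix hd h2 a ha
  have hinv : ∀ {x y : Ω}, x ≠ y → d • x = x → d • y = y → ∀ s : G, s • x = y → s • y = x →
      s * d * s⁻¹ = d⁻¹ := fun hxy hx hy s h1 h2 => h.inv hxy h1 h2 ⟨hx, hy⟩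
  -- no element of `C(d)` interchanges two fixed points of `d`
  have hno : ∀ g ∈ centralizer ({d} : Set G), ∀ x : Ω, d • x = x → g • x ≠ x → g • (g • x) ≠ x := by
    intro g hg x hx hgx hgg
    have hgd : g * d = d * g := (mem_centralizer_singleton_iff.1 hg)
    have hy : d • (g • x) = g • x := by rw [smul_smul, ← hgd, mul_smul, hx]
    have h1 := hinv hgx.symm hx hy g rfl hgg
    apply hd2
    rw [hgd, mul_inv_cancel_right] at h1
    nth_rw 1 [h1]
    exact inv_mul_cancel d
  -- 2-elements of `C(d)` fix all fixed points of `d`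
  have h2fix : ∀ g ∈ centralizer ({d} : Set G), ∀ k : ℕ, g ^ 2 ^ k = 1 → ∀ x : Ω, d • x = x → g • x = x := by
    intro g hg k hk x hx
    by_contra hgx
    obtain ⟨j, h1, h2⟩ := exists_pow_swap hk hgx
    exact hno _ (pow_mem hg _) x hx h1 h2
  -- `C(d)` is transitive on the fixed points
  have htr : ∀ x : Ω, d • x = x → ∃ g ∈ centralizer ({d} : Set G), g • a = x := by
    intro x hx
    by_cases hxa : x = a
    · exact ⟨1, one_mem _, by rw [one_smul, hxa]⟩
    obtain ⟨z, hz, hza, hzx⟩ : ∃ z : Ω, d • z = z ∧ z ≠ a ∧ z ≠ x := by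
      by_cases hxb : x = b
      · exact ⟨c, hc, hac.symm, by rw [hxb]; exact hbc.symm⟩
      · exact ⟨b, hb, hab.symm, fun h => hxb h.symm⟩
    obtain ⟨g₁, h1, h1'⟩ := h.exists_swap (a := a) (b := z) hza.symm
    obtain ⟨g₂, h2, h2'⟩ := h.exists_swap (a := z) (b := x) hzx
    have e1 := hinv hza.symm ha hz g₁ h1 h1'
    have e2 := hinv hzx hz hx g₂ h2 h2'
    refine ⟨g₂ * g₁, ?_, by rw [mul_smul, h1, h2]⟩
    rw [mem_centralizer_singleton_iff]
    have e3 : g₂ * g₁ * d * (g₂ * g₁)⁻¹ = d := by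
      have : g₂ * g₁ * d * (g₂ * g₁)⁻¹ = g₂ * (g₁ * d * g₁⁻¹) * g₂⁻¹ := by group
      rw [this, e1]
      have : g₂ * d⁻¹ * g₂⁻¹ = (g₂ * d * g₂⁻¹)⁻¹ := by group
      rw [this, e2, inv_inv]
    rw [mul_inv_eq_iff_eq_mul] at e3
    exact e3
  -- the number of fixed points is odd
  have : Fact (Nat.Prime 2) := ⟨Nat.prime_two⟩
  let S : Sylow 2 (centralizer ({d} : Set G)) := default
  have hS : (S : Subgroup (centralizer ({d} : Set G))) ≤ stabilizer (centralizer ({d} : Set G)) a := by
    intro g hg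
    obtain ⟨k, hk⟩ := S.2 ⟨g, hg⟩
    have hk' : (g : G) ^ 2 ^ k = 1 := by
      have := congrArg (fun z : (S : Subgroup (centralizer ({d} : Set G))) => ((z : centralizer ({d} : Set G)) : G)) hk
      simpa only [_root_.SubmonoidClass.mk_pow, _root_.SubmonoidClass.coe_pow, _root_.OneMemClass.coe_one] using this
    exact h2fix g g.2 k hk' a ha
  have hodd : ¬ 2 ∣ (stabilizer (centralizer ({d} : Set G)) a).index := by
    intro h2
    have h3 := h2.trans (Subgroup.index_dvd_of_le hS)
    exact S.not_dvd_index h3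
  have hcard : Nat.card {x : Ω // d • x = x} = (stabilizer (centralizer ({d} : Set G)) a).index := by
    rw [MulAction.index_stabilizer]
    apply Nat.card_congr
    refine Equiv.subtypeEquivRight ?_
    intro x
    constructor
    · intro hx
      obtain ⟨g, hg, hgx⟩ := htr x hx
      exact ⟨⟨g, hg⟩, hgx⟩
    · rintro ⟨g, hg⟩
      have hgd : (g : G) * d = d * g := (mem_centralizer_singleton_iff.1 g.2)
      have hg' : (g : G) • a = x := hg
      rw [← hg', smul_smul, ← hgd, mul_smul, ha]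
  -- but an element interchanging `a` and `b` acts on them without fixed points
  obtain ⟨s, hs1, hs2⟩ := h.exists_swap hab
  have hsd := hinv hab ha hb s hs1 hs2
  have hs := h.swap_conj hab hs1 hs2
  have hss := h.conj_sq hs
  have hs1' : s ≠ 1 := by
    rintro rfl
    rw [one_smul] at hs1
    exact hab hs1
  apply hodd
  rw [← hcard]
  have hmap : ∀ x : {x : Ω // d • x = x}, d • (s • (x : Ω)) = s • (x : Ω) := by
    intro x
    have e1 : d * s = s * d⁻¹ := by
      have : s * d⁻¹ * s⁻¹ = d := by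
        have h5 : s * d⁻¹ * s⁻¹ = (s * d * s⁻¹)⁻¹ := by group
        rw [h5, hsd, inv_inv]
      rw [mul_inv_eq_iff_eq_mul] at this
      exact this.symm
    rw [smul_smul, e1, mul_smul]
    congr 1
    rw [inv_smul_eq_iff]
    exact x.2.symm
  refine two_dvd_of_involutive (f := fun x : {x : Ω // d • x = x} => ⟨s • (x : Ω), hmap x⟩) ?_ ?_
  · intro x
    apply Subtype.ext
    show s • s • (x : Ω) = x
    rw [smul_smul, hss, one_smul]
  · intro x hx
    exact h.no_fix hs1' hss x (congrArg Subtype.val hx)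

/-! ### the case `i ≥ 2` -/

/-- the number of `d ∈ G_ab` with `d² = 1` is the same for all pairs -/
theorem Hyp.card_sq_eq (h : Hyp Ω i t) {a b c d : Ω} (hab : a ≠ b) (hcd : c ≠ d) :
    Nat.card {u : G // u ∈ st2 G a b ∧ u * u = 1} = Nat.card {u : G // u ∈ st2 G c d ∧ u * u = 1} := by
  obtain ⟨g, hg1, hg2⟩ := h.two a b c d hab hcd
  refine Nat.card_congr ?_
  have key1 : ∀ u : G, u ∈ st2 G a b → g * u * g⁻¹ ∈ st2 G c d := by
    intro u hu
    obtain ⟨h1, h2⟩ := mem_st2.1 hu
    refine ⟨?_, ?_⟩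
    · show (g * u * g⁻¹) • c = c
      rw [← hg1, smul_smul, inv_mul_cancel_right, mul_smul, h1]
    · show (g * u * g⁻¹) • d = d
      rw [← hg2, smul_smul, inv_mul_cancel_right, mul_smul, h2]
  have key2 : ∀ u : G, u ∈ st2 G c d → g⁻¹ * u * g ∈ st2 G a b := by
    intro u hu
    obtain ⟨h1, h2⟩ := mem_st2.1 hu
    refine ⟨?_, ?_⟩
    · show (g⁻¹ * u * g) • a = a
      rw [mul_smul, mul_smul, hg1, h1, ← hg1, inv_smul_smul]
    · show (g⁻¹ * u * g) • b = b
      rw [mul_smul, mul_smul, hg2, h2, ← hg2, inv_smul_smul]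
  refine ⟨fun u => ⟨g * u * g⁻¹, key1 _ u.2.1, ?_⟩, fun u => ⟨g⁻¹ * u * g, key2 _ u.2.1, ?_⟩, ?_, ?_⟩
  · have : g * (u : G) * g⁻¹ * (g * u * g⁻¹) = g * ((u : G) * u) * g⁻¹ := by group
    rw [this, u.2.2]; group
  · have : g⁻¹ * (u : G) * g * (g⁻¹ * u * g) = g⁻¹ * ((u : G) * u) * g := by group
    rw [this, u.2.2]; group
  · intro u
    apply Subtype.ext
    show g⁻¹ * (g * (u : G) * g⁻¹) * g = u
    group
  · intro u
    apply Subtype.ext
    show g * (g⁻¹ * (u : G) * g) * g⁻¹ = u
    group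

/-- `C(t)` is transitive on the fixed points of `t`. -/
theorem Hyp.comm_of_swap (h : Hyp Ω i t) {x y : Ω} (hxy : x ≠ y) (hx : t • x = x) (hy : t • y = y) {g : G}
    (h1 : g • x = y) (h2 : g • y = x) : g ∈ centralizer ({t} : Set G) := by
  rw [mem_centralizer_singleton_iff]
  have h3 := h.inv hxy h1 h2 (show t ∈ st2 G x y from ⟨hx, hy⟩)
  have h4 : t⁻¹ = t := inv_eq_of_mul_eq_one_left h.sq
  rw [h4, mul_inv_eq_iff_eq_mul] at h3
  exact h3

theorem Hyp.orbit_eq (h : Hyp Ω i t) {a : Ω} (ha : t • a = a) :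
    orbit (centralizer ({t} : Set G)) a = {x : Ω | t • x = x} := by
  ext x
  constructor
  · rintro ⟨g, hg⟩
    have hgd : (g : G) * t = t * g := (mem_centralizer_singleton_iff.1 g.2)
    have hg' : (g : G) • a = x := hg
    show t • x = x
    rw [← hg', smul_smul, ← hgd, mul_smul, ha]
  · intro hx
    by_cases hxa : x = a
    · rw [hxa]; exact mem_orbit_self a
    · obtain ⟨g, h1, h2⟩ := h.exists_swap (a := a) (b := x) (fun h => hxa h.symm)
      exact ⟨⟨g, h.comm_of_swap (fun h => hxa h.symm) ha hx h1 h2⟩, h1⟩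

theorem Hyp.card_stab_mul (h : Hyp Ω i t) {a : Ω} (ha : t • a = a) :
    Nat.card (stabilizer (centralizer ({t} : Set G)) a) * i = Nat.card (centralizer ({t} : Set G)) := by
  rw [← Subgroup.card_mul_index (stabilizer (centralizer ({t} : Set G)) a), MulAction.index_stabilizer, h.orbit_eq ha,
    ← h.fix t (Commute.refl t) h.ne]
  rfl

/-- stabilisers in `C(t)` of points moved by `t` -/
theorem Hyp.card_stab_moved (h : Hyp Ω i t) {a b : Ω} (hab : a ≠ b) {x : Ω} (hx : t • x ≠ x) :
    Nat.card (stabilizer (centralizer ({t} : Set G)) x) = Nat.card {u : G // u ∈ st2 G a b ∧ u * u = 1} := by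
  rw [h.card_sq_eq hab hx.symm]
  have htt : t • (t • x) = x := by rw [smul_smul, h.sq, one_smul]
  have hti : t⁻¹ = t := inv_eq_of_mul_eq_one_left h.sq
  refine Nat.card_congr ⟨fun g => ⟨g.1.1, ?_, ?_⟩, fun u => ⟨⟨u.1, ?_⟩, ?_⟩, fun g => rfl, fun u => rfl⟩
  · have hgd : (g.1 : G) * t = t * g.1 := (mem_centralizer_singleton_iff.1 g.1.2)
    have hgx : (g.1 : G) • x = x := g.2
    refine ⟨hgx, ?_⟩
    show (g.1 : G) • (t • x) = t • x
    rw [smul_smul, hgd, mul_smul, hgx]
  · have hgd : (g.1 : G) * t = t * g.1 := (mem_centralizer_singleton_iff.1 g.1.2)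
    have hgx : (g.1 : G) • x = x := g.2
    have hg2 : (g.1 : G) ∈ st2 G x (t • x) := by
      refine ⟨hgx, ?_⟩
      show (g.1 : G) • (t • x) = t • x
      rw [smul_smul, hgd, mul_smul, hgx]
    have h1 := h.inv hx.symm rfl htt hg2
    rw [← hgd, mul_inv_cancel_right] at h1
    nth_rw 1 [h1]
    exact inv_mul_cancel _
  · rw [mem_centralizer_singleton_iff]
    have h1 := h.inv hx.symm rfl htt u.2.1
    have h2 : (u.1 : G)⁻¹ = u.1 := inv_eq_of_mul_eq_one_left u.2.2
    rw [h2, mul_inv_eq_iff_eq_mul] at h1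
    exact h1.symm
  · exact u.2.1.1

/-- double counting of the pairs (element of `C(t)`, fixed point) -/
theorem Hyp.sum_stab (h : Hyp Ω i t) [Fintype Ω] :
    ∑ x : Ω, Nat.card (stabilizer (centralizer ({t} : Set G)) x) = Nat.card (centralizer ({t} : Set G)) * (i + 1) := by
  classical
  have : Fintype (centralizer ({t} : Set G)) := Fintype.ofFinite _
  have e1 : Nat.card {q : centralizer ({t} : Set G) × Ω // q.1 • q.2 = q.2} =
      ∑ x : Ω, Nat.card (stabilizer (centralizer ({t} : Set G)) x) := by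
    have e : {q : centralizer ({t} : Set G) × Ω // q.1 • q.2 = q.2} ≃
        (Σ x : Ω, stabilizer (centralizer ({t} : Set G)) x) :=
      ⟨fun q => ⟨q.1.2, ⟨q.1.1, q.2⟩⟩, fun q => ⟨(q.2.1, q.1), q.2.2⟩, fun q => rfl, fun q => rfl⟩
    rw [Nat.card_congr e, Nat.card_sigma]
  have e2 : Nat.card {q : centralizer ({t} : Set G) × Ω // q.1 • q.2 = q.2} =
      Nat.card (centralizer ({t} : Set G)) * (i + 1) := by
    have e : {q : centralizer ({t} : Set G) × Ω // q.1 • q.2 = q.2} ≃
        (Σ g : centralizer ({t} : Set G), {x : Ω // g • x = x}) :=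
      ⟨fun q => ⟨q.1.1, ⟨q.1.2, q.2⟩⟩, fun q => ⟨(q.1, q.2.1), q.2.2⟩, fun q => rfl, fun q => rfl⟩
    rw [Nat.card_congr e, Nat.card_sigma]
    rw [← Finset.add_sum_erase Finset.univ _ (Finset.mem_univ (1 : centralizer ({t} : Set G)))]
    have h1 : Nat.card {x : Ω // (1 : centralizer ({t} : Set G)) • x = x} = Nat.card Ω := by
      apply Nat.card_congr
      refine Equiv.subtypeUnivEquiv ?_
      intro x
      exact one_smul _ x
    rw [h1, Finset.sum_congr rfl (g := fun _ => i), Finset.sum_const, smul_eq_mul,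
      Finset.card_erase_of_mem (Finset.mem_univ _), Finset.card_univ, Fintype.card_eq_nat_card]
    · have hlt := h.fix_lt
      obtain ⟨x, hx⟩ : ∃ x : Ω, t • x ≠ x := by
        by_contra hc
        push Not at hc
        apply h.ne
        apply FaithfulSMul.eq_of_smul_eq_smul (α := Ω)
        intro x
        rw [hc x, one_smul]
      have hC := (h.main_count hx).1
      have hpos : 0 < Nat.card (centralizer ({t} : Set G)) := Nat.card_pos
      obtain ⟨c, hc⟩ : ∃ c, Nat.card (centralizer ({t} : Set G)) = c + 1 := ⟨_, (Nat.succ_pred_eq_of_pos hpos).symm⟩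
      rw [hc] at hC ⊢
      rw [Nat.add_sub_cancel]
      have h2 : Nat.card Ω = c + 1 + i := by omega
      rw [h2]; ring
    · intro g hg
      have hg1 : (g : G) ≠ 1 := by
        intro h1
        exact (Finset.mem_erase.1 hg).1 (Subtype.ext h1)
      exact h.fix g (mem_centralizer_singleton_iff.1 g.2) hg1
  rw [← e1, e2]

/-- `i = |{d ∈ G_ab : d² = 1}|` if `i ≥ 1`. -/
theorem Hyp.card_sq (h : Hyp Ω i t) (hi : 1 ≤ i) {a b : Ω} (hab : a ≠ b) :
    Nat.card {u : G // u ∈ st2 G a b ∧ u * u = 1} = i := by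
  classical
  have : Fintype Ω := Fintype.ofFinite Ω
  set e := Nat.card {u : G // u ∈ st2 G a b ∧ u * u = 1} with he
  set C := Nat.card (centralizer ({t} : Set G)) with hC
  have hs := h.sum_stab
  rw [← Finset.sum_filter_add_sum_filter_not Finset.univ (fun x : Ω => t • x = x)] at hs
  have hCpos : 0 < C := Nat.card_pos
  have hcount : (Finset.univ.filter (fun x : Ω => t • x = x)).card = i := by
    rw [← h.fix t (Commute.refl t) h.ne, Nat.card_eq_fintype_card, Fintype.card_subtype]
  have hcount' : (Finset.univ.filter (fun x : Ω => ¬ t • x = x)).card = Nat.card Ω - i := by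
    rw [Finset.filter_not, Finset.card_sdiff_of_subset (Finset.filter_subset _ _), hcount, Finset.card_univ,
      Nat.card_eq_fintype_card]
  have hx : ∃ x : Ω, t • x ≠ x := by
    by_contra hc
    push Not at hc
    apply h.ne
    apply FaithfulSMul.eq_of_smul_eq_smul (α := Ω)
    intro x
    rw [hc x, one_smul]
  obtain ⟨x, hx⟩ := hx
  have hCi := (h.main_count hx).1
  have h1 : ∑ x ∈ Finset.univ.filter (fun x : Ω => ¬ t • x = x), Nat.card (stabilizer (centralizer ({t} : Set G)) x)
      = C * e := by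
    rw [Finset.sum_congr rfl (g := fun _ => e), Finset.sum_const, hcount', smul_eq_mul, ← hCi]
    intro x hx
    exact h.card_stab_moved hab (Finset.mem_filter.1 hx).2
  have h2 : ∑ x ∈ Finset.univ.filter (fun x : Ω => t • x = x), Nat.card (stabilizer (centralizer ({t} : Set G)) x)
      = C := by
    obtain ⟨m, hm⟩ : ∃ m, ∀ x : Ω, t • x = x → Nat.card (stabilizer (centralizer ({t} : Set G)) x) = m := by
      have hne : (Finset.univ.filter (fun x : Ω => t • x = x)).Nonempty := by
        rw [← Finset.card_pos, hcount]; omega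
      obtain ⟨y, hy⟩ := hne
      have hy := (Finset.mem_filter.1 hy).2
      refine ⟨Nat.card (stabilizer (centralizer ({t} : Set G)) y), ?_⟩
      intro x hx
      have e1 := h.card_stab_mul hx
      have e2 := h.card_stab_mul hy
      exact Nat.eq_of_mul_eq_mul_right (by omega) (e1.trans e2.symm)
    rw [Finset.sum_congr rfl (g := fun _ => m), Finset.sum_const, hcount, smul_eq_mul]
    · have hne : (Finset.univ.filter (fun x : Ω => t • x = x)).Nonempty := by
        rw [← Finset.card_pos, hcount]; omega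
      obtain ⟨y, hy⟩ := hne
      have hy := (Finset.mem_filter.1 hy).2
      rw [← hm y hy, mul_comm]
      exact h.card_stab_mul hy
    · intro x hx
      exact hm x (Finset.mem_filter.1 hx).2
  rw [h1, h2] at hs
  have h3 : C * (1 + e) = C * (i + 1) := by rw [← hs]; ring
  have h4 := Nat.eq_of_mul_eq_mul_left hCpos h3
  omega

/-- double counting of the pairs (conjugate of `t`, ordered pair of fixed points) -/
theorem Hyp.card_conj_mul_i (h : Hyp Ω i t) (hi : 2 ≤ i) {a b : Ω} (hab : a ≠ b) :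
    Nat.card (centralizer ({t} : Set G)) = i * Nat.card (st2 G a b) := by
  classical
  have : Fintype G := Fintype.ofFinite G
  have : Fintype Ω := Fintype.ofFinite Ω
  set P := Nat.card {p : Ω × Ω // p.1 ≠ p.2} with hP
  set X := Nat.card {u : G // IsConj t u} with hX
  have hPpos : 0 < P := by
    have : Nonempty {p : Ω × Ω // p.1 ≠ p.2} := ⟨⟨(a, b), hab⟩⟩
    exact Nat.card_pos
  have hXpos : 0 < X := by
    have : Nonempty {u : G // IsConj t u} := ⟨⟨t, IsConj.refl t⟩⟩
    exact Nat.card_pos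
  -- the set
  have e1 : Nat.card {q : G × (Ω × Ω) // IsConj t q.1 ∧ q.2.1 ≠ q.2.2 ∧ q.1 ∈ st2 G q.2.1 q.2.2} =
      X * (i * (i - 1)) := by
    have e : {q : G × (Ω × Ω) // IsConj t q.1 ∧ q.2.1 ≠ q.2.2 ∧ q.1 ∈ st2 G q.2.1 q.2.2} ≃
        (Σ u : {u : G // IsConj t u}, {p : {x : Ω // (u : G) • x = x} × {x : Ω // (u : G) • x = x} // p.1 ≠ p.2}) :=
      { toFun := fun q => ⟨⟨q.1.1, q.2.1⟩, ⟨(⟨q.1.2.1, q.2.2.2.1⟩, ⟨q.1.2.2, q.2.2.2.2⟩), fun h' =>
          q.2.2.1 (congrArg Subtype.val h')⟩⟩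
        invFun := fun q => ⟨(q.1.1, (q.2.1.1.1, q.2.1.2.1)), q.1.2, fun h' => q.2.2 (Subtype.ext h'),
          q.2.1.1.2, q.2.1.2.2⟩
        left_inv := fun q => rfl
        right_inv := fun q => rfl }
    rw [Nat.card_congr e, Nat.card_sigma, Finset.sum_congr rfl (g := fun _ => i * (i - 1)), Finset.sum_const,
      smul_eq_mul, Finset.card_univ, Fintype.card_eq_nat_card]
    rintro ⟨u, hu⟩ -
    obtain ⟨x, rfl⟩ := isConj_iff.1 hu
    have h1 := (h.conj x).fix _ (Commute.refl _) (h.conj x).ne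
    rw [card_offDiag, h1]
  have e2 : Nat.card {q : G × (Ω × Ω) // IsConj t q.1 ∧ q.2.1 ≠ q.2.2 ∧ q.1 ∈ st2 G q.2.1 q.2.2} =
      P * (i - 1) := by
    have e : {q : G × (Ω × Ω) // IsConj t q.1 ∧ q.2.1 ≠ q.2.2 ∧ q.1 ∈ st2 G q.2.1 q.2.2} ≃
        (Σ p : {p : Ω × Ω // p.1 ≠ p.2}, {u : G // IsConj t u ∧ u ∈ st2 G p.1.1 p.1.2}) :=
      ⟨fun q => ⟨⟨q.1.2, q.2.2.1⟩, ⟨q.1.1, q.2.1, q.2.2.2⟩⟩, fun q => ⟨(q.2.1, q.1.1), q.2.2.1, q.1.2, q.2.2.2⟩,
        fun q => rfl, fun q => rfl⟩
    rw [Nat.card_congr e, Nat.card_sigma, Finset.sum_congr rfl (g := fun _ => i - 1), Finset.sum_const, smul_eq_mul,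
      Finset.card_univ, Fintype.card_eq_nat_card]
    rintro ⟨⟨x, y⟩, hxy⟩ -
    have h1 := h.card_sq (by omega) hxy
    -- involutions of `G_xy`
    have h2 : Nat.card {u : G // IsConj t u ∧ u ∈ st2 G x y} + 1 = Nat.card {u : G // u ∈ st2 G x y ∧ u * u = 1} := by
      rw [← Finite.card_option]
      refine Nat.card_congr (Equiv.ofBijective (fun o => match o with
        | none => (⟨1, one_mem _, one_mul 1⟩ : {u : G // u ∈ st2 G x y ∧ u * u = 1})
        | some u => ⟨u.1, u.2.2, h.conj_sq u.2.1⟩) ⟨?_, ?_⟩)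
      · intro o o' hoo
        have hne : ∀ u : {u : G // IsConj t u ∧ u ∈ st2 G x y}, (u : G) ≠ 1 := by
          intro u hu
          have h3 := u.2.1
          rw [hu, isConj_one_left] at h3
          exact h.ne h3
        match o, o', hoo with
        | none, none, _ => rfl
        | none, some u, h' => exact absurd (congrArg Subtype.val h').symm (hne u)
        | some u, none, h' => exact absurd (congrArg Subtype.val h') (hne u)
        | some u, some v, h' =>
          have h'' : (u : G) = v := by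
            have := congrArg (fun z : {u : G // u ∈ st2 G x y ∧ u * u = 1} => (z : G)) h'
            exact this
          exact congrArg some (Subtype.ext h'')
      · intro u
        by_cases hu : (u : G) = 1
        · exact ⟨none, Subtype.ext hu.symm⟩
        · exact ⟨some ⟨u.1, h.conj_of_sq hu u.2.2, u.2.1⟩, rfl⟩
    rw [h1] at h2
    show Nat.card {u : G // IsConj t u ∧ u ∈ st2 G x y} = i - 1
    omega
  have h1 : X * i = P := by
    have h2 : X * i * (i - 1) = P * (i - 1) := by rw [← e2, e1]; ring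
    exact Nat.eq_of_mul_eq_mul_right (by omega) h2
  have h2 := card_conj_mul t
  have h3 := two_pretransitive_iff_st2 h hab
  have h4 : X * Nat.card (centralizer ({t} : Set G)) = X * (i * Nat.card (st2 G a b)) := by
    rw [h2, h3, ← mul_assoc, h1]
  exact Nat.eq_of_mul_eq_mul_left hXpos h4

/-- If `i ≥ 2`, the stabiliser in `C(t)` of a fixed point `a` of `t` is `G_ab` for every other fixed point `b` of `t`. -/
theorem Hyp.stab_eq (h : Hyp Ω i t) (hi : 2 ≤ i) {a b : Ω} (hab : a ≠ b) (ha : t • a = a) (hb : t • b = b) (g : G) :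
    g ∈ st2 G a b ↔ g ∈ centralizer ({t} : Set G) ∧ g • a = a := by
  classical
  have hsub : ∀ g : G, g ∈ st2 G a b → g ∈ centralizer ({t} : Set G) ∧ g • a = a := by
    intro g hg
    refine ⟨?_, hg.1⟩
    rw [mem_centralizer_singleton_iff]
    exact h.comm hab hg ⟨ha, hb⟩
  refine ⟨hsub g, ?_⟩
  have h1 := h.card_stab_mul ha
  have h2 := h.card_conj_mul_i hi hab
  have h3 : Nat.card (stabilizer (centralizer ({t} : Set G)) a) = Nat.card (st2 G a b) := by
    apply Nat.eq_of_mul_eq_mul_right (show 0 < i by omega)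
    rw [h1, h2, mul_comm]
  set S₁ : Set G := (st2 G a b : Set G)
  set S₂ : Set G := {g : G | g ∈ centralizer ({t} : Set G) ∧ g • a = a}
  have hle : S₁ ⊆ S₂ := hsub
  have hc : S₂.ncard ≤ S₁.ncard := by
    have e1 : S₂.ncard = Nat.card (stabilizer (centralizer ({t} : Set G)) a) :=
      Nat.card_congr ⟨fun g => ⟨⟨g.1, g.2.1⟩, g.2.2⟩, fun g => ⟨g.1.1, g.1.2, g.2⟩, fun g => rfl, fun g => rfl⟩
    have e2 : S₁.ncard = Nat.card (st2 G a b) := rfl
    rw [e1, e2, h3]
  have heq := Set.eq_of_subset_of_ncard_le hle hc (Set.toFinite _)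
  intro hg
  have : g ∈ S₁ := by rw [heq]; exact hg
  exact this

/-- non-identity elements fixing two points fix exactly `i` points if `i ≥ 2` -/
theorem Hyp.fix_of_two (h : Hyp Ω i t) (hi : 2 ≤ i) {a b : Ω} (hab : a ≠ b) {g : G} (hg1 : g ≠ 1) (ha : g • a = a)
    (hb : g • b = b) : Nat.card {x : Ω // g • x = x} = i := by
  classical
  have : Fintype Ω := Fintype.ofFinite Ω
  -- an involution in `G_ab`
  have h1 := h.card_sq (by omega) hab
  obtain ⟨u, hu, hu1⟩ : ∃ u : {u : G // u ∈ st2 G a b ∧ u * u = 1}, (u : G) ≠ 1 ∧ True := by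
    by_contra hc
    push Not at hc
    have hsub : Subsingleton {u : G // u ∈ st2 G a b ∧ u * u = 1} := by
      refine ⟨fun u v => Subtype.ext ?_⟩
      by_cases hu : (u : G) = 1
      · by_cases hv : (v : G) = 1
        · rw [hu, hv]
        · exact (hc v hv).elim
      · exact (hc u hu).elim
    have := Finite.card_le_one_iff_subsingleton.2 hsub
    omega
  have hu' := h.of_inv hu u.2.2
  apply hu'.fix g _ hg1
  exact h.comm hab ⟨ha, hb⟩ u.2.1

theorem Hyp.trivial3_two (h : Hyp Ω 2 t) {d : G} {a b c : Ω} (hab : a ≠ b) (hbc : b ≠ c) (hac : a ≠ c)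
    (ha : d • a = a) (hb : d • b = b) (hc : d • c = c) : d = 1 := by
  classical
  by_contra hd
  have h1 := h.fix_of_two (le_refl 2) hab hd ha hb
  have : Fintype Ω := Fintype.ofFinite Ω
  have hinj : Function.Injective (![⟨a, ha⟩, ⟨b, hb⟩, ⟨c, hc⟩] : Fin 3 → {x : Ω // d • x = x}) := by
    intro x y hxy
    have e : ∀ k : Fin 3, ((![⟨a, ha⟩, ⟨b, hb⟩, ⟨c, hc⟩] : Fin 3 → {x : Ω // d • x = x}) k : Ω) = ![a, b, c] k := by
      intro k
      fin_cases k <;> rfl
    have h2 := congrArg Subtype.val hxy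
    rw [e, e] at h2
    fin_cases x <;> fin_cases y <;> simp_all only [_root_.ne_eq, _root_.Nat.card_eq_fintype_card, _root_.Nat.succ_eq_add_one, _root_.Nat.reduceAdd, _root_.Fin.zero_eta, _root_.Fin.isValue, _root_.Matrix.cons_val_zero, _root_.Fin.mk_one, _root_.Matrix.cons_val_one, _root_.Subtype.mk.injEq, _root_.Fin.reduceFinMk, _root_.Matrix.cons_val, _root_.one_ne_zero, _root_.not_true_eq_false, _root_.Fin.reduceEq]
  have h2 := Nat.card_le_card_of_injective _ hinj
  rw [h1] at h2
  simp at h2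

/-- if `i > 2`, then all elements of `C(t)` are involutions or `1` -/
theorem Hyp.elem (h : Hyp Ω i t) (hi : 3 ≤ i) : ∀ c ∈ centralizer ({t} : Set G), c * c = 1 := by
  classical
  have : Fintype Ω := Fintype.ofFinite Ω
  -- two fixed points
  have hfix := h.fix t (Commute.refl t) h.ne
  obtain ⟨⟨a, ha⟩, ⟨b, hb⟩, hab⟩ : ∃ x y : {x : Ω // t • x = x}, x ≠ y := by
    have : 1 < Nat.card {x : Ω // t • x = x} := by omega
    have := Finite.one_lt_card_iff_nontrivial.1 this
    exact exists_pair_ne _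
  have hab : a ≠ b := fun h' => hab (Subtype.ext h')
  -- elements outside of the stabiliser are involutions inverting `G_ab`
  have key : ∀ g ∈ centralizer ({t} : Set G), g • a ≠ a → g * g = 1 ∧ ∀ d ∈ st2 G a b, g * d * g⁻¹ = d⁻¹ := by
    intro g hg hga
    have hgt : g * t = t * g := mem_centralizer_singleton_iff.1 hg
    have hc : t • (g • a) = g • a := by rw [smul_smul, ← hgt, mul_smul, ha]
    obtain ⟨s, hs1, hs2⟩ := h.exists_swap (a := a) (b := g • a) hga.symm
    have hsc := h.comm_of_swap hga.symm ha hc hs1 hs2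
    -- `s⁻¹ g` fixes `a`, so it lies in `G_{a, ga}`
    have h1 : s⁻¹ * g ∈ st2 G a (g • a) := by
      rw [h.stab_eq (by omega) hga.symm ha hc]
      refine ⟨mul_mem (inv_mem hsc) hg, ?_⟩
      rw [mul_smul, inv_smul_eq_iff, hs1]
    have h2 : g • (g • a) = a := by
      have h3 : (s⁻¹ * g) • (g • a) = g • a := h1.2
      rw [mul_smul, inv_smul_eq_iff, hs2] at h3
      exact h3
    refine ⟨h.conj_sq (h.swap_conj hga.symm rfl h2), ?_⟩
    intro d hd
    have h3 : d ∈ st2 G a (g • a) := by
      rw [h.stab_eq (by omega) hga.symm ha hc]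
      exact (h.stab_eq (by omega) hab ha hb d).1 hd
    exact h.inv hga.symm rfl h2 h3
  -- two different cosets
  obtain ⟨⟨c, hc⟩, hca, hcb⟩ : ∃ x : {x : Ω // t • x = x}, (x : Ω) ≠ a ∧ (x : Ω) ≠ b := by
    by_contra hcon
    push Not at hcon
    have : Nat.card {x : Ω // t • x = x} ≤ 2 := by
      have h1 : Nat.card {x : Ω // t • x = x} ≤ Nat.card Bool := by
        refine Nat.card_le_card_of_injective (fun x => decide ((x : Ω) = a)) ?_
        intro x y hxy
        apply Subtype.ext
        simp only [decide_eq_decide] at hxy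
        by_cases hx : (x : Ω) = a
        · rw [hx, hxy.1 hx]
        · rw [hcon x hx, hcon y (fun hy => hx (hxy.2 hy))]
      simpa only [_root_.Nat.card_eq_fintype_card, _root_.ge_iff_le, _root_.Fintype.card_bool] using h1
    omega
  obtain ⟨g₁, hg₁⟩ : ∃ g : centralizer ({t} : Set G), g • a = b := by
    have : b ∈ orbit (centralizer ({t} : Set G)) a := by rw [h.orbit_eq ha]; exact hb
    exact this
  obtain ⟨g₂, hg₂⟩ : ∃ g : centralizer ({t} : Set G), g • b = c := by
    have : c ∈ orbit (centralizer ({t} : Set G)) b := by rw [h.orbit_eq hb]; exact hc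
    exact this
  have hg₁' : (g₁ : G) • a = b := hg₁
  have hg₂' : (g₂ : G) • b = c := hg₂
  have k1 := key g₁ g₁.2 (by rw [hg₁']; exact hab.symm)
  have k3 := key (g₂ * g₁) (mul_mem g₂.2 g₁.2) (by rw [mul_smul, hg₁', hg₂']; exact hca)
  -- `g₂` moves `a`: otherwise it is in `G_ab`
  have k2 := key g₂ g₂.2 (by
    intro h1
    have h2 : (g₂ : G) ∈ st2 G a b := (h.stab_eq (by omega) hab ha hb g₂).2 ⟨g₂.2, h1⟩
    have h3 : (g₂ : G) • b = b := h2.2
    exact hcb (hg₂'.symm.trans h3))
  have hsq : ∀ d ∈ st2 G a b, d * d = 1 := by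
    intro d hd
    have e1 := k3.2 d hd
    have e2 : (g₂ : G) * g₁ * d * (g₂ * g₁ : G)⁻¹ = g₂ * (g₁ * d * (g₁ : G)⁻¹) * (g₂ : G)⁻¹ := by group
    rw [e2, k1.2 d hd, k2.2 _ (inv_mem hd), inv_inv] at e1
    nth_rw 1 [e1]
    exact inv_mul_cancel d
  intro g hg
  by_cases hga : g • a = a
  · exact hsq g ((h.stab_eq (by omega) hab ha hb g).2 ⟨hg, hga⟩)
  · exact (key g hg hga).1

end

end Cfsg.Agent.H438.ConstFix
end

-- part: H438/ConstFixThree
section
/-!
# Doubly transitive groups with an involution whose centraliser has constant fixity, III (helper438, S3726)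

* `reg_of_solvable` : a doubly transitive group with a nontrivial solvable normal subgroup has a regular normal subgroup;
* `reg_of_sharp` : the same for sharply doubly transitive groups (S0680);
* `Hyp.st2_le` : a normal subgroup of even order contains all two-point stabilisers;
* `eq_top_of_st2_le` : in a doubly transitive group with trivial three-point stabilisers and nontrivial two-point
  stabilisers a normal subgroup containing them is everything.
-/

set_option autoImplicit false
set_option linter.unusedSectionVars false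

namespace Cfsg.Agent.H438.ConstFix

open Subgroup MulAction

/-- The conclusion "`G` has a regular normal subgroup". -/
def HasReg (G Ω : Type*) [Group G] [MulAction G Ω] : Prop :=
  ∃ R : Subgroup G, R.Normal ∧ (∀ x y : Ω, ∃ r ∈ R, r • x = y) ∧ ∀ x : Ω, ∀ r ∈ R, r • x = x → r = 1

variable {G Ω : Type*} [Group G] [MulAction G Ω] {i : ℕ} {t : G}

/-- A nontrivial normal subgroup of a doubly transitive group is transitive. -/
theorem trans_of_normal [FaithfulSMul G Ω] (two : ∀ a b c d : Ω, a ≠ b → c ≠ d → ∃ g : G, g • a = c ∧ g • b = d)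
    {N : Subgroup G} (hN : N.Normal) (hN1 : N ≠ ⊥) (x y : Ω) : ∃ r ∈ N, r • x = y := by
  by_cases hxy : x = y
  · exact ⟨1, one_mem _, by rw [one_smul, hxy]⟩
  obtain ⟨m, hm, hm1⟩ : ∃ m : G, m ∈ N ∧ m ≠ 1 := by
    obtain ⟨m, hm⟩ := Subgroup.ne_bot_iff_exists_ne_one.1 hN1
    exact ⟨(m : G), m.2, fun h => hm (Subtype.ext h)⟩
  obtain ⟨z, hz⟩ : ∃ z : Ω, m • z ≠ z := by
    by_contra hc
    push Not at hc
    apply hm1
    apply FaithfulSMul.eq_of_smul_eq_smul (α := Ω)
    intro x
    rw [hc x, one_smul]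
  obtain ⟨g, h1, h2⟩ := two z (m • z) x y hz.symm hxy
  refine ⟨g * m * g⁻¹, hN.conj_mem m hm g, ?_⟩
  have h3 : g⁻¹ • x = z := by rw [← h1, inv_smul_smul]
  rw [mul_smul, mul_smul, h3, h2]

/-- A transitive commutative normal subgroup is regular. -/
theorem reg_of_comm [FaithfulSMul G Ω] (two : ∀ a b c d : Ω, a ≠ b → c ≠ d → ∃ g : G, g • a = c ∧ g • b = d)
    {N : Subgroup G} (hN : N.Normal) (hN1 : N ≠ ⊥) (hcomm : ∀ x ∈ N, ∀ y ∈ N, x * y = y * x) : HasReg G Ω := by
  refine ⟨N, hN, fun x y => trans_of_normal two hN hN1 x y, ?_⟩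
  intro x r hr hrx
  apply FaithfulSMul.eq_of_smul_eq_smul (α := Ω)
  intro y
  obtain ⟨s, hs, hsx⟩ := trans_of_normal two hN hN1 x y
  rw [one_smul, ← hsx, smul_smul, hcomm r hr s hs, mul_smul, hrx]

theorem reg_of_solvable [Finite G] [FaithfulSMul G Ω]
    (two : ∀ a b c d : Ω, a ≠ b → c ≠ d → ∃ g : G, g • a = c ∧ g • b = d)
    {N : Subgroup G} (hN : N.Normal) (hN1 : N ≠ ⊥) (hs : Group.IsSolvable N) : HasReg G Ω := by
  classical
  -- a minimal nontrivial solvable normal subgroup
  obtain ⟨M, hM⟩ := ((Set.toFinite {M : Subgroup G | M.Normal ∧ M ≠ ⊥ ∧ Group.IsSolvable M})).exists_minimal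
    ⟨N, hN, hN1, hs⟩
  obtain ⟨hMn, hM1, hMs⟩ := hM.prop
  apply reg_of_comm two hMn hM1
  have h1 : ⁅M, M⁆ = ⊥ := by
    by_contra hne
    have hle : ⁅M, M⁆ ≤ M := Subgroup.commutator_le_self M
    have hn : (⁅M, M⁆).Normal := Subgroup.commutator_normal M M
    have h2 : M ≤ ⁅M, M⁆ := by
      refine hM.le_of_le ⟨hn, hne, ?_⟩ hle
      have := hMs
      exact Group.isSolvable_of_isSolvable_injective (f := Subgroup.inclusion hle) (Subgroup.inclusion_injective hle)
    -- `M` is perfect and solvable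
    have h3 : ⁅M, M⁆ = M := le_antisymm hle h2
    apply hM1
    have h4 : commutator M = ⊤ := by
      apply Subgroup.map_injective M.subtype_injective
      rw [_root_.commutator_def, Subgroup.map_commutator, ← MonoidHom.range_eq_map, Subgroup.range_subtype, h3]
    obtain ⟨n, hn⟩ := hMs.solvable
    have h5 : ∀ k : ℕ, derivedSeries M k = ⊤ := by
      intro k
      induction k with
      | zero => rfl
      | succ k ih => rw [derivedSeries_succ, ih, ← _root_.commutator_def, h4]
    rw [h5] at hn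
    rw [eq_bot_iff]
    intro x hx
    have h6 : (⟨x, hx⟩ : M) ∈ (⊤ : Subgroup M) := Subgroup.mem_top _
    rw [hn, Subgroup.mem_bot] at h6
    rw [Subgroup.mem_bot]
    exact congrArg Subtype.val h6
  intro x hx y hy
  have h2 := Subgroup.commutator_mem_commutator hx hy
  rw [h1, Subgroup.mem_bot] at h2
  exact commutatorElement_eq_one_iff_mul_comm.1 h2

/-- Sharply doubly transitive groups have a regular normal subgroup (S0680). -/
theorem reg_of_sharp [Finite G] [Finite Ω] [FaithfulSMul G Ω]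
    (two : ∀ a b c d : Ω, a ≠ b → c ≠ d → ∃ g : G, g • a = c ∧ g • b = d) {a b : Ω} (hab : a ≠ b)
    (h1 : ∀ g : G, g • a = a → g • b = b → g = 1) : HasReg G Ω := by
  classical
  have : Fintype Ω := Fintype.ofFinite Ω
  set f := MulAction.toPermHom G Ω with hf
  have hfi : Function.Injective f := MulAction.toPerm_injective
  set e : G ≃* f.range := MonoidHom.ofInjective hfi with he
  have hact : ∀ (g : G) (x : Ω), (e g) • x = g • x := fun g x => rfl
  have hact' : ∀ (p : f.range) (x : Ω), (e.symm p) • x = p • x := by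
    intro p x
    rw [← hact, MulEquiv.apply_symm_apply]
  have htwo : MulAction.IsMultiplyPretransitive f.range Ω 2 := by
    rw [MulAction.is_two_pretransitive_iff]
    intro a b c d hab hcd
    obtain ⟨g, h1, h2⟩ := two a b c d hab hcd
    exact ⟨e g, h1, h2⟩
  have hsharp : ∀ x : Fin 2 ↪ Ω, MulAction.stabilizer f.range x = ⊥ := by
    intro x
    rw [eq_bot_iff]
    intro p hp
    rw [mem_stabilizer_iff] at hp
    have e0 : p • x 0 = x 0 := by
      conv_rhs => rw [← hp]
      rfl
    have e1 : p • x 1 = x 1 := by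
      conv_rhs => rw [← hp]
      rfl
    have hx : x 0 ≠ x 1 := fun h => by simpa using x.injective h
    obtain ⟨g, hg1, hg2⟩ := two a b (x 0) (x 1) hab hx
    have h2 : g⁻¹ * e.symm p * g = 1 := by
      apply h1
      · rw [mul_smul, mul_smul, hg1, hact', e0, ← hg1, inv_smul_smul]
      · rw [mul_smul, mul_smul, hg2, hact', e1, ← hg2, inv_smul_smul]
    have h3 : e.symm p = 1 := by
      have : e.symm p = g * (g⁻¹ * e.symm p * g) * g⁻¹ := by group
      rw [this, h2]; group
    rw [Subgroup.mem_bot]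
    have := congrArg e h3
    rwa [MulEquiv.apply_symm_apply, map_one] at this
  have hcard : 2 ≤ Fintype.card Ω := by
    have : Nontrivial Ω := ⟨⟨a, b, hab⟩⟩
    exact Fintype.one_lt_card
  obtain ⟨p, j, hp, -, -, hP⟩ := Cfsg.Agent.S0680.result f.range hsharp hcard
  have : Fact p.Prime := ⟨hp⟩
  let P : Sylow p f.range := default
  obtain ⟨hPn, -, -, htr, hst, -⟩ := hP ⟨hp⟩ P
  refine ⟨(P : Subgroup f.range).comap e.toMonoidHom, hPn.comap _, ?_, ?_⟩
  · intro x y
    obtain ⟨r, hr⟩ := MulAction.exists_smul_eq (P : Subgroup f.range) x y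
    refine ⟨e.symm (r : f.range), ?_, ?_⟩
    · rw [Subgroup.mem_comap]
      show e (e.symm (r : f.range)) ∈ (P : Subgroup f.range)
      rw [MulEquiv.apply_symm_apply]
      exact r.2
    · rw [hact']
      exact hr
  · intro x r hr hrx
    rw [Subgroup.mem_comap] at hr
    have h2 : (⟨e r, hr⟩ : (P : Subgroup f.range)) ∈ MulAction.stabilizer (P : Subgroup f.range) x := hrx
    rw [hst x, Subgroup.mem_bot] at h2
    have h3 : e r = 1 := congrArg Subtype.val h2
    exact e.injective (h3.trans (map_one e).symm)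

section

variable [Finite G] [Finite Ω] [FaithfulSMul G Ω]

/-- A normal subgroup of even order contains the elements interchanging two points and the two-point stabilisers. -/
theorem Hyp.swap_mem (h : Hyp Ω i t) {N : Subgroup G} (hN : N.Normal) (h2 : 2 ∣ Nat.card N) {a b : Ω} (hab : a ≠ b)
    {g : G} (h1 : g • a = b) (h1' : g • b = a) : g ∈ N := by
  have : Fact (Nat.Prime 2) := ⟨Nat.prime_two⟩
  obtain ⟨u, hu⟩ := exists_prime_orderOf_dvd_card' 2 h2
  have hu1 : (u : G) ≠ 1 := by
    intro h'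
    have : u = 1 := Subtype.ext h'
    rw [this, orderOf_one] at hu
    norm_num at hu
  have hu2 : (u : G) * u = 1 := by
    have h3 : u ^ 2 = 1 := by rw [← hu]; exact pow_orderOf_eq_one u
    have := congrArg Subtype.val h3
    simpa only [pow_two, _root_.Subgroup.coe_mul, _root_.OneMemClass.coe_one] using this
  have h3 := h.conj_of_sq hu1 hu2
  have h4 := h.swap_conj hab h1 h1'
  obtain ⟨x, hx⟩ := isConj_iff.1 (h3.symm.trans h4)
  rw [← hx]
  exact hN.conj_mem u u.2 x

theorem Hyp.st2_le (h : Hyp Ω i t) {N : Subgroup G} (hN : N.Normal) (h2 : 2 ∣ Nat.card N) {a b : Ω} (hab : a ≠ b) :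
    st2 G a b ≤ N := by
  intro d hd
  obtain ⟨s, hs1, hs2⟩ := h.exists_swap hab
  have h1 := h.swap_mem hN h2 hab hs1 hs2
  have h3 : s * d ∈ N := by
    apply h.swap_mem hN h2 hab
    · rw [mul_smul, hd.1, hs1]
    · rw [mul_smul, hd.2, hs2]
  have := mul_mem (inv_mem h1) h3
  rwa [inv_mul_cancel_left] at this

theorem card_of_two (two : ∀ a b c d : Ω, a ≠ b → c ≠ d → ∃ g : G, g • a = c ∧ g • b = d) {a b : Ω} (hab : a ≠ b) :
    Nat.card G = Nat.card {p : Ω × Ω // p.1 ≠ p.2} * Nat.card (st2 G a b) := by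
  classical
  have h0 : stabilizer G ((a, b) : Ω × Ω) = st2 G a b := by
    ext g
    rw [mem_stabilizer_iff, mem_st2]
    exact Prod.ext_iff
  rw [← h0, ← Subgroup.card_mul_index (stabilizer G ((a, b) : Ω × Ω)), MulAction.index_stabilizer, mul_comm]
  congr 1
  apply Nat.card_congr
  refine Equiv.subtypeEquivRight ?_
  rintro ⟨c, d⟩
  constructor
  · rintro ⟨g, hg⟩
    have hg1 : g • a = c := congrArg Prod.fst hg
    have hg2 : g • b = d := congrArg Prod.snd hg
    show c ≠ d
    rintro rfl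
    exact hab (MulAction.injective g (hg1.trans hg2.symm))
  · intro hcd
    obtain ⟨g, hg1, hg2⟩ := two a b c d hab hcd
    exact ⟨g, Prod.ext hg1 hg2⟩

theorem card_stab_of_two (two : ∀ a b c d : Ω, a ≠ b → c ≠ d → ∃ g : G, g • a = c ∧ g • b = d) {a b : Ω}
    (hab : a ≠ b) : Nat.card G = Nat.card Ω * Nat.card (stabilizer G a) := by
  rw [← Subgroup.card_mul_index (stabilizer G a), MulAction.index_stabilizer, mul_comm]
  congr 1
  have h1 : orbit G a = Set.univ := by
    rw [Set.eq_univ_iff_forall]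
    intro x
    by_cases hx : x = a
    · rw [hx]; exact mem_orbit_self a
    · obtain ⟨g, hg, -⟩ := two a b x a hab hx
      exact ⟨g, hg⟩
  rw [h1, Set.ncard_univ]

/-- In a doubly transitive group with trivial three-point stabilisers a normal subgroup containing the (nontrivial)
two-point stabilisers is everything. -/
theorem eq_top_of_st2_le (two : ∀ a b c d : Ω, a ≠ b → c ≠ d → ∃ g : G, g • a = c ∧ g • b = d)
    (h3 : ∀ g : G, ∀ a b c : Ω, a ≠ b → b ≠ c → a ≠ c → g • a = a → g • b = b → g • c = c → g = 1)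
    {N : Subgroup G} (hN : N.Normal) (hN1 : N ≠ ⊥) {a b : Ω} (hab : a ≠ b)
    (hle : ∀ c : Ω, a ≠ c → st2 G a c ≤ N) (hne : st2 G a b ≠ ⊥) : N = ⊤ := by
  classical
  have : Fintype Ω := Fintype.ofFinite Ω
  set A := stabilizer G a with hA
  set K := (A ⊓ N) with hK
  set D := Nat.card (st2 G a b) with hD
  have hD2 : 2 ≤ D := by
    have : Nontrivial (st2 G a b) := (Subgroup.nontrivial_iff_ne_bot _).2 hne
    exact Finite.one_lt_card
  have hDeq : ∀ c : Ω, a ≠ c → Nat.card (st2 G a c) = D := by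
    intro c hc
    obtain ⟨g, hg1, hg2⟩ := two a b a c hab hc
    refine Nat.card_congr (⟨fun u => ⟨g⁻¹ * u * g, ?_, ?_⟩, fun u => ⟨g * u * g⁻¹, ?_, ?_⟩, ?_, ?_⟩ :
      st2 G a c ≃ st2 G a b)
    · show (g⁻¹ * (u : G) * g) • a = a
      have h1 : (u : G) • a = a := u.2.1
      have h2 : g⁻¹ • a = a := by rw [inv_smul_eq_iff, hg1]
      rw [mul_smul, mul_smul, hg1, h1, h2]
    · show (g⁻¹ * (u : G) * g) • b = b
      have h1 : (u : G) • c = c := u.2.2
      have h2 : g⁻¹ • c = b := by rw [inv_smul_eq_iff, hg2]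
      rw [mul_smul, mul_smul, hg2, h1, h2]
    · show (g * (u : G) * g⁻¹) • a = a
      have h1 : (u : G) • a = a := u.2.1
      have h2 : g⁻¹ • a = a := by rw [inv_smul_eq_iff, hg1]
      rw [mul_smul, mul_smul, h2, h1, hg1]
    · show (g * (u : G) * g⁻¹) • c = c
      have h1 : (u : G) • b = b := u.2.2
      have h2 : g⁻¹ • c = b := by rw [inv_smul_eq_iff, hg2]
      rw [mul_smul, mul_smul, h2, h1, hg2]
    · intro u
      apply Subtype.ext
      show g * (g⁻¹ * (u : G) * g) * g⁻¹ = u
      group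
    · intro u
      apply Subtype.ext
      show g⁻¹ * (g * (u : G) * g⁻¹) * g = u
      group
  -- `|G_a| = (n - 1) D`
  have hn1 : 1 ≤ Nat.card Ω := Nat.card_pos_iff.2 ⟨⟨a⟩, inferInstance⟩
  have hAcard : Nat.card A = (Nat.card Ω - 1) * D := by
    have h1 := card_of_two two hab
    have h2 := card_stab_of_two two hab
    rw [h1, card_offDiag, mul_assoc] at h2
    exact (Nat.eq_of_mul_eq_mul_left (by omega) h2).symm
  -- the elements of `G_a` fixing a second point
  have hKcard : 1 + (Nat.card Ω - 1) * (D - 1) ≤ Nat.card K := by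
    have e1 : Nat.card (Option (Σ c : {c : Ω // a ≠ c}, {d : G // d ∈ st2 G a (c : Ω) ∧ d ≠ 1})) =
        1 + (Nat.card Ω - 1) * (D - 1) := by
      have : Fintype G := Fintype.ofFinite G
      rw [Finite.card_option, Nat.card_sigma, Finset.sum_congr rfl (g := fun _ => D - 1), Finset.sum_const,
        smul_eq_mul, Finset.card_univ, add_comm]
      · congr 2
        rw [Fintype.card_subtype]
        have : (Finset.univ.filter fun x : Ω => a ≠ x) = Finset.univ.erase a := by
          ext x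
          simp only [eq_comm, _root_.ne_eq, _root_.Finset.mem_filter, _root_.Finset.mem_univ, _root_.true_and, _root_.Finset.mem_erase, _root_.and_true]
        rw [this, Finset.card_erase_of_mem (Finset.mem_univ _), Finset.card_univ, Nat.card_eq_fintype_card]
      · rintro ⟨c, hc⟩ -
        rw [← hDeq c hc]
        have h2 : Nat.card {d : G // d ∈ st2 G a c ∧ d ≠ 1} + 1 = Nat.card (st2 G a c) := by
          rw [← Finite.card_option]
          refine Nat.card_congr (Equiv.ofBijective (fun o => match o with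
            | none => (1 : st2 G a c)
            | some u => ⟨u.1, u.2.1⟩) ⟨?_, ?_⟩)
          · intro o o' hoo
            match o, o', hoo with
            | none, none, _ => rfl
            | none, some u, h' => exact absurd (congrArg Subtype.val h').symm u.2.2
            | some u, none, h' => exact absurd (congrArg Subtype.val h') u.2.2
            | some u, some v, h' =>
              have h'' : (u : G) = v := congrArg (fun z : st2 G a c => (z : G)) h'
              exact congrArg some (Subtype.ext h'')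
          · intro u
            by_cases hu : (u : G) = 1
            · exact ⟨none, Subtype.ext hu.symm⟩
            · exact ⟨some ⟨u.1, u.2, hu⟩, rfl⟩
        show Nat.card {d : G // d ∈ st2 G a c ∧ d ≠ 1} = Nat.card (st2 G a c) - 1
        omega
    rw [← e1]
    refine Nat.card_le_card_of_injective (fun o => match o with
      | none => (1 : K)
      | some u => ⟨u.2.1, u.2.2.1.1, hle u.1.1 u.1.2 u.2.2.1⟩) ?_
    intro o o' hoo
    match o, o', hoo with
    | none, none, _ => rfl
    | none, some u, h' => exact absurd (congrArg Subtype.val h').symm u.2.2.2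
    | some u, none, h' => exact absurd (congrArg Subtype.val h') u.2.2.2
    | some ⟨⟨c, hc⟩, ⟨d, hd, hd1⟩⟩, some ⟨⟨c', hc'⟩, ⟨d', hd', hd1'⟩⟩, h' =>
      have h'' : d = d' := congrArg Subtype.val h'
      subst h''
      by_cases hcc : c = c'
      · subst hcc
        rfl
      · exact absurd (h3 d a c c' hc hcc hc' hd.1 hd.2 hd'.2) hd1
  have hKA : K ≤ A := inf_le_left
  obtain ⟨k, hk⟩ := Subgroup.card_dvd_of_le hKA
  rw [hAcard] at hk
  have hn2 : 1 ≤ Nat.card Ω - 1 := by
    have : Nontrivial Ω := ⟨⟨a, b, hab⟩⟩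
    have : 1 < Nat.card Ω := Finite.one_lt_card
    omega
  have hk1 : k ≤ 1 := by
    by_contra hk2
    push Not at hk2
    obtain ⟨e, he⟩ : ∃ e, D = e + 2 := ⟨D - 2, by omega⟩
    obtain ⟨m, hm⟩ : ∃ m, Nat.card Ω - 1 = m := ⟨_, rfl⟩
    rw [he, hm] at hk hKcard
    have e1 : e + 2 - 1 = e + 1 := by omega
    rw [e1] at hKcard
    have h5 : Nat.card K * 2 ≤ Nat.card K * k := Nat.mul_le_mul_left _ hk2
    rw [← hk] at h5
    nlinarith only [hKcard, h5]
  have hKeq : K = A := by
    apply Subgroup.eq_of_le_of_card_ge hKA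
    rw [hAcard, hk]
    calc Nat.card K * k ≤ Nat.card K * 1 := Nat.mul_le_mul_left _ hk1
      _ = Nat.card K := mul_one _
  have hAN : A ≤ N := by
    rw [← hKeq]
    exact inf_le_right
  rw [eq_top_iff]
  intro g _
  obtain ⟨r, hr, hra⟩ := trans_of_normal two hN hN1 a (g • a)
  have h5 : r⁻¹ * g ∈ A := by
    rw [hA, mem_stabilizer_iff, mul_smul, inv_smul_eq_iff, hra]
  have h6 := mul_mem hr (hAN h5)
  rwa [mul_inv_cancel_left] at h6

end

end Cfsg.Agent.H438.ConstFix
end

-- part: H438/ConstFixFour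
section
/-!
# Doubly transitive groups with an involution whose centraliser has constant fixity, IV (helper438, S3726)

* `se_of_one` : the point stabilisers are strongly embedded if every involution fixes exactly one point;
* `psu_card` : the order of `PSU₃(q)`;
* `Hyp.not_psu` : the group is not `PSU₃(q)`, `q ≥ 4` even, if `i = 1`.
-/

set_option autoImplicit false
set_option linter.unusedSectionVars false

namespace Cfsg.Agent.H438.ConstFix

open Subgroup MulAction

theorem exists_inv {X : Type*} [Group X] [Finite X] (h2 : 2 ∣ Nat.card X) : ∃ u : X, u ≠ 1 ∧ u * u = 1 := by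
  have : Fact (Nat.Prime 2) := ⟨Nat.prime_two⟩
  obtain ⟨u, hu⟩ := exists_prime_orderOf_dvd_card' 2 h2
  refine ⟨u, ?_, ?_⟩
  · rintro rfl
    rw [orderOf_one] at hu
    norm_num at hu
  · rw [← pow_two, ← hu]
    exact pow_orderOf_eq_one u

/-- Point stabilisers of a transitive group of even order in which every involution fixes exactly one point are
strongly embedded. -/
theorem se_of_one {X Ω : Type*} [Group X] [MulAction X Ω] [Finite X] [Finite Ω]
    (htr : ∀ x y : Ω, ∃ g : X, g • x = y) {a b : Ω} (hab : a ≠ b)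
    (hinv : ∀ u : X, u ≠ 1 → u * u = 1 → Nat.card {x : Ω // u • x = x} = 1) (h2 : 2 ∣ Nat.card X) :
    Cfsg.IsStronglyEmbedded (stabilizer X a) := by
  classical
  have : Fact (Nat.Prime 2) := ⟨Nat.prime_two⟩
  refine ⟨?_, ?_, ?_⟩
  · intro h
    obtain ⟨g, hg⟩ := htr a b
    have : g ∈ stabilizer X a := by rw [h]; exact Subgroup.mem_top g
    rw [mem_stabilizer_iff, hg] at this
    exact hab this.symm
  · obtain ⟨u, hu1, hu2⟩ := exists_inv h2
    have h3 := hinv u hu1 hu2
    have hne : Nonempty {x : Ω // u • x = x} := by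
      by_contra hc
      rw [not_nonempty_iff] at hc
      rw [Nat.card_of_isEmpty] at h3
      omega
    obtain ⟨⟨x, hx⟩⟩ := hne
    obtain ⟨g, hg⟩ := htr x a
    have h4 : g * u * g⁻¹ ∈ stabilizer X a := by
      rw [mem_stabilizer_iff, mul_smul, mul_smul]
      have : g⁻¹ • a = x := by rw [inv_smul_eq_iff, hg]
      rw [this, hx, hg]
    have h5 : (⟨g * u * g⁻¹, h4⟩ : stabilizer X a) ^ 2 = 1 := by
      apply Subtype.ext
      show (g * u * g⁻¹) ^ 2 = 1
      have : (g * u * g⁻¹) ^ 2 = g * (u * u) * g⁻¹ := by rw [pow_two]; group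
      rw [this, hu2]; group
    have h6 : (⟨g * u * g⁻¹, h4⟩ : stabilizer X a) ≠ 1 := by
      intro h
      apply hu1
      have h7 : g * u * g⁻¹ = 1 := congrArg Subtype.val h
      have : u = g⁻¹ * (g * u * g⁻¹) * g := by group
      rw [this, h7]; group
    have h7 := orderOf_eq_prime h5 h6
    have h8 := _root_.orderOf_dvd_natCard (⟨g * u * g⁻¹, h4⟩ : stabilizer X a)
    rw [h7] at h8
    exact even_iff_two_dvd.2 h8
  · intro g hg
    rw [← Nat.not_even_iff_odd, even_iff_two_dvd]
    intro h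
    obtain ⟨u, hu1, hu2⟩ := exists_inv h
    have hu1' : (u : X) ≠ 1 := fun h => hu1 (Subtype.ext h)
    have hu2' : (u : X) * u = 1 := congrArg Subtype.val hu2
    have h3 := hinv u hu1' hu2'
    have h4 : (u : X) • a = a := u.2.1
    have h5 : (u : X) • (g • a) = g • a := by
      obtain ⟨v, hv, hvu⟩ := u.2.2
      have hv' : v • a = a := hv
      have hvu' : g * v * g⁻¹ = (u : X) := hvu
      rw [← hvu', smul_smul]
      have : g * v * g⁻¹ * g = g * v := by group
      rw [this, mul_smul, hv']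
    have h6 : Subsingleton {x : Ω // (u : X) • x = x} := (Finite.card_le_one_iff_subsingleton).1 (le_of_eq h3)
    have h7 : (⟨a, h4⟩ : {x : Ω // (u : X) • x = x}) = ⟨g • a, h5⟩ := Subsingleton.elim _ _
    have h8 : a = g • a := congrArg Subtype.val h7
    exact hg h8.symm

/-- The order of `PSU₃(q)`. -/
theorem psu_card {F : Type*} [Field F] [Fintype F] {q : ℕ} (hF : Fintype.card F = q ^ 2) (h1 : 1 ≤ q) :
    Nat.gcd 3 (q + 1) * Nat.card (Cfsg.PSU 3 F q) = q ^ 3 * ((q ^ 3 + 1) * (q ^ 2 - 1)) := by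
  have h := Cfsg.Agent.S0280.result (F := F) hF 3 (by norm_num)
  rw [Finset.prod_range_succ, Finset.prod_range_succ, Finset.prod_range_one] at h
  rw [if_pos (by decide), if_neg (by decide), if_pos (by decide)] at h
  apply Nat.eq_of_mul_eq_mul_left (show 0 < q + 1 by omega)
  calc (q + 1) * (Nat.gcd 3 (q + 1) * Nat.card (Cfsg.PSU 3 F q))
      = Nat.gcd 3 (q + 1) * ((q + 1) * Nat.card (Cfsg.PSU 3 F q)) := by ring
    _ = _ := by rw [h]; norm_num only [_root_.pow_one]; ring

theorem arith {Q E w M : ℕ} (hE : 0 < E) (hEQ : E < Q) (hM : (1 + Q * w) * M = (Q + 1) * E) (hw : 1 ≤ w) : w = 1 := by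
  have h1 : M ≤ E := by
    by_contra h
    push Not at h
    have : (Q + 1) * E < (1 + Q * w) * M := by
      calc (Q + 1) * E < (Q + 1) * M := Nat.mul_lt_mul_of_pos_left h (by omega)
        _ ≤ (1 + Q * w) * M := Nat.mul_le_mul_right _ (by nlinarith only [hw])
    omega
  have h2 : M = E := by
    have e1 : (Q * (w * M) + M) % Q = (Q * E + E) % Q := by
      congr 1
      calc Q * (w * M) + M = (1 + Q * w) * M := by ring
        _ = (Q + 1) * E := hM
        _ = Q * E + E := by ring
    rw [Nat.mul_add_mod, Nat.mul_add_mod, Nat.mod_eq_of_lt hEQ, Nat.mod_eq_of_lt (by omega)] at e1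
    exact e1
  subst h2
  have h3 := Nat.eq_of_mul_eq_mul_right hE hM
  have h4 : Q * w = Q * 1 := by omega
  exact Nat.eq_of_mul_eq_mul_left (by omega) h4

section

variable {G Ω : Type*} [Group G] [MulAction G Ω] {t : G} [Finite G] [Finite Ω] [FaithfulSMul G Ω] 

/-- The group is not `PSU₃(q)`, `q ≥ 4` even, if `i = 1`. -/
theorem Hyp.not_psu (h : Hyp Ω 1 t) {F : Type*} [Field F] [Fintype F] {q : ℕ} (hF : Fintype.card F = q ^ 2)
    (hq : Even q) (h4 : 4 ≤ q) (e : G ≃* Cfsg.PSU 3 F q) : False := by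
  classical
  have : Fact (Nat.Prime 2) := ⟨Nat.prime_two⟩
  obtain ⟨m, hm, hqm⟩ := Cfsg.Agent.LieExceptional.PSUThreeWitness.exists_pow_two hF hq h4
  obtain ⟨z, x, y, hz1, hz2, hy, hx, hyz, hxz, hyx⟩ := Cfsg.Agent.LieExceptional.PSUThreeWitness.exists_witness F hF hq h4
  have hcard := psu_card hF (by omega)
  rw [← Nat.card_congr e.toEquiv] at hcard
  -- a point moved by `t`
  obtain ⟨a, ha⟩ : ∃ a : Ω, t • a ≠ a := by
    by_contra hc
    push Not at hc
    apply h.ne
    apply FaithfulSMul.eq_of_smul_eq_smul (α := Ω)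
    intro x
    rw [hc x, one_smul]
  have hcount := card_of_two h.two ha
  have hC := (h.main_count ha).1
  have hlt := h.fix_lt
  -- `q³` divides `|C(t)|`
  have hd : q ^ 3 ∣ Nat.card G := by
    have h1 : q ^ 3 ∣ Nat.gcd 3 (q + 1) * Nat.card G := by rw [hcard]; exact Dvd.intro _ rfl
    refine Nat.Coprime.dvd_of_dvd_mul_left ?_ h1
    have h2 : Nat.Coprime 2 (Nat.gcd 3 (q + 1)) := by
      refine Nat.Coprime.coprime_dvd_right (Nat.gcd_dvd_left 3 (q + 1)) (by norm_num)
    have h3 : q ^ 3 = 2 ^ (m * 3) := by rw [hqm, ← pow_mul]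
    rw [h3]
    exact h2.pow_left _
  obtain ⟨S⟩ : Nonempty (Sylow 2 G) := inferInstance
  have hS : q ^ 3 ∣ Nat.card S := by
    rw [hqm, ← pow_mul] at hd ⊢
    obtain ⟨n, hn⟩ := IsPGroup.iff_card.1 S.2
    rw [hn]
    apply pow_dvd_pow
    have h1 : Nat.card S = 2 ^ (Nat.card G).factorization 2 := S.card_eq_multiplicity
    have h2 : n = (Nat.card G).factorization 2 := Nat.pow_right_injective (le_refl 2) (hn.symm.trans h1)
    rw [h2]
    exact (Nat.Prime.pow_dvd_iff_le_factorization Nat.prime_two Nat.card_pos.ne').1 hd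
  have hSC : q ^ 3 ∣ Nat.card (centralizer ({t} : Set G)) := by
    have hSn : Nontrivial (S : Subgroup G) := by
      rw [← Finite.one_lt_card_iff_nontrivial]
      have h1 : 0 < Nat.card (S : Subgroup G) := Nat.card_pos
      have h2 : 4 ^ 3 ≤ q ^ 3 := Nat.pow_le_pow_left h4 3
      have h3 := Nat.le_of_dvd h1 hS
      omega
    have hcn : Nontrivial (center (S : Subgroup G)) := S.2.center_nontrivial
    have h2d : 2 ∣ Nat.card (center (S : Subgroup G)) := by
      obtain ⟨n, hn, hc⟩ := (S.2.to_subgroup (center (S : Subgroup G))).nontrivial_iff_card.1 hcn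
      rw [hc]
      exact dvd_pow_self 2 (by omega)
    obtain ⟨u, hu1, hu2⟩ := exists_inv h2d
    have hu1' : ((u : (S : Subgroup G)) : G) ≠ 1 := fun h' => hu1 (Subtype.ext (Subtype.ext h'))
    have hu2' : ((u : (S : Subgroup G)) : G) * (u : (S : Subgroup G)) = 1 :=
      congrArg (fun z : center (S : Subgroup G) => ((z : (S : Subgroup G)) : G)) hu2
    obtain ⟨g, hg⟩ := isConj_iff.1 (h.conj_of_sq hu1' hu2')
    have h1 : (S : Subgroup G) ≤ centralizer ({((u : (S : Subgroup G)) : G)} : Set G) := by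
      intro s hs
      rw [mem_centralizer_singleton_iff]
      have h3 := Subgroup.mem_center_iff.1 u.2 ⟨s, hs⟩
      exact congrArg Subtype.val h3
    have h2 : Nat.card (centralizer ({t} : Set G)) = Nat.card (centralizer ({((u : (S : Subgroup G)) : G)} : Set G)) := by
      have hu' := h.of_inv hu1' hu2'
      rw [hC, (hu'.main_count ha).1]
    rw [h2]
    exact hS.trans (Subgroup.card_dvd_of_le h1)
  obtain ⟨w, hw⟩ := hSC
  have hn : Nat.card Ω = 1 + q ^ 3 * w := by
    rw [← hw, hC]; omega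
  have hw1 : 1 ≤ w := by
    rcases Nat.eq_zero_or_pos w with h0 | h0
    · rw [h0, mul_zero] at hw
      have : 0 < Nat.card (centralizer ({t} : Set G)) := Nat.card_pos
      omega
    · exact h0
  have hQ : 0 < q ^ 3 := by positivity
  have hq2 : 4 ^ 2 ≤ q ^ 2 := Nat.pow_le_pow_left h4 2
  have hq23 : q ^ 2 - 1 < q ^ 3 := by
    have : q ^ 2 ≤ q ^ 3 := Nat.pow_le_pow_right (by omega) (by norm_num)
    omega
  have hkey : (1 + q ^ 3 * w) * (w * Nat.card (st2 G (t • a) a) * Nat.gcd 3 (q + 1)) = (q ^ 3 + 1) * (q ^ 2 - 1) := by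
    apply Nat.eq_of_mul_eq_mul_left hQ
    rw [← hcard, hcount, card_offDiag, hn]
    have : 1 + q ^ 3 * w - 1 = q ^ 3 * w := by omega
    rw [this]; ring
  have hw2 : w = 1 := arith (by omega) hq23 hkey hw1
  rw [hw2, mul_one] at hw
  -- but the centraliser of `z` contains `y`
  have hy1 : y = 1 := by
    have hz1' : e.symm z ≠ 1 := fun h' => hz1 (by rw [← e.apply_symm_apply z, h', map_one])
    have hz2' : e.symm z * e.symm z = 1 := by rw [← map_mul, hz2, map_one]
    have hu' := h.of_inv hz1' hz2'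
    have h1 : Nat.card (centralizer ({e.symm z} : Set G)) = q ^ 3 := by
      rw [(hu'.main_count ha).1, ← hC, hw]
    have h2 : e.symm y ∈ centralizer ({e.symm z} : Set G) := by
      rw [mem_centralizer_singleton_iff, ← map_mul, ← map_mul, hyz]
    have h3 : orderOf (e.symm y) ∣ q ^ 3 := by
      rw [← h1]
      exact Subgroup.orderOf_dvd_natCard _ h2
    have h5 : orderOf (e.symm y) ∣ q + 1 := by
      apply orderOf_dvd_of_pow_eq_one
      rw [← map_pow, hy, map_one]
    have h6 : Nat.Coprime (q ^ 3) (q + 1) := by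
      apply Nat.Coprime.pow_left
      simp
    have h7 := Nat.eq_one_of_dvd_coprimes h6 h3 h5
    rw [orderOf_eq_one_iff] at h7
    rw [← e.apply_symm_apply y, h7, map_one]
  apply hyx
  rw [hy1, one_mul, mul_one]

end

end Cfsg.Agent.H438.ConstFix
end
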