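import Mathlib
import Cfsg.Agent.LieClassical.SLGen
import Cfsg.Agent.ClassicalGeometry.AutPSL.Main
import Cfsg.Agent.StdRank2.OutField
set_option linter.all false

-- part: H438/SLThree
section
/-!
# The group `SL₃(F)` (helper438, S3727)

* `tv v φ` : the transvection `w ↦ w + φ(w) v`;
* `top_of`, `ax_of`, `ce_of` : overgroups of the group of upper unitriangular matrices;
-/

set_option autoImplicit false
set_option linter.unusedSectionVars false
set_option linter.unusedSimpArgs false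

namespace Cfsg.Agent.H438.SLThree

open Matrix

variable {F : Type*} [Field F]

/-- `SL₃(F)` -/
abbrev S (F : Type*) [Field F] := SpecialLinearGroup (Fin 3) F

/-- Right action on row vectors. -/
def row (φ : Fin 3 → F) (g : S F) : Fin 3 → F := φ ᵥ* g.1

theorem smul_eq (g : S F) (v : Fin 3 → F) : g • v = g.1 *ᵥ v := rfl

theorem row_one (φ : Fin 3 → F) : row φ (1 : S F) = φ := by
  exact vecMul_one φ

theorem row_mul (φ : Fin 3 → F) (g h : S F) : row φ (g * h) = row (row φ g) h := by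
  change φ ᵥ* (g.1 * h.1) = (φ ᵥ* g.1) ᵥ* h.1
  rw [vecMul_vecMul]

theorem row_dot (φ v : Fin 3 → F) (g : S F) : row φ g ⬝ᵥ v = φ ⬝ᵥ (g • v) := by
  rw [smul_eq]
  unfold row
  rw [dotProduct_mulVec]

theorem row_smul (c : F) (φ : Fin 3 → F) (g : S F) : row (c • φ) g = c • row φ g := by
  unfold row
  rw [smul_vecMul]

theorem row_add (φ ψ : Fin 3 → F) (g : S F) : row (φ + ψ) g = row φ g + row ψ g := by
  unfold row
  rw [add_vecMul]

theorem smul_smul_comm' (c : F) (v : Fin 3 → F) (g : S F) : g • (c • v) = c • (g • v) := by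
  rw [smul_eq, smul_eq, mulVec_smul]

theorem dot_inv (φ v : Fin 3 → F) (g : S F) : row φ g⁻¹ ⬝ᵥ (g • v) = φ ⬝ᵥ v := by
  rw [row_dot, inv_smul_smul]

theorem ext_smul {g h : S F} (H : ∀ v : Fin 3 → F, g • v = h • v) : g = h :=
  Cfsg.Agent.LieClassical.SLGen.smul_ext H

theorem det_tv {v φ : Fin 3 → F} (h : φ ⬝ᵥ v = 0) : (1 + vecMulVec v φ).det = 1 := by
  rw [det_fin_three]
  simp only [dotProduct, Fin.sum_univ_three] at h
  simp only [Matrix.add_apply, vecMulVec_apply, one_apply, Fin.isValue, Fin.reduceEq, if_false, if_true, zero_add]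
  linear_combination h

/-- The transvection as an element of `SL₃(F)`. -/
def tvm {v φ : Fin 3 → F} (h : φ ⬝ᵥ v = 0) : S F := ⟨1 + vecMulVec v φ, det_tv h⟩

open Classical in
/-- The transvection `w ↦ w + φ(w) v` if `φ(v) = 0` (and `1` otherwise). -/
noncomputable def tv (v φ : Fin 3 → F) : S F :=
  if h : φ ⬝ᵥ v = 0 then tvm h else 1

theorem tv_coe {v φ : Fin 3 → F} (h : φ ⬝ᵥ v = 0) : (tv v φ).1 = 1 + vecMulVec v φ := by
  have : tv v φ = tvm h := by
    unfold tv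
    rw [dif_pos h]
  rw [this]
  rfl

theorem tv_smul {v φ : Fin 3 → F} (h : φ ⬝ᵥ v = 0) (w : Fin 3 → F) : tv v φ • w = w + (φ ⬝ᵥ w) • v := by
  rw [smul_eq, tv_coe h, add_mulVec, one_mulVec]
  congr 1
  ext i
  rw [vecMulVec_mulVec]
  simp [mul_comm]

theorem row_tv {v φ : Fin 3 → F} (h : φ ⬝ᵥ v = 0) (ψ : Fin 3 → F) : row ψ (tv v φ) = ψ + (ψ ⬝ᵥ v) • φ := by
  unfold row
  rw [tv_coe h, vecMul_add, vecMul_one, vecMul_vecMulVec]

theorem conj_tv {v φ : Fin 3 → F} (h : φ ⬝ᵥ v = 0) (g : S F) : g * tv v φ * g⁻¹ = tv (g • v) (row φ g⁻¹) := by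
  apply ext_smul
  intro w
  rw [tv_smul (by rw [dot_inv, h]), mul_smul, mul_smul, tv_smul h, smul_add, smul_inv_smul, smul_smul_comm', row_dot]

/-- `X` contains all transvections with axis `φ`. -/
def Ax (X : Subgroup (S F)) (φ : Fin 3 → F) : Prop := ∀ w, φ ⬝ᵥ w = 0 → tv w φ ∈ X

/-- `X` contains all transvections with centre `v`. -/
def Ce (X : Subgroup (S F)) (v : Fin 3 → F) : Prop := ∀ ψ, ψ ⬝ᵥ v = 0 → tv v ψ ∈ X

theorem Ax.conj {X : Subgroup (S F)} {φ : Fin 3 → F} (h : Ax X φ) {g : S F} (hg : g ∈ X) : Ax X (row φ g) := by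
  intro w hw
  have h1 : φ ⬝ᵥ (g • w) = 0 := by rw [← row_dot, hw]
  have h2 := X.mul_mem (X.mul_mem (X.inv_mem hg) (h _ h1)) hg
  have h3 := conj_tv h1 g⁻¹
  rw [inv_inv, inv_smul_smul] at h3
  rwa [h3] at h2

theorem Ce.conj {X : Subgroup (S F)} {v : Fin 3 → F} (h : Ce X v) {g : S F} (hg : g ∈ X) : Ce X (g • v) := by
  intro ψ hψ
  have h1 : row ψ g ⬝ᵥ v = 0 := by rw [row_dot, hψ]
  have h2 := X.mul_mem (X.mul_mem hg (h _ h1)) (X.inv_mem hg)
  have h3 := conj_tv h1 g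
  rw [← row_mul, mul_inv_cancel, row_one] at h3
  rwa [h3] at h2

theorem tv_smul_left {v φ : Fin 3 → F} (h : φ ⬝ᵥ v = 0) (c : F) : tv (c • v) φ = tv v (c • φ) := by
  have h1 : φ ⬝ᵥ (c • v) = 0 := by rw [dotProduct_smul, h, smul_zero]
  have h2 : (c • φ) ⬝ᵥ v = 0 := by rw [smul_dotProduct, h, smul_zero]
  apply ext_smul
  intro w
  rw [tv_smul h1, tv_smul h2, smul_dotProduct, smul_smul, smul_eq_mul, mul_comm]

theorem Ax.smul {X : Subgroup (S F)} {φ : Fin 3 → F} (h : Ax X φ) (c : F) : Ax X (c • φ) := by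
  intro w hw
  by_cases hc : c = 0
  · subst hc
    have : tv w ((0 : F) • φ) = 1 := by
      apply ext_smul
      intro u
      rw [tv_smul hw, one_smul, zero_smul, zero_dotProduct, zero_smul, add_zero]
    rw [this]
    exact X.one_mem
  · have h1 : φ ⬝ᵥ w = 0 := by
      rw [smul_dotProduct, smul_eq_mul] at hw
      exact (mul_eq_zero.1 hw).resolve_left hc
    rw [← tv_smul_left h1]
    apply h
    rw [dotProduct_smul, h1, smul_zero]

theorem Ce.smul {X : Subgroup (S F)} {v : Fin 3 → F} (h : Ce X v) (c : F) : Ce X (c • v) := by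
  intro ψ hψ
  by_cases hc : c = 0
  · subst hc
    have : tv ((0 : F) • v) ψ = 1 := by
      apply ext_smul
      intro u
      rw [tv_smul hψ, one_smul, zero_smul, smul_zero, add_zero]
    rw [this]
    exact X.one_mem
  · have h1 : ψ ⬝ᵥ v = 0 := by
      rw [dotProduct_smul, smul_eq_mul] at hψ
      exact (mul_eq_zero.1 hψ).resolve_left hc
    rw [tv_smul_left h1]
    apply h
    rw [smul_dotProduct, h1, smul_zero]

/-! ### generation -/

/-- `X = SL₃(F)` if `X` contains all transvections. -/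
theorem top_of_ax {X : Subgroup (S F)} (h : ∀ φ, Ax X φ) : X = ⊤ := by
  rw [eq_top_iff, ← Cfsg.Agent.LieClassical.SLGen.closure_transvections, Subgroup.closure_le]
  rintro _ ⟨i, j, hij, b, rfl⟩
  have h1 : (Pi.single j (1 : F)) ⬝ᵥ (Pi.single i b : Fin 3 → F) = 0 := by
    rw [single_dotProduct, Pi.single_eq_of_ne' hij, mul_zero]
  have h2 := h _ _ h1
  have h3 : SpecialLinearGroup.transvection hij b = tv (Pi.single i b) (Pi.single j 1) := by
    apply ext_smul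
    intro w
    rw [tv_smul h1, Cfsg.Agent.LieClassical.SLGen.transvection_smul, single_dotProduct, one_mul]
    congr 1
    ext k
    by_cases hk : k = i
    · subst hk
      simp [mul_comm]
    · simp [hk]
  rw [h3]
  exact h2

/-- Elements of `SL₃(F)` fixing the first basis vector and acting trivially modulo it. -/
theorem eq_tv {g : S F} (h1 : ∀ w : Fin 3 → F, ∃ c : F, g • w = w + c • ![1, 0, 0])
    (h2 : g • (![1, 0, 0] : Fin 3 → F) = ![1, 0, 0]) : ∃ ψ : Fin 3 → F, ψ ⬝ᵥ ![1, 0, 0] = 0 ∧ g = tv ![1, 0, 0] ψ := by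
  choose c hc using h1
  have hg : ∀ w : Fin 3 → F, g • w = w + (![0, c ![0, 1, 0], c ![0, 0, 1]] ⬝ᵥ w) • ![1, 0, 0] := by
    intro w
    have e : w = w 0 • ![1, 0, 0] + w 1 • ![0, 1, 0] + w 2 • ![0, 0, 1] := by
      ext i
      fin_cases i <;> simp
    conv_lhs => rw [e]
    rw [smul_add, smul_add, smul_smul_comm', smul_smul_comm', smul_smul_comm', h2, hc ![0, 1, 0], hc ![0, 0, 1]]
    ext i
    fin_cases i <;> simp [dotProduct, Fin.sum_univ_three]
    ring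
  have h0 : (![0, c ![0, 1, 0], c ![0, 0, 1]] : Fin 3 → F) ⬝ᵥ ![1, 0, 0] = 0 := by
    simp [dotProduct, Fin.sum_univ_three]
  refine ⟨_, h0, ?_⟩
  apply ext_smul
  intro w
  rw [tv_smul h0, hg w]

theorem tv_apply {v φ : Fin 3 → F} (h : φ ⬝ᵥ v = 0) (w : Fin 3 → F) (i : Fin 3) :
    (tv v φ • w) i = w i + (φ 0 * w 0 + φ 1 * w 1 + φ 2 * w 2) * v i := by
  rw [tv_smul h, Pi.add_apply, Pi.smul_apply, smul_eq_mul]
  simp [dotProduct, Fin.sum_univ_three]

theorem smul_apply (g : S F) (w : Fin 3 → F) (i : Fin 3) :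
    (g • w) i = g.1 i 0 * w 0 + g.1 i 1 * w 1 + g.1 i 2 * w 2 := by
  rw [smul_eq]
  simp [mulVec, dotProduct, Fin.sum_univ_three]

theorem row_apply (g : S F) (φ : Fin 3 → F) (i : Fin 3) :
    row φ g i = φ 0 * g.1 0 i + φ 1 * g.1 1 i + φ 2 * g.1 2 i := by
  unfold row
  simp [vecMul, dotProduct, Fin.sum_univ_three]

theorem dot_apply (φ w : Fin 3 → F) : φ ⬝ᵥ w = φ 0 * w 0 + φ 1 * w 1 + φ 2 * w 2 := by
  simp [dotProduct, Fin.sum_univ_three]

theorem col_zero {g : S F} (hg : g • (![1, 0, 0] : Fin 3 → F) = ![1, 0, 0]) :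
    g.1 0 0 = 1 ∧ g.1 1 0 = 0 ∧ g.1 2 0 = 0 := by
  have h0 := congrFun hg 0
  have h1 := congrFun hg 1
  have h2 := congrFun hg 2
  rw [smul_apply] at h0 h1 h2
  refine ⟨by simpa using h0, by simpa using h1, by simpa using h2⟩

theorem mem_of_c_ne {X : Subgroup (S F)} (h : ∀ φ, φ ⬝ᵥ ![1, 0, 0] = 0 → Ax X φ) {g : S F}
    (hg : g • (![1, 0, 0] : Fin 3 → F) = ![1, 0, 0]) (hc : g.1 2 1 ≠ 0) : g ∈ X := by
  obtain ⟨h0, h1, h2⟩ := col_zero hg
  have hdet : g.1 1 1 * g.1 2 2 - g.1 1 2 * g.1 2 1 = 1 := by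
    have := g.2
    rw [det_fin_three, h0, h1, h2] at this
    linear_combination this
  have hL : ∀ c : F, (![0, 0, 1] : Fin 3 → F) ⬝ᵥ ![0, c, 0] = 0 := by
    intro c; simp [dot_apply]
  have hM : ∀ c : F, (![0, 1, 0] : Fin 3 → F) ⬝ᵥ ![0, 0, c] = 0 := by
    intro c; simp [dot_apply]
  set k : S F := tv ![0, -((g.1 2 2 - 1) / g.1 2 1), 0] ![0, 0, 1] * tv ![0, 0, - g.1 2 1] ![0, 1, 0] *
    tv ![0, -((g.1 1 1 - 1) / g.1 2 1), 0] ![0, 0, 1] with hk
  have hkX : k ∈ X := by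
    refine X.mul_mem (X.mul_mem ?_ ?_) ?_
    · exact h _ (by simp [dot_apply]) _ (hL _)
    · exact h _ (by simp [dot_apply]) _ (hM _)
    · exact h _ (by simp [dot_apply]) _ (hL _)
  have hk1 : (k * g) • (![1, 0, 0] : Fin 3 → F) = ![1, 0, 0] := by
    rw [mul_smul, hg, hk, mul_smul, mul_smul, tv_smul (hL _), tv_smul (hM _), tv_smul (hL _)]
    ext i
    fin_cases i <;> simp [dot_apply]
  have key : ∀ w : Fin 3 → F, ((k * g) • w) 1 = w 1 ∧ ((k * g) • w) 2 = w 2 := by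
    intro w
    have e1 : (g • w) 1 = g.1 1 1 * w 1 + g.1 1 2 * w 2 := by rw [smul_apply, h1]; ring
    have e2 : (g • w) 2 = g.1 2 1 * w 1 + g.1 2 2 * w 2 := by rw [smul_apply, h2]; ring
    rw [mul_smul, hk, mul_smul, mul_smul]
    simp only [tv_apply (hL _), tv_apply (hM _), e1, e2]
    constructor
    · simp
      field_simp
      linear_combination (-(w 2) * g.1 2 2) * hdet
    · simp
      field_simp
      linear_combination (w 2) * hdet
  obtain ⟨ψ, hψ, hψ2⟩ := eq_tv (g := k * g) (fun w => ⟨((k * g) • w) 0 - w 0, by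
    obtain ⟨e1, e2⟩ := key w
    funext i
    rw [Pi.add_apply, Pi.smul_apply]
    fin_cases i
    · simp
    · simpa using e1
    · simpa using e2⟩) hk1
  have h3 : k * g ∈ X := by
    rw [hψ2]
    exact h ψ hψ _ hψ
  have h4 := X.mul_mem (X.inv_mem hkX) h3
  rwa [inv_mul_cancel_left] at h4

theorem stab_of_ax {X : Subgroup (S F)} (h : ∀ φ, φ ⬝ᵥ ![1, 0, 0] = 0 → Ax X φ) {g : S F}
    (hg : g • (![1, 0, 0] : Fin 3 → F) = ![1, 0, 0]) : g ∈ X := by
  by_cases hc : g.1 2 1 = 0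
  · obtain ⟨h0, h1, h2⟩ := col_zero hg
    have hM : (![0, 1, 0] : Fin 3 → F) ⬝ᵥ ![0, 0, 1] = 0 := by simp [dot_apply]
    have hmX : tv ![0, 0, 1] ![0, 1, 0] ∈ X := h _ (by simp [dot_apply]) _ hM
    have h3 : (tv ![0, 0, 1] ![0, 1, 0] * g) • (![1, 0, 0] : Fin 3 → F) = ![1, 0, 0] := by
      rw [mul_smul, hg, tv_smul hM]
      ext i
      fin_cases i <;> simp [dot_apply]
    have hdet : g.1 1 1 * g.1 2 2 - g.1 1 2 * g.1 2 1 = 1 := by
      have := g.2
      rw [det_fin_three, h0, h1, h2] at this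
      linear_combination this
    have h4 : (tv ![0, 0, 1] ![0, 1, 0] * g).1 2 1 ≠ 0 := by
      have h5 : ((tv ![0, 0, 1] ![0, 1, 0] * g) • ![0, 1, 0]) 2 = (tv ![0, 0, 1] ![0, 1, 0] * g).1 2 1 := by
        rw [smul_apply]
        simp only [cons_val_zero, cons_val_one, cons_val_two, mul_zero, mul_one, zero_add, tail_cons, head_cons]
        simp
      rw [← h5, mul_smul, tv_apply hM]
      simp only [smul_apply]
      simp [hc]
      intro h6
      rw [h6, hc] at hdet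
      simp at hdet
    have h5 := mem_of_c_ne h h3 h4
    have h6 := X.mul_mem (X.inv_mem hmX) h5
    rwa [inv_mul_cancel_left] at h6
  · exact mem_of_c_ne h hg hc

/-! ### overgroups of the group of upper unitriangular matrices -/

/-- the first basis vector -/
def e1 : Fin 3 → F := ![1, 0, 0]

/-- the last row vector -/
def e3 : Fin 3 → F := ![0, 0, 1]

@[simp] theorem e1_zero : (e1 : Fin 3 → F) 0 = 1 := rfl
@[simp] theorem e1_one : (e1 : Fin 3 → F) 1 = 0 := rfl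
@[simp] theorem e1_two : (e1 : Fin 3 → F) 2 = 0 := rfl
@[simp] theorem e3_zero : (e3 : Fin 3 → F) 0 = 0 := rfl
@[simp] theorem e3_one : (e3 : Fin 3 → F) 1 = 0 := rfl
@[simp] theorem e3_two : (e3 : Fin 3 → F) 2 = 1 := rfl

theorem ext3 {u v : Fin 3 → F} (h0 : u 0 = v 0) (h1 : u 1 = v 1) (h2 : u 2 = v 2) : u = v := by
  funext i
  fin_cases i
  · exact h0
  · exact h1
  · exact h2

theorem row_tv_apply {v φ : Fin 3 → F} (h : φ ⬝ᵥ v = 0) (ψ : Fin 3 → F) (i : Fin 3) :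
    row ψ (tv v φ) i = ψ i + (ψ 0 * v 0 + ψ 1 * v 1 + ψ 2 * v 2) * φ i := by
  rw [row_tv h, Pi.add_apply, Pi.smul_apply, smul_eq_mul, dot_apply]

theorem dot_e1 (φ : Fin 3 → F) : φ ⬝ᵥ e1 = φ 0 := by simp [dot_apply]

theorem e3_dot (v : Fin 3 → F) : e3 ⬝ᵥ v = v 2 := by simp [dot_apply]

theorem e1_ne : (e1 : Fin 3 → F) ≠ 0 := fun h => by simpa using congrFun h 0

theorem e3_ne : (e3 : Fin 3 → F) ≠ 0 := fun h => by simpa using congrFun h 2

theorem smul_ap (c : F) (v : Fin 3 → F) (i : Fin 3) : (c • v) i = c * v i := rfl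

theorem ax_of {X : Subgroup (S F)} (hL : Ax X (e3 : Fin 3 → F))
    (hfix : ∀ g ∈ X, ∃ μ : F, g • (e1 : Fin 3 → F) = μ • e1)
    (hmove : ∃ g ∈ X, ¬ ∃ μ : F, row e3 g = μ • e3) : ∀ φ : Fin 3 → F, φ ⬝ᵥ e1 = 0 → Ax X φ := by
  obtain ⟨g, hg, hg3⟩ := hmove
  obtain ⟨μ, hμ⟩ := hfix g hg
  set α := row (e3 : Fin 3 → F) g with hα
  have h0 : α 0 = 0 := by
    rw [← dot_e1 α, hα, row_dot, hμ, dotProduct_smul, dot_e1]
    simp
  have h1 : α 1 ≠ 0 := by
    intro h1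
    exact hg3 ⟨α 2, ext3 (by simp [smul_ap, h0]) (by simp [smul_ap, h1]) (by simp [smul_ap])⟩
  intro φ hφ
  have hφ0 : φ 0 = 0 := by rwa [dot_e1] at hφ
  by_cases h2 : φ 1 = 0
  · have : φ = φ 2 • e3 := ext3 (by simp [smul_ap, hφ0]) (by simp [smul_ap, h2]) (by simp [smul_ap])
    rw [this]
    exact hL.smul _
  · -- conjugate by an element of the unitriangular group
    have ht : (e3 : Fin 3 → F) ⬝ᵥ ![0, (φ 2 * α 1 / φ 1 - α 2) / α 1, 0] = 0 := by
      rw [e3_dot]; rfl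
    have hu := hL _ ht
    have h3 := ((hL.conj hg).conj hu).smul (φ 1 / α 1)
    rw [← hα] at h3
    have h4 : (φ 1 / α 1) • row α (tv ![0, (φ 2 * α 1 / φ 1 - α 2) / α 1, 0] e3) = φ := by
      apply ext3
      · rw [smul_ap, row_tv_apply ht]
        simp [h0, hφ0]
      · rw [smul_ap, row_tv_apply ht]
        simp
        field_simp
      · rw [smul_ap, row_tv_apply ht]
        simp
        field_simp
        ring
    rwa [h4] at h3

theorem ce_of {X : Subgroup (S F)} (hE : Ce X (e1 : Fin 3 → F))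
    (hfix : ∀ g ∈ X, ∃ μ : F, row (e3 : Fin 3 → F) g = μ • e3)
    (hmove : ∃ g ∈ X, ¬ ∃ μ : F, g • (e1 : Fin 3 → F) = μ • e1) : ∀ v : Fin 3 → F, e3 ⬝ᵥ v = 0 → Ce X v := by
  obtain ⟨g, hg, hg3⟩ := hmove
  obtain ⟨μ, hμ⟩ := hfix g hg
  set u := g • (e1 : Fin 3 → F) with hu
  have h0 : u 2 = 0 := by
    rw [← e3_dot u, hu, ← row_dot, hμ, smul_dotProduct, e3_dot]
    simp
  have h1 : u 1 ≠ 0 := by
    intro h1
    exact hg3 ⟨u 0, ext3 (by simp [smul_ap]) (by simp [smul_ap, h1]) (by simp [smul_ap, h0])⟩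
  intro v hv
  have hv2 : v 2 = 0 := by rwa [e3_dot] at hv
  by_cases h2 : v 1 = 0
  · have : v = v 0 • e1 := ext3 (by simp [smul_ap]) (by simp [smul_ap, h2]) (by simp [smul_ap, hv2])
    rw [this]
    exact hE.smul _
  · have ht : (![0, (v 0 * u 1 / v 1 - u 0) / u 1, 0] : Fin 3 → F) ⬝ᵥ e1 = 0 := by
      rw [dot_e1]; rfl
    have hk := hE _ ht
    have h3 := ((hE.conj hg).conj hk).smul (v 1 / u 1)
    rw [← hu] at h3
    have h4 : (v 1 / u 1) • (tv e1 ![0, (v 0 * u 1 / v 1 - u 0) / u 1, 0] • u) = v := by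
      apply ext3
      · rw [smul_ap, tv_apply ht]
        simp
        field_simp
        ring
      · rw [smul_ap, tv_apply ht]
        simp
        field_simp
      · rw [smul_ap, tv_apply ht]
        simp [h0, hv2]
    rwa [h4] at h3

theorem exists_third {X : Subgroup (S F)} (h1 : ∃ g ∈ X, ¬ ∃ μ : F, g • (e1 : Fin 3 → F) = μ • e1)
    (h2 : ∃ g ∈ X, ¬ ∃ μ : F, row (e3 : Fin 3 → F) g = μ • e3) : ∃ g ∈ X, (g • (e1 : Fin 3 → F)) 2 ≠ 0 := by
  by_contra hc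
  push Not at hc
  obtain ⟨g, hg, hg1⟩ := h1
  obtain ⟨h, hh, hh1⟩ := h2
  apply hh1
  have e0 : ∀ k ∈ X, k.1 2 0 = 0 := by
    intro k hk
    have := hc k hk
    rw [smul_apply] at this
    simpa using this
  have hg2 := hc g hg
  have h3 := hc (h * g) (X.mul_mem hh hg)
  rw [mul_smul, smul_apply, e0 h hh, hg2] at h3
  simp only [zero_mul, mul_zero, zero_add, add_zero] at h3
  have hy : (g • (e1 : Fin 3 → F)) 1 ≠ 0 := by
    intro hy
    exact hg1 ⟨(g • (e1 : Fin 3 → F)) 0, ext3 (by simp [smul_ap]) (by simp [smul_ap, hy]) (by simp [smul_ap, hg2])⟩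
  have h4 : h.1 2 1 = 0 := (mul_eq_zero.1 h3).resolve_right hy
  refine ⟨h.1 2 2, ext3 ?_ ?_ ?_⟩
  · rw [row_apply]; simp [smul_ap, e0 h hh]
  · rw [row_apply]; simp [smul_ap, h4]
  · rw [row_apply]; simp [smul_ap]

theorem top_of {X : Subgroup (S F)} (hE : Ce X (e1 : Fin 3 → F)) (hL : Ax X (e3 : Fin 3 → F))
    (h1 : ∃ g ∈ X, ¬ ∃ μ : F, g • (e1 : Fin 3 → F) = μ • e1)
    (h2 : ∃ g ∈ X, ¬ ∃ μ : F, row (e3 : Fin 3 → F) g = μ • e3) : X = ⊤ := by
  obtain ⟨g, hg, hg2⟩ := exists_third h1 h2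
  apply top_of_ax
  -- rows with nonzero first coordinate
  have hA : ∀ φ : Fin 3 → F, φ 0 ≠ 0 → Ax X φ := by
    intro φ hφ
    set α := row (e3 : Fin 3 → F) g with hα
    have h0 : α 0 ≠ 0 := by
      have : α 0 = (g • (e1 : Fin 3 → F)) 2 := by
        rw [hα, row_apply, smul_apply]
        simp
      rw [this]
      exact hg2
    have ht : (![0, (φ 1 * α 0 / φ 0 - α 1) / α 0, (φ 2 * α 0 / φ 0 - α 2) / α 0] : Fin 3 → F) ⬝ᵥ e1 = 0 := by
      rw [dot_e1]; rfl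
    have h3 := ((hL.conj hg).conj (hE _ ht)).smul (φ 0 / α 0)
    rw [← hα] at h3
    have h4 : (φ 0 / α 0) • row α (tv e1 ![0, (φ 1 * α 0 / φ 0 - α 1) / α 0, (φ 2 * α 0 / φ 0 - α 2) / α 0]) = φ := by
      apply ext3
      · rw [smul_ap, row_tv_apply ht]
        simp
        field_simp
      · rw [smul_ap, row_tv_apply ht]
        simp
        field_simp
        ring
      · rw [smul_ap, row_tv_apply ht]
        simp
        field_simp
        ring
    rwa [h4] at h3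
  intro φ
  by_cases hφ : φ 0 = 0
  · by_cases hφ0 : φ = 0
    · have := (hA e1 (by simp)).smul 0
      rw [zero_smul] at this
      rwa [hφ0]
    · obtain ⟨w, hw0, hw⟩ : ∃ w : Fin 3 → F, w 0 = 0 ∧ φ 1 * w 1 + φ 2 * w 2 = 1 := by
        by_cases hx : φ 1 = 0
        · have hy : φ 2 ≠ 0 := by
            intro hy
            exact hφ0 (ext3 (by simpa using hφ) (by simpa using hx) (by simpa using hy))
          exact ⟨![0, 0, (φ 2)⁻¹], by simp, by simp [hy]⟩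
        · exact ⟨![0, (φ 1)⁻¹, 0], by simp, by simp [hx]⟩
      have ht : (e1 : Fin 3 → F) ⬝ᵥ w = 0 := by rw [dotProduct_comm, dot_e1, hw0]
      have h3 := hA (φ - e1) (by simp [hφ])
      have h4 := h3.conj (hA e1 (by simp) w ht)
      rw [row_tv ht] at h4
      have h5 : (φ - e1) ⬝ᵥ w = 1 := by
        rw [sub_dotProduct, ht, sub_zero, dot_apply, hφ, zero_mul, zero_add, hw]
      rw [h5, one_smul, sub_add_cancel] at h4
      exact h4
  · exact hA φ hφ

end Cfsg.Agent.H438.SLThree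
end

-- part: H438/SLThreeB
section
/-!
# The group `SL₃(F)`, II (helper438, S3727)

* `Pt X v`, `Ln X φ`, `Fl X v φ` : types of subgroups of `SL₃(F)`;
* `trichotomy` : every proper subgroup of odd index of `SL₃(F)`, `F` finite of characteristic 2, has one of these types.
-/

set_option autoImplicit false
set_option linter.unusedSectionVars false
set_option linter.unusedSimpArgs false

namespace Cfsg.Agent.H438.SLThree

open Matrix

variable {F : Type*} [Field F]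

/-- `X` lies in the stabiliser of `⟨v⟩` and contains the stabiliser of `v`. -/
def Pt (X : Subgroup (S F)) (v : Fin 3 → F) : Prop :=
  v ≠ 0 ∧ (∀ g ∈ X, ∃ μ : F, g • v = μ • v) ∧ ∀ g : S F, g • v = v → g ∈ X

/-- `X` lies in the stabiliser of `⟨φ⟩` and contains the stabiliser of `φ`. -/
def Ln (X : Subgroup (S F)) (φ : Fin 3 → F) : Prop :=
  φ ≠ 0 ∧ (∀ g ∈ X, ∃ μ : F, row φ g = μ • φ) ∧ ∀ g : S F, row φ g = φ → g ∈ X

/-- `X` lies in the stabiliser of the flag `(⟨v⟩, ⟨φ⟩)` and contains the unipotent radical. -/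
def Fl (X : Subgroup (S F)) (v φ : Fin 3 → F) : Prop :=
  v ≠ 0 ∧ φ ≠ 0 ∧ φ ⬝ᵥ v = 0 ∧ (∀ g ∈ X, ∃ μ : F, g • v = μ • v) ∧ (∀ g ∈ X, ∃ μ : F, row φ g = μ • φ) ∧
    Ce X v ∧ Ax X φ

/-! ### conjugation -/

section conj

variable {X Y : Subgroup (S F)} {h : S F}

theorem row_inv_row (φ : Fin 3 → F) (h : S F) : row (row φ h⁻¹) h = φ := by
  rw [← row_mul, inv_mul_cancel, row_one]

theorem row_row_inv (φ : Fin 3 → F) (h : S F) : row (row φ h) h⁻¹ = φ := by
  rw [← row_mul, mul_inv_cancel, row_one]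

theorem row_ne {φ : Fin 3 → F} (hφ : φ ≠ 0) (h : S F) : row φ h ≠ 0 := by
  intro h0
  apply hφ
  rw [← row_row_inv φ h, h0]
  unfold row
  exact zero_vecMul _

theorem smul_ne' {v : Fin 3 → F} (hv : v ≠ 0) (h : S F) : h • v ≠ 0 := by
  intro h0
  apply hv
  rw [← inv_smul_smul h v, h0, smul_zero]

theorem Ce.conj' (H : ∀ g, g ∈ Y ↔ h⁻¹ * g * h ∈ X) {v : Fin 3 → F} (hv : Ce X v) : Ce Y (h • v) := by
  intro ψ hψ
  rw [H]
  have h1 : row ψ h ⬝ᵥ v = 0 := by rw [row_dot, hψ]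
  have h2 := conj_tv hψ h⁻¹
  rw [inv_inv, inv_smul_smul] at h2
  rw [h2]
  exact hv _ h1

theorem Ax.conj' (H : ∀ g, g ∈ Y ↔ h⁻¹ * g * h ∈ X) {φ : Fin 3 → F} (hφ : Ax X φ) : Ax Y (row φ h⁻¹) := by
  intro w hw
  rw [H]
  have h1 : φ ⬝ᵥ (h⁻¹ • w) = 0 := by rw [← row_dot, hw]
  have h2 := conj_tv hw h⁻¹
  rw [inv_inv, row_inv_row] at h2
  rw [h2]
  exact hφ _ h1

theorem Pt.conj (H : ∀ g, g ∈ Y ↔ h⁻¹ * g * h ∈ X) {v : Fin 3 → F} (hv : Pt X v) : Pt Y (h • v) := by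
  refine ⟨smul_ne' hv.1 h, ?_, ?_⟩
  · intro g hg
    obtain ⟨μ, hμ⟩ := hv.2.1 _ ((H g).1 hg)
    refine ⟨μ, ?_⟩
    rw [mul_smul, mul_smul, inv_smul_eq_iff, smul_smul_comm'] at hμ
    exact hμ
  · intro g hg
    rw [H]
    apply hv.2.2
    rw [mul_smul, mul_smul, hg, inv_smul_smul]

theorem Ln.conj (H : ∀ g, g ∈ Y ↔ h⁻¹ * g * h ∈ X) {φ : Fin 3 → F} (hφ : Ln X φ) : Ln Y (row φ h⁻¹) := by
  refine ⟨row_ne hφ.1 _, ?_, ?_⟩
  · intro g hg
    obtain ⟨μ, hμ⟩ := hφ.2.1 _ ((H g).1 hg)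
    refine ⟨μ, ?_⟩
    have h1 := congrArg (fun ψ => row ψ h⁻¹) hμ
    simp only [row_mul, row_row_inv, row_smul] at h1
    exact h1
  · intro g hg
    rw [H]
    apply hφ.2.2
    rw [row_mul, row_mul, hg, row_inv_row]

theorem Fl.conj (H : ∀ g, g ∈ Y ↔ h⁻¹ * g * h ∈ X) {v φ : Fin 3 → F} (hv : Fl X v φ) :
    Fl Y (h • v) (row φ h⁻¹) := by
  obtain ⟨h1, h2, h3, h4, h5, h6, h7⟩ := hv
  refine ⟨smul_ne' h1 h, row_ne h2 _, by rw [dot_inv, h3], ?_, ?_, h6.conj' H, h7.conj' H⟩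
  · intro g hg
    obtain ⟨μ, hμ⟩ := h4 _ ((H g).1 hg)
    refine ⟨μ, ?_⟩
    rw [mul_smul, mul_smul, inv_smul_eq_iff, smul_smul_comm'] at hμ
    exact hμ
  · intro g hg
    obtain ⟨μ, hμ⟩ := h5 _ ((H g).1 hg)
    refine ⟨μ, ?_⟩
    have h1 := congrArg (fun ψ => row ψ h⁻¹) hμ
    simp only [row_mul, row_row_inv, row_smul] at h1
    exact h1

end conj

/-! ### transitivity -/

/-- a diagonal matrix -/
def dg (x y z : F) (h : x * y * z = 1) : S F := ⟨diagonal ![x, y, z], by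
  rw [det_diagonal, Fin.prod_univ_three]
  simpa using h⟩

theorem dg_apply (x y z : F) (h : x * y * z = 1) (w : Fin 3 → F) :
    (dg x y z h) • w = ![x * w 0, y * w 1, z * w 2] := by
  rw [smul_eq]
  change diagonal ![x, y, z] *ᵥ w = _
  apply ext3 <;> rw [mulVec_diagonal] <;> rfl

theorem row_dg (x y z : F) (h : x * y * z = 1) (w : Fin 3 → F) :
    row w (dg x y z h) = ![x * w 0, y * w 1, z * w 2] := by
  unfold row
  change w ᵥ* diagonal ![x, y, z] = _
  apply ext3 <;> rw [vecMul_diagonal, mul_comm] <;> rfl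

theorem exists_smul {v : Fin 3 → F} (hv : v ≠ 0) : ∃ h : S F, h • (e1 : Fin 3 → F) = v := by
  by_cases h1 : v 1 = 0 ∧ v 2 = 0
  · have h0 : v 0 ≠ 0 := by
      intro h0
      exact hv (ext3 h0 h1.1 h1.2)
    refine ⟨dg (v 0) (v 0)⁻¹ 1 (by field_simp), ?_⟩
    rw [dg_apply]
    apply ext3
    · simp
    · simp [h1.1]
    · simp [h1.2]
  · obtain ⟨y, z, hyz⟩ : ∃ y z : F, v 0 + y * v 1 + z * v 2 = 1 := by
      by_cases h2 : v 1 = 0
      · have h3 : v 2 ≠ 0 := fun h3 => h1 ⟨h2, h3⟩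
        exact ⟨0, (1 - v 0) / v 2, by field_simp; ring⟩
      · exact ⟨(1 - v 0) / v 1, 0, by field_simp; ring⟩
    have ht : (![1, y, z] : Fin 3 → F) ⬝ᵥ (v - e1) = 0 := by
      rw [dot_apply]
      simp
      linear_combination hyz
    refine ⟨tv (v - e1) ![1, y, z], ?_⟩
    rw [tv_smul ht, dot_e1]
    simp

theorem exists_flag {v φ : Fin 3 → F} (hv : v ≠ 0) (hφ : φ ≠ 0) (hd : φ ⬝ᵥ v = 0) :
    ∃ h : S F, h • (e1 : Fin 3 → F) = v ∧ row e3 h⁻¹ = φ := by
  obtain ⟨h1, hh1⟩ := exists_smul hv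
  set ψ := row φ h1 with hψ
  have h0 : ψ 0 = 0 := by
    rw [← dot_e1 ψ, hψ, row_dot, hh1, hd]
  have hψ0 : ψ ≠ 0 := row_ne hφ h1
  obtain ⟨h2, hh2, hh3⟩ : ∃ h : S F, h • (e1 : Fin 3 → F) = e1 ∧ row ψ h = e3 := by
    by_cases hx : ψ 1 = 0
    · have hy : ψ 2 ≠ 0 := fun hy => hψ0 (ext3 h0 hx hy)
      refine ⟨dg 1 (ψ 2) (ψ 2)⁻¹ (by field_simp), ?_, ?_⟩
      · rw [dg_apply]
        apply ext3 <;> simp
      · rw [row_dg]
        apply ext3
        · simp [h0]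
        · simp [hx]
        · simp [hy]
    · have ht : (e3 - ψ) ⬝ᵥ ![0, (1 - ψ 2) / ψ 1, 1] = 0 := by
        rw [dot_apply]
        simp
        field_simp
        ring
      refine ⟨tv ![0, (1 - ψ 2) / ψ 1, 1] (e3 - ψ), ?_, ?_⟩
      · rw [tv_smul ht, dot_e1]
        simp [h0]
      · rw [row_tv ht]
        have : ψ ⬝ᵥ ![0, (1 - ψ 2) / ψ 1, 1] = 1 := by
          rw [dot_apply]
          simp
          field_simp
          ring
        rw [this]
        simp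
  refine ⟨h1 * h2, by rw [mul_smul, hh2, hh1], ?_⟩
  rw [_root_.mul_inv_rev, row_mul, ← hh3, row_row_inv, hψ, row_row_inv]

/-! ### duality -/

/-- The inverse transpose automorphism. -/
def dual : S F →* S F where
  toFun g := (g⁻¹).transpose
  map_one' := by
    apply Subtype.ext
    rw [inv_one]
    change ((1 : Matrix (Fin 3) (Fin 3) F))ᵀ = 1
    exact transpose_one
  map_mul' g h := by
    apply Subtype.ext
    rw [_root_.mul_inv_rev]
    change (h⁻¹.1 * g⁻¹.1)ᵀ = g⁻¹.1ᵀ * h⁻¹.1ᵀ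
    exact transpose_mul _ _

theorem dual_smul (g : S F) (v : Fin 3 → F) : dual g • v = row v g⁻¹ := by
  rw [smul_eq]
  change g⁻¹.1ᵀ *ᵥ v = v ᵥ* g⁻¹.1
  exact mulVec_transpose _ _

theorem row_dual (g : S F) (φ : Fin 3 → F) : row φ (dual g) = g⁻¹ • φ := by
  rw [smul_eq]
  change φ ᵥ* g⁻¹.1ᵀ = g⁻¹.1 *ᵥ φ
  exact vecMul_transpose _ _

theorem dual_dual (g : S F) : dual (dual g) = g := by
  apply ext_smul
  intro v
  rw [dual_smul, ← map_inv, row_dual, inv_inv]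

theorem dual_tv {v φ : Fin 3 → F} (h : φ ⬝ᵥ v = 0) : dual (tv v φ) = tv φ (-v) := by
  have h1 : (-v) ⬝ᵥ φ = 0 := by rw [neg_dotProduct, dotProduct_comm, h, neg_zero]
  have h2 : φ ⬝ᵥ (-v) = 0 := by rw [dotProduct_neg, h, neg_zero]
  have h3 : (tv v φ)⁻¹ = tv (-v) φ := by
    rw [inv_eq_iff_mul_eq_one]
    apply ext_smul
    intro w
    rw [mul_smul, tv_smul h2, tv_smul h, dotProduct_add, dotProduct_smul, h2, smul_zero, add_zero, one_smul]
    simp
  apply ext_smul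
  intro w
  rw [dual_smul, h3, row_tv h2, tv_smul h1, dotProduct_comm]

theorem stab_of_ax' {X : Subgroup (S F)} {v : Fin 3 → F} (hv : v ≠ 0) (h : ∀ φ, φ ⬝ᵥ v = 0 → Ax X φ) {g : S F}
    (hg : g • v = v) : g ∈ X := by
  obtain ⟨k, hk⟩ := exists_smul hv
  set Y : Subgroup (S F) := X.comap (MulAut.conj k).toMonoidHom with hY
  have H : ∀ g, g ∈ Y ↔ (k⁻¹)⁻¹ * g * k⁻¹ ∈ X := by
    intro g
    rw [hY, Subgroup.mem_comap, inv_inv]
    rfl
  have h1 : k⁻¹ * g * k ∈ Y := by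
    apply stab_of_ax
    · intro φ hφ
      have h2 := h (row φ k⁻¹) (by rw [← hk, dot_inv]; exact hφ)
      have h3 := h2.conj' H
      rwa [inv_inv, row_inv_row] at h3
    · change (k⁻¹ * g * k) • e1 = e1
      rw [mul_smul, mul_smul, hk, hg, ← hk, inv_smul_smul]
  rw [H] at h1
  have : (k⁻¹)⁻¹ * (k⁻¹ * g * k) * k⁻¹ = g := by group
  rwa [this] at h1

theorem stab_of_ce {X : Subgroup (S F)} {φ : Fin 3 → F} (hφ : φ ≠ 0) (h : ∀ v, φ ⬝ᵥ v = 0 → Ce X v) {g : S F}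
    (hg : row φ g = φ) : g ∈ X := by
  have h1 : dual g ∈ X.comap dual := by
    apply stab_of_ax' hφ
    · intro ψ hψ w hw
      rw [Subgroup.mem_comap, dual_tv hw]
      apply h
      · rw [dotProduct_comm, hψ]
      · rw [neg_dotProduct, dotProduct_comm, hw, neg_zero]
    · rw [dual_smul]
      nth_rewrite 1 [← hg]
      rw [row_row_inv]
  rw [Subgroup.mem_comap, dual_dual] at h1
  exact h1

/-! ### uniqueness -/

theorem sep {v w : Fin 3 → F} (hv : v ≠ 0) (h : ∀ ψ : Fin 3 → F, ψ ⬝ᵥ v = 0 → ψ ⬝ᵥ w = 0) : ∃ c : F, w = c • v := by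
  have h1 := h ![v 1, -v 0, 0] (by rw [dot_apply]; simp; ring)
  have h2 := h ![v 2, 0, -v 0] (by rw [dot_apply]; simp; ring)
  have h3 := h ![0, v 2, -v 1] (by rw [dot_apply]; simp; ring)
  rw [dot_apply] at h1 h2 h3
  simp at h1 h2 h3
  by_cases e0 : v 0 = 0
  · by_cases e1' : v 1 = 0
    · have e2 : v 2 ≠ 0 := fun e2 => hv (ext3 e0 e1' e2)
      refine ⟨w 2 / v 2, ext3 ?_ ?_ ?_⟩
      · rw [smul_ap]; field_simp; linear_combination h2
      · rw [smul_ap]; field_simp; linear_combination h3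
      · rw [smul_ap]; field_simp
    · refine ⟨w 1 / v 1, ext3 ?_ ?_ ?_⟩
      · rw [smul_ap]; field_simp; linear_combination h1
      · rw [smul_ap]; field_simp
      · rw [smul_ap]; field_simp; linear_combination -h3
  · refine ⟨w 0 / v 0, ext3 ?_ ?_ ?_⟩
    · rw [smul_ap]; field_simp
    · rw [smul_ap]; field_simp; linear_combination -h1
    · rw [smul_ap]; field_simp; linear_combination -h2

theorem cen_unique {X : Subgroup (S F)} {v w : Fin 3 → F} (hv : v ≠ 0) (hC : Ce X v)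
    (hw : ∀ g ∈ X, ∃ μ : F, g • w = μ • w) : ∃ c : F, w = c • v := by
  by_contra hne
  have h1 : ¬ ∀ ψ : Fin 3 → F, ψ ⬝ᵥ v = 0 → ψ ⬝ᵥ w = 0 := fun h => hne (sep hv h)
  push Not at h1
  obtain ⟨ψ, hψ, hψw⟩ := h1
  obtain ⟨μ, hμ⟩ := hw _ (hC ψ hψ)
  rw [tv_smul hψ] at hμ
  -- `ψ(w) v = (μ - 1) w`
  have h2 : (ψ ⬝ᵥ w) • v = (μ - 1) • w := by
    rw [sub_smul, one_smul, ← hμ]; simp
  have h3 : μ - 1 ≠ 0 := by
    intro h3
    rw [h3, zero_smul] at h2
    exact (smul_ne_zero hψw hv) h2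
  apply hne
  refine ⟨(μ - 1)⁻¹ * (ψ ⬝ᵥ w), ?_⟩
  rw [mul_smul, h2, smul_smul, inv_mul_cancel₀ h3, one_smul]

theorem ax_unique {X : Subgroup (S F)} {φ ψ : Fin 3 → F} (hφ : φ ≠ 0) (hA : Ax X φ)
    (hψ : ∀ g ∈ X, ∃ μ : F, row ψ g = μ • ψ) : ∃ c : F, ψ = c • φ := by
  by_contra hne
  have h1 : ¬ ∀ w : Fin 3 → F, w ⬝ᵥ φ = 0 → w ⬝ᵥ ψ = 0 := fun h => hne (sep hφ h)
  push Not at h1
  obtain ⟨w, hw, hwψ⟩ := h1
  rw [dotProduct_comm] at hw hwψ
  obtain ⟨μ, hμ⟩ := hψ _ (hA w hw)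
  rw [row_tv hw] at hμ
  have h2 : (ψ ⬝ᵥ w) • φ = (μ - 1) • ψ := by
    rw [sub_smul, one_smul, ← hμ]; simp
  have h3 : μ - 1 ≠ 0 := by
    intro h3
    rw [h3, zero_smul] at h2
    exact (smul_ne_zero hwψ hφ) h2
  apply hne
  refine ⟨(μ - 1)⁻¹ * (ψ ⬝ᵥ w), ?_⟩
  rw [mul_smul, h2, smul_smul, inv_mul_cancel₀ h3, one_smul]

theorem Pt.ce {X : Subgroup (S F)} {v : Fin 3 → F} (h : Pt X v) : Ce X v := by
  intro ψ hψ
  apply h.2.2
  rw [tv_smul hψ, hψ, zero_smul, add_zero]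

theorem Pt.ax {X : Subgroup (S F)} {v : Fin 3 → F} (h : Pt X v) {φ : Fin 3 → F} (hφ : φ ⬝ᵥ v = 0) : Ax X φ := by
  intro w hw
  apply h.2.2
  rw [tv_smul hw, hφ, zero_smul, add_zero]

theorem Ln.ax {X : Subgroup (S F)} {φ : Fin 3 → F} (h : Ln X φ) : Ax X φ := by
  intro w hw
  apply h.2.2
  rw [row_tv hw, hw, zero_smul, add_zero]

theorem Ln.ce {X : Subgroup (S F)} {φ : Fin 3 → F} (h : Ln X φ) {v : Fin 3 → F} (hv : φ ⬝ᵥ v = 0) : Ce X v := by
  intro ψ hψ
  apply h.2.2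
  rw [row_tv hψ, hv, zero_smul, add_zero]

/-- a subgroup of type `Pt` fixes no line -/
theorem Pt.not_row {X : Subgroup (S F)} {v : Fin 3 → F} (h : Pt X v) {φ : Fin 3 → F} (hφ : φ ≠ 0)
    (hX : ∀ g ∈ X, ∃ μ : F, row φ g = μ • φ) : False := by
  have key : ∀ ψ : Fin 3 → F, ψ ⬝ᵥ v = 0 → ψ ≠ 0 → ∃ c : F, φ = c • ψ := fun ψ hψ hψ0 =>
    ax_unique hψ0 (h.ax hψ) hX
  have k1 := key ![v 1, -v 0, 0] (by rw [dot_apply]; simp; ring)
  have k2 := key ![v 2, 0, -v 0] (by rw [dot_apply]; simp; ring)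
  have k3 := key ![0, v 2, -v 1] (by rw [dot_apply]; simp; ring)
  by_cases e0 : v 0 = 0
  · by_cases e1' : v 1 = 0
    · have e2 : v 2 ≠ 0 := fun e2 => h.1 (ext3 e0 e1' e2)
      obtain ⟨c, hc⟩ := k2 (fun h0 => e2 (by simpa using congrFun h0 0))
      obtain ⟨d, hd⟩ := k3 (fun h0 => e2 (by simpa using congrFun h0 1))
      have h0 : φ 0 = 0 := by rw [hd]; simp
      have h1 : φ 1 = 0 := by rw [hc]; simp
      have h2 : c = 0 := by
        have := congrFun hc 0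
        rw [h0] at this
        simpa [e2] using this
      apply hφ
      rw [hc, h2, zero_smul]
    · obtain ⟨c, hc⟩ := k1 (fun h0 => e1' (by simpa using congrFun h0 0))
      obtain ⟨d, hd⟩ := k3 (fun h0 => e1' (by simpa using congrFun h0 2))
      have h0 : φ 0 = 0 := by rw [hd]; simp
      have h2 : c = 0 := by
        have := congrFun hc 0
        rw [h0] at this
        simpa [e1'] using this
      apply hφ
      rw [hc, h2, zero_smul]
  · obtain ⟨c, hc⟩ := k1 (fun h0 => e0 (by simpa using congrFun h0 1))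
    obtain ⟨d, hd⟩ := k2 (fun h0 => e0 (by simpa using congrFun h0 2))
    have h0 : φ 1 = 0 := by rw [hd]; simp
    have h2 : c = 0 := by
      have := congrFun hc 1
      rw [h0] at this
      simpa [e0] using this
    apply hφ
    rw [hc, h2, zero_smul]

/-! ### the trichotomy -/

theorem trich {X : Subgroup (S F)} (hE : Ce X (e1 : Fin 3 → F)) (hL : Ax X (e3 : Fin 3 → F)) (hX : X ≠ ⊤) :
    Pt X e1 ∨ Ln X e3 ∨ Fl X e1 e3 := by
  by_cases hA : ∀ g ∈ X, ∃ μ : F, g • (e1 : Fin 3 → F) = μ • e1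
  · by_cases hB : ∀ g ∈ X, ∃ μ : F, row (e3 : Fin 3 → F) g = μ • e3
    · exact Or.inr (Or.inr ⟨e1_ne, e3_ne, by rw [dot_e1]; simp, hA, hB, hE, hL⟩)
    · push Not at hB
      obtain ⟨g, hg, hg2⟩ := hB
      have h1 := ax_of hL hA ⟨g, hg, fun ⟨μ, hμ⟩ => hg2 μ hμ⟩
      exact Or.inl ⟨e1_ne, hA, fun k hk => stab_of_ax' e1_ne h1 hk⟩
  · have hA' : ∃ g ∈ X, ¬ ∃ μ : F, g • (e1 : Fin 3 → F) = μ • e1 := by
      push Not at hA ⊢
      exact hA
    by_cases hB : ∀ g ∈ X, ∃ μ : F, row (e3 : Fin 3 → F) g = μ • e3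
    · have h1 := ce_of hE hB hA'
      exact Or.inr (Or.inl ⟨e3_ne, hB, fun k hk => stab_of_ce e3_ne h1 hk⟩)
    · have hB' : ∃ g ∈ X, ¬ ∃ μ : F, row (e3 : Fin 3 → F) g = μ • e3 := by
        push Not at hB ⊢
        exact hB
      exact (hX (top_of hE hL hA' hB')).elim

/-- The group of upper unitriangular matrices. -/
def UT (F : Type*) [Field F] : Subgroup (S F) where
  carrier := {g | g • (e1 : Fin 3 → F) = e1 ∧ row (e3 : Fin 3 → F) g = e3}
  one_mem' := ⟨one_smul _ _, row_one _⟩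
  mul_mem' := by
    rintro g h ⟨h1, h2⟩ ⟨h3, h4⟩
    exact ⟨by rw [mul_smul, h3, h1], by rw [row_mul, h2, h4]⟩
  inv_mem' := by
    rintro g ⟨h1, h2⟩
    refine ⟨by rw [inv_smul_eq_iff, h1], ?_⟩
    nth_rewrite 1 [← h2]
    exact row_row_inv _ _

theorem mem_UT {g : S F} : g ∈ UT F ↔ g • (e1 : Fin 3 → F) = e1 ∧ row (e3 : Fin 3 → F) g = e3 := Iff.rfl

theorem UT_entries {g : S F} (hg : g ∈ UT F) : g.1 0 0 = 1 ∧ g.1 1 0 = 0 ∧ g.1 2 0 = 0 ∧ g.1 2 1 = 0 ∧ g.1 2 2 = 1 ∧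
    g.1 1 1 = 1 := by
  obtain ⟨h1, h2⟩ := hg
  obtain ⟨h3, h4, h5⟩ := col_zero h1
  have h6 : g.1 2 1 = 0 := by
    have := congrFun h2 1
    rw [row_apply] at this
    simpa using this
  have h7 : g.1 2 2 = 1 := by
    have := congrFun h2 2
    rw [row_apply] at this
    simpa using this
  refine ⟨h3, h4, h5, h6, h7, ?_⟩
  have := g.2
  rw [det_fin_three, h3, h4, h5, h6, h7] at this
  linear_combination this

theorem UT_pow_four [CharP F 2] {g : S F} (hg : g ∈ UT F) : g ^ 4 = 1 := by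
  obtain ⟨h1, h2, h3, h4, h5, h6⟩ := UT_entries hg
  have h2F : (2 : F) = 0 := CharTwo.two_eq_zero
  have hsm : ∀ w : Fin 3 → F, g • w = ![w 0 + g.1 0 1 * w 1 + g.1 0 2 * w 2, w 1 + g.1 1 2 * w 2, w 2] := by
    intro w
    apply ext3
    · rw [smul_apply, h1]; simp
    · rw [smul_apply, h2, h6]; simp
    · rw [smul_apply, h3, h4, h5]; simp
  have hsq : ∀ w : Fin 3 → F, g • g • w = ![w 0 + g.1 0 1 * g.1 1 2 * w 2, w 1, w 2] := by
    intro w
    rw [hsm (g • w), hsm w]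
    apply ext3
    · simp
      linear_combination (g.1 0 1 * w 1 + g.1 0 2 * w 2) * h2F
    · simp
      linear_combination (g.1 1 2 * w 2) * h2F
    · simp
  apply ext_smul
  intro w
  rw [show (4 : ℕ) = 1 + 1 + 1 + 1 from rfl, pow_add, pow_add, pow_add, pow_one, mul_smul, mul_smul, mul_smul, one_smul,
    hsq (g • g • w), hsq w]
  apply ext3
  · simp
    linear_combination (g.1 0 1 * g.1 1 2 * w 2) * h2F
  · simp
  · simp

theorem UT_isPGroup [CharP F 2] : IsPGroup 2 (UT F) := by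
  intro g
  refine ⟨2, ?_⟩
  apply Subtype.ext
  exact UT_pow_four g.2

theorem exists_conj [CharP F 2] {X : Subgroup (S F)} [Finite (S F)] (hodd : ¬ 2 ∣ X.index) :
    ∃ h : S F, ∀ u ∈ UT F, h⁻¹ * u * h ∈ X := by
  have : Fact (Nat.Prime 2) := ⟨Nat.prime_two⟩
  have hp : IsPGroup 2 (UT F) := UT_isPGroup
  have h1 := hp.nonempty_fixed_point_of_prime_not_dvd_card (S F ⧸ X) (by
    rwa [← Subgroup.index_eq_card])
  obtain ⟨x, hx⟩ := h1
  obtain ⟨h, rfl⟩ := QuotientGroup.mk_surjective x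
  refine ⟨h, fun u hu => ?_⟩
  have h2 : (QuotientGroup.mk (u * h) : S F ⧸ X) = QuotientGroup.mk h := hx ⟨u, hu⟩
  have h3 := QuotientGroup.eq.1 h2.symm
  rwa [← mul_assoc] at h3

/-- **Trichotomy.** -/
theorem trichotomy [CharP F 2] {X : Subgroup (S F)} [Finite (S F)] (hodd : ¬ 2 ∣ X.index) (hX : X ≠ ⊤) :
    (∃ v, Pt X v) ∨ (∃ φ, Ln X φ) ∨ ∃ v φ, Fl X v φ := by
  obtain ⟨h, hh⟩ := exists_conj hodd
  set Y : Subgroup (S F) := X.comap (MulAut.conj h⁻¹).toMonoidHom with hY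
  have H0 : ∀ g, g ∈ Y ↔ h⁻¹ * g * h ∈ X := by
    intro g
    rw [hY, Subgroup.mem_comap]
    simp
  have H : ∀ g, g ∈ X ↔ (h⁻¹)⁻¹ * g * h⁻¹ ∈ Y := by
    intro g
    rw [H0]
    have : h⁻¹ * ((h⁻¹)⁻¹ * g * h⁻¹) * h = g := by group
    rw [this]
  have hE : Ce Y (e1 : Fin 3 → F) := by
    intro ψ hψ
    rw [H0]
    apply hh
    refine ⟨by rw [tv_smul hψ, hψ, zero_smul, add_zero], ?_⟩
    rw [row_tv hψ, e3_dot]
    simp
  have hL : Ax Y (e3 : Fin 3 → F) := by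
    intro w hw
    rw [H0]
    apply hh
    refine ⟨?_, by rw [row_tv hw, hw, zero_smul, add_zero]⟩
    rw [tv_smul hw, e3_dot]
    simp
  have hYt : Y ≠ ⊤ := by
    intro h0
    apply hX
    rw [eq_top_iff]
    intro g _
    rw [H, h0]
    exact Subgroup.mem_top _
  rcases trich hE hL hYt with h1 | h1 | h1
  · exact Or.inl ⟨_, h1.conj H⟩
  · exact Or.inr (Or.inl ⟨_, h1.conj H⟩)
  · exact Or.inr (Or.inr ⟨_, _, h1.conj H⟩)

end Cfsg.Agent.H438.SLThree
end

-- part: H438/SLThreeC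
section
/-!
# Actions of `SL₃(2ⁿ)` in which the numbers of fixed points are powers of 2 (helper438, S3727)

`Aff ρ a` : `SL₃(F)` acts (through `ρ`) on the finite set `Ω`, `a` is a fixed point, all stabilisers have odd index and
are proper for the other points, all numbers of common fixed points of sets of elements are powers of 2.
-/

set_option autoImplicit false
set_option linter.unusedSectionVars false
set_option linter.unusedSimpArgs false

namespace Cfsg.Agent.H438.SLThree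

open Matrix MulAction

/-- double counting -/
theorem dcount {α β : Type*} [Finite α] [Finite β] (R : α → β → Prop) (K : α → Prop) {c m : ℕ}
    (h1 : ∀ x, K x → Nat.card {b // R x b} = c)
    (h2 : ∀ b, (∃ x, K x ∧ R x b) → Nat.card {x // K x ∧ R x b} = m) :
    Nat.card {x // K x} * c = Nat.card {b // ∃ x, K x ∧ R x b} * m := by
  classical
  have : Fintype α := Fintype.ofFinite α
  have : Fintype β := Fintype.ofFinite β
  have e1 : {p : α × β // K p.1 ∧ R p.1 p.2} ≃ (Σ x : {x // K x}, {b // R x b}) :=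
    ⟨fun p => ⟨⟨p.1.1, p.2.1⟩, ⟨p.1.2, p.2.2⟩⟩, fun p => ⟨(p.1.1, p.2.1), p.1.2, p.2.2⟩, fun _ => rfl, fun _ => rfl⟩
  have e2 : {p : α × β // K p.1 ∧ R p.1 p.2} ≃ (Σ b : {b // ∃ x, K x ∧ R x b}, {x // K x ∧ R x b}) :=
    ⟨fun p => ⟨⟨p.1.2, p.1.1, p.2⟩, ⟨p.1.1, p.2⟩⟩, fun p => ⟨(p.2.1, p.1.1), p.2.2⟩, fun _ => rfl, fun _ => rfl⟩
  have f1 : Nat.card {p : α × β // K p.1 ∧ R p.1 p.2} = Nat.card {x // K x} * c := by
    rw [Nat.card_congr e1, Nat.card_sigma, Finset.sum_congr rfl (g := fun _ => c), Finset.sum_const, smul_eq_mul,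
      Finset.card_univ, Nat.card_eq_fintype_card]
    rintro ⟨x, hx⟩ -
    exact h1 x hx
  have f2 : Nat.card {p : α × β // K p.1 ∧ R p.1 p.2} = Nat.card {b // ∃ x, K x ∧ R x b} * m := by
    rw [Nat.card_congr e2, Nat.card_sigma, Finset.sum_congr rfl (g := fun _ => m), Finset.sum_const, smul_eq_mul,
      Finset.card_univ, Nat.card_eq_fintype_card]
    rintro ⟨b, hb⟩ -
    exact h2 b hb
  rw [← f1, f2]

section

variable {F : Type*} [Field F] {G Ω : Type*} [Group G] [MulAction G Ω]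

/-- The stabiliser of `b` in `SL₃(F)`. -/
def Xs (ρ : S F →* G) (b : Ω) : Subgroup (S F) := (stabilizer G b).comap ρ

theorem mem_Xs {ρ : S F →* G} {b : Ω} {g : S F} : g ∈ Xs ρ b ↔ ρ g • b = b := Iff.rfl

theorem Xs_conj (ρ : S F →* G) (b : Ω) (h : S F) (g : S F) : g ∈ Xs ρ (ρ h • b) ↔ h⁻¹ * g * h ∈ Xs ρ b := by
  rw [mem_Xs, mem_Xs, map_mul, map_mul, mul_smul, mul_smul, map_inv, inv_smul_eq_iff]

/-- The situation. -/
structure Aff (ρ : S F →* G) (a : Ω) : Prop where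
  fix : ∀ g, ρ g • a = a
  odd : ∀ b : Ω, ¬ 2 ∣ (Xs ρ b).index
  ne : ∀ b : Ω, b ≠ a → Xs ρ b ≠ ⊤
  pow : ∀ H : Set (S F), ∃ k : ℕ, Nat.card {b : Ω // ∀ g ∈ H, ρ g • b = b} = 2 ^ k

variable {ρ : S F →* G} {a : Ω}

theorem Aff.toDual [Finite (S F)] (h : Aff ρ a) : Aff (ρ.comp (dual (F := F))) a := by
  have hbij : Function.Surjective (dual (F := F)) := fun g => ⟨dual g, dual_dual g⟩
  have hX : ∀ b : Ω, Xs (ρ.comp (SLThree.dual (F := F))) b = (Xs ρ b).comap SLThree.dual := fun b => rfl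
  refine ⟨fun g => h.fix _, ?_, ?_, ?_⟩
  · intro b
    rw [hX, Subgroup.index_comap_of_surjective _ hbij]
    exact h.odd b
  · intro b hb htop
    apply h.ne b hb
    rw [eq_top_iff]
    intro g _
    have : SLThree.dual g ∈ (Xs ρ b).comap SLThree.dual := by
      rw [← hX, htop]
      exact Subgroup.mem_top _
    rw [Subgroup.mem_comap, dual_dual] at this
    exact this
  · intro H
    obtain ⟨k, hk⟩ := h.pow (SLThree.dual '' H)
    refine ⟨k, ?_⟩
    rw [← hk]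
    apply Nat.card_congr
    refine Equiv.subtypeEquivRight ?_
    intro b
    constructor
    · rintro hb _ ⟨g, hg, rfl⟩
      exact hb g hg
    · intro hb g hg
      exact hb _ ⟨g, hg, rfl⟩

theorem Ln.toDual {X : Subgroup (S F)} {φ : Fin 3 → F} (h : Ln X φ) : Pt (X.comap SLThree.dual) φ := by
  refine ⟨h.1, ?_, ?_⟩
  · intro g hg
    obtain ⟨μ, hμ⟩ := h.2.1 _ hg
    rw [row_dual, inv_smul_eq_iff, smul_smul_comm'] at hμ
    by_cases h0 : μ = 0
    · rw [h0, zero_smul] at hμ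
      exact (h.1 hμ).elim
    · refine ⟨μ⁻¹, ?_⟩
      rw [eq_comm, inv_smul_eq_iff₀ h0]
      exact hμ
  · intro g hg
    rw [Subgroup.mem_comap]
    apply h.2.2
    rw [row_dual, inv_smul_eq_iff, hg]

theorem two_pow_aux {i j k l : ℕ} (h : 2 ^ i + 2 ^ j = 2 ^ k + 2 ^ l) (hi : 2 ^ l ≤ 2 ^ i) (hj : 2 ^ l ≤ 2 ^ j)
    (hik : 2 ^ i ≤ 2 ^ k) : 2 ^ l = 2 ^ i ∨ 2 ^ l = 2 ^ j := by
  by_contra hc
  push Not at hc
  have hi' : l < i := by
    have : l ≤ i := (Nat.pow_le_pow_iff_right (by norm_num)).1 hi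
    rcases Nat.lt_or_ge l i with h1 | h1
    · exact h1
    · exact (hc.1 (by rw [le_antisymm this h1])).elim
  have hj' : l < j := by
    have : l ≤ j := (Nat.pow_le_pow_iff_right (by norm_num)).1 hj
    rcases Nat.lt_or_ge l j with h1 | h1
    · exact h1
    · exact (hc.2 (by rw [le_antisymm this h1])).elim
  have hk' : l < k := lt_of_lt_of_le hi' ((Nat.pow_le_pow_iff_right (by norm_num)).1 hik)
  have d1 : 2 ^ (l + 1) ∣ 2 ^ i := pow_dvd_pow 2 hi'
  have d2 : 2 ^ (l + 1) ∣ 2 ^ j := pow_dvd_pow 2 hj'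
  have d3 : 2 ^ (l + 1) ∣ 2 ^ k := pow_dvd_pow 2 hk'
  have d4 : 2 ^ (l + 1) ∣ 2 ^ k + 2 ^ l := by rw [← h]; exact dvd_add d1 d2
  have d5 := (Nat.dvd_add_right d3).1 d4
  have := (Nat.pow_dvd_pow_iff_le_right (by norm_num)).1 d5
  omega

theorem Pt.smul {X : Subgroup (S F)} {v : Fin 3 → F} (h : Pt X v) {c : F} (hc : c ≠ 0) : Pt X (c • v) := by
  refine ⟨smul_ne_zero hc h.1, ?_, ?_⟩
  · intro g hg
    obtain ⟨μ, hμ⟩ := h.2.1 g hg
    exact ⟨μ, by rw [smul_smul_comm', hμ, smul_comm]⟩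
  · intro g hg
    apply h.2.2
    rw [smul_smul_comm'] at hg
    have := congrArg (fun w => c⁻¹ • w) hg
    simpa [smul_smul, hc] using this

/-- the fixed points of a transvection -/
theorem fz_iff [CharP F 2] [Finite (S F)] (h : Aff ρ a) (b : Ω) :
    tv e1 e3 ∈ Xs ρ b ↔ Ce (Xs ρ b) e1 ∨ Ax (Xs ρ b) e3 := by
  have ht : (e3 : Fin 3 → F) ⬝ᵥ e1 = 0 := by rw [dot_e1]; simp
  constructor
  · intro hz
    by_cases hba : b = a
    · left
      intro ψ _
      rw [hba, mem_Xs]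
      exact h.fix _
    have hv : ∀ v : Fin 3 → F, v ≠ 0 → (∀ g ∈ Xs ρ b, ∃ μ : F, g • v = μ • v) → v 2 = 0 := by
      intro v hv hX
      by_contra h2
      obtain ⟨μ, hμ⟩ := hX _ hz
      rw [tv_smul ht, e3_dot] at hμ
      have h0 : (v 2) • (e1 : Fin 3 → F) = (μ - 1) • v := by
        rw [sub_smul, one_smul, ← hμ]; simp
      have h3 := congrFun h0 2
      simp only [smul_ap, e1_two, mul_zero] at h3
      have h4 : μ - 1 = 0 := (mul_eq_zero.1 h3.symm).resolve_right h2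
      rw [h4, zero_smul] at h0
      exact smul_ne_zero h2 e1_ne h0
    have hφ : ∀ φ : Fin 3 → F, φ ≠ 0 → (∀ g ∈ Xs ρ b, ∃ μ : F, row φ g = μ • φ) → φ 0 = 0 := by
      intro φ hφ hX
      by_contra h2
      obtain ⟨μ, hμ⟩ := hX _ hz
      rw [row_tv ht, dot_e1] at hμ
      have h0 : (φ 0) • (e3 : Fin 3 → F) = (μ - 1) • φ := by
        rw [sub_smul, one_smul, ← hμ]; simp
      have h3 := congrFun h0 0
      simp only [smul_ap, e3_zero, mul_zero] at h3
      have h4 : μ - 1 = 0 := (mul_eq_zero.1 h3.symm).resolve_right h2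
      rw [h4, zero_smul] at h0
      exact smul_ne_zero h2 e3_ne h0
    rcases trichotomy (h.odd b) (h.ne b hba) with ⟨v, hp⟩ | ⟨φ, hl⟩ | ⟨v, φ, hf⟩
    · right
      exact hp.ax (by rw [e3_dot]; exact hv v hp.1 hp.2.1)
    · left
      exact hl.ce (by rw [dot_e1]; exact hφ φ hl.1 hl.2.1)
    · obtain ⟨h1, h2, h3, h4, h5, h6, h7⟩ := hf
      have e1' := hv v h1 h4
      have e2' := hφ φ h2 h5
      by_cases h8 : v 1 = 0
      · left
        have h9 : v 0 ≠ 0 := fun h9 => h1 (ext3 h9 h8 e1')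
        have : (e1 : Fin 3 → F) = (v 0)⁻¹ • v := ext3 (by simp [smul_ap, h9]) (by simp [smul_ap, h8])
          (by simp [smul_ap, e1'])
        rw [this]
        exact h6.smul _
      · right
        have h9 : φ 1 = 0 := by
          rw [dot_apply, e1', e2'] at h3
          simpa [h8] using h3
        have h10 : φ 2 ≠ 0 := fun h10 => h2 (ext3 e2' h9 h10)
        have : (e3 : Fin 3 → F) = (φ 2)⁻¹ • φ := ext3 (by simp [smul_ap, e2']) (by simp [smul_ap, h9])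
          (by simp [smul_ap, h10])
        rw [this]
        exact h7.smul _
  · rintro (h1 | h1)
    · exact h1 _ ht
    · exact h1 _ ht

/-- `C(E)` and `C(E')` are comparable. -/
theorem comparable [CharP F 2] [Finite (S F)] [Finite Ω] (h : Aff ρ a) :
    (∀ b : Ω, Ce (Xs ρ b) e1 → Ax (Xs ρ b) e3) ∨ (∀ b : Ω, Ax (Xs ρ b) e3 → Ce (Xs ρ b) e1) := by
  classical
  have : Fintype Ω := Fintype.ofFinite Ω
  set A : Finset Ω := Finset.univ.filter fun b => Ce (Xs ρ b) e1 with hA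
  set B : Finset Ω := Finset.univ.filter fun b => Ax (Xs ρ b) e3 with hB
  have hcard : ∀ (P : Ω → Prop) (H : Set (S F)), (∀ b, P b ↔ ∀ g ∈ H, ρ g • b = b) →
      ∃ k, (Finset.univ.filter P).card = 2 ^ k := by
    intro P H hPH
    obtain ⟨k, hk⟩ := h.pow H
    refine ⟨k, ?_⟩
    rw [← hk, ← Fintype.card_subtype, Nat.card_eq_fintype_card]
    apply Fintype.card_congr
    exact Equiv.subtypeEquivRight hPH
  obtain ⟨i, hi⟩ := hcard (fun b => Ce (Xs ρ b) e1) {g | ∃ ψ : Fin 3 → F, ψ ⬝ᵥ e1 = 0 ∧ g = tv e1 ψ} (by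
    intro b
    constructor
    · rintro hb _ ⟨ψ, hψ, rfl⟩
      exact hb ψ hψ
    · intro hb ψ hψ
      exact hb _ ⟨ψ, hψ, rfl⟩)
  obtain ⟨j, hj⟩ := hcard (fun b => Ax (Xs ρ b) e3) {g | ∃ w : Fin 3 → F, e3 ⬝ᵥ w = 0 ∧ g = tv w e3} (by
    intro b
    constructor
    · rintro hb _ ⟨ψ, hψ, rfl⟩
      exact hb ψ hψ
    · intro hb ψ hψ
      exact hb _ ⟨ψ, hψ, rfl⟩)
  obtain ⟨l, hl⟩ := hcard (fun b => Ce (Xs ρ b) e1 ∧ Ax (Xs ρ b) e3)
    ({g | ∃ ψ : Fin 3 → F, ψ ⬝ᵥ e1 = 0 ∧ g = tv e1 ψ} ∪ {g | ∃ w : Fin 3 → F, e3 ⬝ᵥ w = 0 ∧ g = tv w e3}) (by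
    intro b
    constructor
    · rintro ⟨h1, h2⟩ _ (⟨ψ, hψ, rfl⟩ | ⟨ψ, hψ, rfl⟩)
      · exact h1 ψ hψ
      · exact h2 ψ hψ
    · intro hb
      exact ⟨fun ψ hψ => hb _ (Or.inl ⟨ψ, hψ, rfl⟩), fun ψ hψ => hb _ (Or.inr ⟨ψ, hψ, rfl⟩)⟩)
  obtain ⟨k, hk⟩ := hcard (fun b => Ce (Xs ρ b) e1 ∨ Ax (Xs ρ b) e3) {tv e1 e3} (by
    intro b
    rw [← fz_iff h b]
    simp [mem_Xs])
  have hAB : (A ∪ B).card = 2 ^ k := by
    rw [← hk]
    congr 1
    ext b
    simp [hA, hB]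
  have hAB' : (A ∩ B).card = 2 ^ l := by
    rw [← hl]
    congr 1
    ext b
    simp [hA, hB]
  rw [← hA] at hi
  rw [← hB] at hj
  have hsum := Finset.card_union_add_card_inter A B
  rw [hAB, hAB', hi, hj] at hsum
  have l1 : 2 ^ l ≤ 2 ^ i := by rw [← hAB', ← hi]; exact Finset.card_le_card Finset.inter_subset_left
  have l2 : 2 ^ l ≤ 2 ^ j := by rw [← hAB', ← hj]; exact Finset.card_le_card Finset.inter_subset_right
  have l3 : 2 ^ i ≤ 2 ^ k := by rw [← hAB, ← hi]; exact Finset.card_le_card Finset.subset_union_left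
  rcases two_pow_aux hsum.symm l1 l2 l3 with h1 | h1
  · left
    intro b hb
    have h2 : A ∩ B = A := Finset.eq_of_subset_of_card_le Finset.inter_subset_left (by rw [hAB', hi, h1])
    have h3 : b ∈ A ∩ B := by
      rw [h2, hA]
      simpa using hb
    rw [hB] at h3
    simpa using (Finset.mem_inter.1 h3).2
  · right
    intro b hb
    have h2 : A ∩ B = B := Finset.eq_of_subset_of_card_le Finset.inter_subset_right (by rw [hAB', hj, h1])
    have h3 : b ∈ A ∩ B := by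
      rw [h2, hB]
      simpa using hb
    rw [hA] at h3
    simpa using (Finset.mem_inter.1 h3).1

/-- the second row vector -/
def r2 : Fin 3 → F := ![0, 1, 0]

theorem r2_ne : (r2 : Fin 3 → F) ≠ 0 := fun h => by simpa [r2] using congrFun h 1

theorem r2_not : ¬ ∃ c : F, (r2 : Fin 3 → F) = c • e3 := by
  rintro ⟨c, hc⟩
  have := congrFun hc 1
  simp [r2, smul_ap] at this

theorem tv_neg_neg {v φ : Fin 3 → F} (h : φ ⬝ᵥ v = 0) : tv (-v) (-φ) = tv v φ := by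
  have h1 : (-φ) ⬝ᵥ (-v) = 0 := by rw [neg_dotProduct, dotProduct_neg, h, neg_zero, neg_zero]
  apply ext_smul
  intro w
  rw [tv_smul h1, tv_smul h, neg_dotProduct]
  simp

theorem exists_row {φ : Fin 3 → F} (hφ : φ ≠ 0) : ∃ k : S F, row e3 k⁻¹ = φ := by
  obtain ⟨h1, hh1⟩ := exists_smul hφ
  obtain ⟨h2, hh2⟩ := exists_smul (F := F) e3_ne
  refine ⟨SLThree.dual (h1 * h2⁻¹), ?_⟩
  rw [← map_inv, row_dual, inv_inv, mul_smul]
  nth_rewrite 1 [← hh2]
  rw [inv_smul_smul, hh1]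

theorem all_pt [CharP F 2] [Finite (S F)] (h : Aff ρ a) (hc : ∀ b : Ω, Ce (Xs ρ b) e1 → Ax (Xs ρ b) e3) :
    ∀ b : Ω, b ≠ a → ∃ v, Pt (Xs ρ b) v := by
  intro b hb
  rcases trichotomy (h.odd b) (h.ne b hb) with h1 | ⟨φ, hl⟩ | ⟨v, φ, hf⟩
  · exact h1
  · exfalso
    obtain ⟨k, hk⟩ := exists_row hl.1
    obtain ⟨k', hk'⟩ := exists_row (F := F) r2_ne
    have h2 := hl.conj (Xs_conj ρ b (k' * k⁻¹))
    have h3 : row φ (k' * k⁻¹)⁻¹ = r2 := by
      rw [_root_.mul_inv_rev, inv_inv, row_mul, ← hk, row_inv_row, hk']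
    rw [h3] at h2
    have h4 := hc _ (h2.ce (by rw [dot_e1]; rfl))
    exact r2_not (ax_unique e3_ne h4 h2.2.1)
  · exfalso
    obtain ⟨k, hk1, hk2⟩ := exists_flag hf.1 hf.2.1 hf.2.2.1
    obtain ⟨k', hk1', hk2'⟩ := exists_flag (F := F) (v := e1) (φ := r2) e1_ne r2_ne (by rw [dot_e1]; rfl)
    have h2 := hf.conj (Xs_conj ρ b (k' * k⁻¹))
    have h3 : row φ (k' * k⁻¹)⁻¹ = r2 := by
      rw [_root_.mul_inv_rev, inv_inv, row_mul, ← hk2, row_inv_row, hk2']
    have h3' : (k' * k⁻¹) • v = e1 := by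
      rw [mul_smul, ← hk1, inv_smul_smul, hk1']
    rw [h3, h3'] at h2
    have h4 := hc _ h2.2.2.2.2.2.1
    exact r2_not (ax_unique e3_ne h4 h2.2.2.2.2.1)

theorem all_pt_or [CharP F 2] [Finite (S F)] [Finite Ω] (h : Aff ρ a) :
    (∀ b : Ω, b ≠ a → ∃ v, Pt (Xs ρ b) v) ∨ ∀ b : Ω, b ≠ a → ∃ v, Pt (Xs (ρ.comp SLThree.dual) b) v := by
  rcases comparable h with hc | hc
  · exact Or.inl (all_pt h hc)
  · right
    apply all_pt h.toDual
    intro b hb
    -- transport to the flag `(e3, e1)`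
    obtain ⟨k, hk1, hk2⟩ := exists_flag (F := F) (v := e3) (φ := e1) e3_ne e1_ne (by
      rw [dotProduct_comm, dot_e1]; rfl)
    have hA : Ax (Xs ρ b) e1 := by
      intro w hw
      have h2 : (w : Fin 3 → F) ⬝ᵥ e1 = 0 := by rw [dotProduct_comm, hw]
      have h2' : (-w : Fin 3 → F) ⬝ᵥ e1 = 0 := by rw [neg_dotProduct, h2, neg_zero]
      have h3 : SLThree.dual (tv e1 (-w)) ∈ Xs ρ b := hb (-w) h2'
      rw [dual_tv h2'] at h3
      rw [tv_neg_neg hw] at h3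
      exact h3
    have h4 : Ax (Xs ρ (ρ k⁻¹ • b)) e3 := by
      have h5 := hA.conj' (Xs_conj ρ b k⁻¹)
      rwa [inv_inv, ← hk2, row_inv_row] at h5
    have h6 := hc _ h4
    have h7 : Ce (Xs ρ b) e3 := by
      have h8 := h6.conj' (Y := Xs ρ b) (h := k) (by
        intro g
        have := Xs_conj ρ (ρ k⁻¹ • b) k g
        rwa [← mul_smul, ← map_mul, mul_inv_cancel, map_one, one_smul] at this)
      rwa [hk1] at h8
    intro w hw
    have hw' : (w : Fin 3 → F) ⬝ᵥ e3 = 0 := by rw [dotProduct_comm, hw]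
    change SLThree.dual (tv w e3) ∈ Xs ρ b
    rw [dual_tv hw]
    exact h7 _ (by rw [neg_dotProduct, hw', neg_zero])

end

end Cfsg.Agent.H438.SLThree
end

-- part: H438/SLThreeD
section
/-!
# Actions of `SL₃(2ⁿ)` in which the numbers of fixed points are powers of 2, II (helper438, S3727)

`Aff.main` : in the situation `Aff ρ a` (with the centre of `SL₃(F)` acting trivially and `Ω ≠ {a}`) the set has `q³`
elements, `n` is odd and the group is transitive on the points different from `a`.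
-/

set_option autoImplicit false
set_option linter.unusedSectionVars false
set_option linter.unusedSimpArgs false

namespace Cfsg.Agent.H438.SLThree

open Matrix MulAction

section card

variable {F : Type*} [Field F] [Finite F]

theorem card_vec : Nat.card (Fin 3 → F) = Nat.card F ^ 3 := by
  rw [Nat.card_fun, Nat.card_fin]

theorem card_ne : Nat.card {x : Fin 3 → F // x ≠ 0} = Nat.card F ^ 3 - 1 := by
  classical
  have : Fintype F := Fintype.ofFinite F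
  rw [← card_vec, Nat.card_eq_fintype_card, Nat.card_eq_fintype_card, Fintype.card_subtype_compl,
    Fintype.card_subtype_eq]

theorem card_plane (i : Fin 3) (j k : Fin 3) (hi : ∀ l, l = i ∨ l = j ∨ l = k) (hij : i ≠ j) (hik : i ≠ k)
    (hjk : j ≠ k) : Nat.card {x : Fin 3 → F // x ≠ 0 ∧ x i = 0} = Nat.card F ^ 2 - 1 := by
  classical
  have : Fintype F := Fintype.ofFinite F
  have e : {x : Fin 3 → F // x ≠ 0 ∧ x i = 0} ≃ {p : F × F // p ≠ 0} :=
    { toFun := fun x => ⟨(x.1 j, x.1 k), by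
        intro h
        apply x.2.1
        have h1 := congrArg Prod.fst h
        have h2 := congrArg Prod.snd h
        funext l
        rcases hi l with rfl | rfl | rfl
        · exact x.2.2
        · exact h1
        · exact h2⟩
      invFun := fun p => ⟨fun l => if l = j then p.1.1 else if l = k then p.1.2 else 0, by
        constructor
        · intro h
          apply p.2
          have h1 := congrFun h j
          have h2 := congrFun h k
          simp [hjk.symm] at h1 h2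
          exact Prod.ext h1 h2
        · simp [hij, hik]⟩
      left_inv := by
        intro x
        apply Subtype.ext
        funext l
        rcases hi l with rfl | rfl | rfl
        · simp [hij, hik, x.2.2]
        · simp
        · simp [hjk.symm]
      right_inv := by
        intro p
        apply Subtype.ext
        simp [hjk.symm] }
  rw [Nat.card_congr e, Nat.card_eq_fintype_card, Fintype.card_subtype_compl, Fintype.card_subtype_eq,
    Fintype.card_prod, Nat.card_eq_fintype_card, pow_two]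

end card

/-- powers of two -/
theorem arith_q {n i k A : ℕ} (hn : 1 ≤ n) (hA : 1 ≤ A) (h1 : 1 + A = 2 ^ i) (h2 : 1 + (2 ^ n + 1) * A = 2 ^ k) :
    A = 2 ^ n - 1 := by
  have h3 : 2 ^ k + 2 ^ n = (2 ^ n + 1) * 2 ^ i := by
    rw [← h1, ← h2]; ring
  rcases Nat.lt_trichotomy i n with hin | hin | hin
  · exfalso
    obtain ⟨d, rfl⟩ : ∃ d, n = i + 1 + d := ⟨n - (i + 1), by omega⟩
    have hi : 0 < i := by
      rcases Nat.eq_zero_or_pos i with h0 | h0
      · rw [h0, pow_zero] at h1; omega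
      · exact h0
    have hik : i < k := by
      by_contra hki
      push Not at hki
      have : 2 ^ k ≤ 2 ^ i := Nat.pow_le_pow_right (by norm_num) hki
      nlinarith [Nat.pow_pos (n := i + 1 + d) (show 0 < 2 by norm_num)]
    obtain ⟨e, rfl⟩ : ∃ e, k = i + 1 + e := ⟨k - (i + 1), by omega⟩
    have h4 : 2 ^ i * (2 * 2 ^ e + 2 * 2 ^ d) = 2 ^ i * (2 * (2 ^ (i + d)) + 1) := by
      have : 2 ^ (i + 1 + e) + 2 ^ (i + 1 + d) = (2 ^ (i + 1 + d) + 1) * 2 ^ i := h3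
      rw [show i + 1 + e = i + (e + 1) by ring, show i + 1 + d = i + (d + 1) by ring] at this
      rw [pow_add 2 i (e + 1), pow_add 2 i (d + 1), pow_succ 2 e, pow_succ 2 d] at this
      rw [pow_add 2 i d]
      linarith
    have h5 := Nat.eq_of_mul_eq_mul_left (show 0 < 2 ^ i by positivity) h4
    omega
  · subst hin
    omega
  · exfalso
    obtain ⟨d, rfl⟩ : ∃ d, i = n + 1 + d := ⟨i - (n + 1), by omega⟩
    have hnk : n < k := by
      by_contra hki
      push Not at hki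
      have : 2 ^ k ≤ 2 ^ n := Nat.pow_le_pow_right (by norm_num) hki
      have h6 : 2 ^ n ≤ 2 ^ (n + 1 + d) := Nat.pow_le_pow_right (by norm_num) (by omega)
      have h7 : 2 ≤ 2 ^ n := by
        calc 2 = 2 ^ 1 := rfl
          _ ≤ 2 ^ n := Nat.pow_le_pow_right (by norm_num) hn
      nlinarith
    obtain ⟨e, rfl⟩ : ∃ e, k = n + 1 + e := ⟨k - (n + 1), by omega⟩
    have h4 : 2 ^ n * (2 * 2 ^ e + 1) = 2 ^ n * (2 * ((2 ^ n + 1) * 2 ^ d)) := by
      rw [show n + 1 + e = n + (e + 1) by ring, show n + 1 + d = n + (d + 1) by ring] at h3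
      rw [pow_add 2 n (e + 1), pow_add 2 n (d + 1), pow_succ 2 e, pow_succ 2 d] at h3
      linarith
    have h5 := Nat.eq_of_mul_eq_mul_left (show 0 < 2 ^ n by positivity) h4
    omega

section

variable {F : Type*} [Field F] [Finite F] {G Ω : Type*} [Group G] [MulAction G Ω] [Finite Ω]
  {ρ : S F →* G} {a : Ω}

theorem not_pt_a (h : Aff ρ a) (v : Fin 3 → F) : ¬ Pt (Xs ρ a) v := by
  intro hp
  obtain ⟨c, hc⟩ := cen_unique (v := v) (w := v) hp.1 hp.ce hp.2.1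
  have key : ∀ w : Fin 3 → F, w ≠ 0 → ∃ c : F, w = c • v := by
    intro w hw
    obtain ⟨g, hg⟩ := exists_smul hp.1
    obtain ⟨k, hk⟩ := exists_smul hw
    obtain ⟨μ, hμ⟩ := hp.2.1 (k * g⁻¹) (h.fix _)
    refine ⟨μ, ?_⟩
    rw [← hμ, mul_smul, ← hg, inv_smul_smul, hk]
  obtain ⟨c1, h1⟩ := key e1 e1_ne
  obtain ⟨c3, h3⟩ := key e3 e3_ne
  have a1 := congrFun h1 0
  have a2 := congrFun h1 2
  have a3 := congrFun h3 0
  have a4 := congrFun h3 2
  simp only [smul_ap, e1_zero, e1_two, e3_zero] at a1 a2 a3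
  have h5 : v 2 = 0 := by
    rcases mul_eq_zero.1 a2.symm with h6 | h6
    · rw [h6, zero_mul] at a1
      exact (one_ne_zero a1).elim
    · exact h6
  rw [smul_ap, h5, mul_zero] at a4
  exact one_ne_zero (α := F) a4

theorem pt_count (x : Fin 3 → F) (hx : x ≠ 0) :
    Nat.card {b : Ω // Pt (Xs ρ b) x} = Nat.card {b : Ω // Pt (Xs ρ b) e1} := by
  obtain ⟨h, hh⟩ := exists_smul hx
  symm
  apply Nat.card_congr
  refine (MulAction.toPerm (ρ h)).subtypeEquiv ?_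
  intro b
  rw [MulAction.toPerm_apply]
  constructor
  · intro hb
    rw [← hh]
    exact hb.conj (Xs_conj ρ b h)
  · intro hb
    have h8 := hb.conj (Y := Xs ρ b) (h := h⁻¹) (by
      intro g
      have := Xs_conj ρ (ρ h • b) h⁻¹ g
      rwa [← mul_smul, ← map_mul, inv_mul_cancel, map_one, one_smul] at this)
    rwa [← hh, inv_smul_smul] at h8

theorem pt_fiber (K : (Fin 3 → F) → Prop) (hK : ∀ (c : F) (x : Fin 3 → F), c ≠ 0 → K x → K (c • x)) (b : Ω)
    (hb : ∃ x, K x ∧ Pt (Xs ρ b) x) : Nat.card {x // K x ∧ Pt (Xs ρ b) x} = Nat.card F - 1 := by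
  classical
  have : Fintype F := Fintype.ofFinite F
  obtain ⟨x, hKx, hx⟩ := hb
  have e : {c : F // c ≠ 0} ≃ {x // K x ∧ Pt (Xs ρ b) x} := by
    refine Equiv.ofBijective (fun c => ⟨c.1 • x, hK _ _ c.2 hKx, hx.smul c.2⟩) ⟨?_, ?_⟩
    · rintro ⟨c, hc⟩ ⟨d, hd⟩ hcd
      have h1 : c • x = d • x := congrArg Subtype.val hcd
      apply Subtype.ext
      exact smul_left_injective F hx.1 h1
    · rintro ⟨y, hy1, hy2⟩
      obtain ⟨c, hc⟩ := cen_unique hx.1 hx.ce hy2.2.1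
      have hc0 : c ≠ 0 := by
        rintro rfl
        rw [zero_smul] at hc
        exact hy2.1 hc
      exact ⟨⟨c, hc0⟩, Subtype.ext hc.symm⟩
  rw [← Nat.card_congr e, Nat.card_eq_fintype_card, Fintype.card_subtype_compl, Fintype.card_subtype_eq,
    Nat.card_eq_fintype_card]

/-- adding the point `a` -/
theorem card_or (a : Ω) (P : Ω → Prop) (hP : ¬ P a) : Nat.card {b : Ω // b = a ∨ P b} = 1 + Nat.card {b : Ω // P b} := by
  classical
  have : Fintype Ω := Fintype.ofFinite Ω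
  rw [Nat.card_eq_fintype_card, Nat.card_eq_fintype_card, Fintype.card_subtype_or_disjoint, Fintype.card_subtype_eq]
  rw [Pi.disjoint_iff]
  intro b
  rw [Prop.disjoint_iff]
  by_cases hb : b = a
  · subst hb; exact fun h => hP h.2
  · exact fun h => hb h.1

theorem q_sub (F : Type*) [Field F] [Finite F] : 0 < Nat.card F - 1 := by
  have := Finite.one_lt_card (α := F)
  omega

/-- the three counts -/
theorem counts (h : Aff ρ a) (hP : ∀ b : Ω, b ≠ a → ∃ v, Pt (Xs ρ b) v) :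
    (∃ i, 1 + Nat.card {b : Ω // Pt (Xs ρ b) e1} = 2 ^ i) ∧
    (∃ k, 1 + (Nat.card F + 1) * Nat.card {b : Ω // Pt (Xs ρ b) e1} = 2 ^ k) ∧
    (Nat.card F ^ 3 - 1) * Nat.card {b : Ω // Pt (Xs ρ b) e1} = Nat.card {b : Ω // b ≠ a} * (Nat.card F - 1) := by
  have hq := q_sub F
  refine ⟨?_, ?_, ?_⟩
  · obtain ⟨i, hi⟩ := h.pow {g | ∃ ψ : Fin 3 → F, ψ ⬝ᵥ e1 = 0 ∧ g = tv e1 ψ}
    refine ⟨i, ?_⟩
    rw [← hi, ← card_or a _ (not_pt_a h e1)]
    apply Nat.card_congr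
    refine Equiv.subtypeEquivRight ?_
    intro b
    constructor
    · rintro (rfl | hb)
      · intro g _
        exact h.fix g
      · rintro _ ⟨ψ, hψ, rfl⟩
        exact hb.ce ψ hψ
    · intro hb
      by_cases hba : b = a
      · exact Or.inl hba
      right
      obtain ⟨v, hv⟩ := hP b hba
      have hC : Ce (Xs ρ b) e1 := fun ψ hψ => hb _ ⟨ψ, hψ, rfl⟩
      obtain ⟨c, hc⟩ := cen_unique e1_ne hC hv.2.1
      have hc0 : c ≠ 0 := by
        rintro rfl
        rw [zero_smul] at hc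
        exact hv.1 hc
      have h1 : (e1 : Fin 3 → F) = c⁻¹ • v := by rw [hc, smul_smul, inv_mul_cancel₀ hc0, one_smul]
      rw [h1]
      exact hv.smul (inv_ne_zero hc0)
  · obtain ⟨i, hi⟩ := h.pow {g | ∃ w : Fin 3 → F, e3 ⬝ᵥ w = 0 ∧ g = tv w e3}
    refine ⟨i, ?_⟩
    have hc := dcount (fun (x : Fin 3 → F) (b : Ω) => Pt (Xs ρ b) x) (fun x => x ≠ 0 ∧ x 2 = 0)
      (c := Nat.card {b : Ω // Pt (Xs ρ b) e1}) (m := Nat.card F - 1) (fun x hx => pt_count x hx.1)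
      (fun b hb => pt_fiber _ (fun c x hc hx => ⟨smul_ne_zero hc hx.1, by rw [smul_ap, hx.2, mul_zero]⟩) b hb)
    rw [card_plane 2 0 1 (by decide) (by decide) (by decide) (by decide)] at hc
    have h1 : Nat.card F ^ 2 - 1 = (Nat.card F - 1) * (Nat.card F + 1) := by
      have := Nat.sq_sub_sq (Nat.card F) 1
      rw [one_pow] at this
      rw [this]; ring
    rw [h1, mul_assoc, mul_comm (Nat.card {b : Ω // _})] at hc
    have h2 := Nat.eq_of_mul_eq_mul_left hq hc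
    rw [h2, ← hi, ← card_or a]
    · apply Nat.card_congr
      refine Equiv.subtypeEquivRight ?_
      intro b
      constructor
      · rintro (rfl | ⟨x, ⟨hx0, hx2⟩, hb⟩)
        · intro g _
          exact h.fix g
        · rintro _ ⟨w, hw, rfl⟩
          exact hb.ax (by rw [e3_dot, hx2]) w hw
      · intro hb
        by_cases hba : b = a
        · exact Or.inl hba
        right
        obtain ⟨v, hv⟩ := hP b hba
        refine ⟨v, ⟨hv.1, ?_⟩, hv⟩
        by_contra hv2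
        have ht : (e3 : Fin 3 → F) ⬝ᵥ e1 = 0 := by rw [dot_e1]; simp
        obtain ⟨μ, hμ⟩ := hv.2.1 _ (hb _ ⟨e1, ht, rfl⟩)
        rw [tv_smul ht, e3_dot] at hμ
        have h0 : (v 2) • (e1 : Fin 3 → F) = (μ - 1) • v := by
          rw [sub_smul, one_smul, ← hμ]; simp
        have h3 := congrFun h0 2
        simp only [smul_ap, e1_two, mul_zero] at h3
        have h4 : μ - 1 = 0 := (mul_eq_zero.1 h3.symm).resolve_right hv2
        rw [h4, zero_smul] at h0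
        exact smul_ne_zero hv2 e1_ne h0
    · rintro ⟨x, -, hx⟩
      exact not_pt_a h x hx
  · have hc := dcount (fun (x : Fin 3 → F) (b : Ω) => Pt (Xs ρ b) x) (fun x => x ≠ 0)
      (c := Nat.card {b : Ω // Pt (Xs ρ b) e1}) (m := Nat.card F - 1) (fun x hx => pt_count x hx)
      (fun b hb => pt_fiber _ (fun c x hc hx => smul_ne_zero hc hx) b hb)
    rw [card_ne] at hc
    rw [hc]
    congr 1
    apply Nat.card_congr
    refine Equiv.subtypeEquivRight ?_
    intro b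
    constructor
    · rintro ⟨x, -, hx⟩ rfl
      exact not_pt_a h x hx
    · intro hb
      obtain ⟨v, hv⟩ := hP b hb
      exact ⟨v, hv.1, hv⟩

end

end Cfsg.Agent.H438.SLThree
end

-- part: H438/SLThreeE
section
/-!
# Actions of `SL₃(2ⁿ)` in which the numbers of fixed points are powers of 2, III (helper438, S3727)

`Aff.main` : in the situation `Aff ρ a` (with the centre of `SL₃(F)` acting trivially and `Ω ≠ {a}`) the set has `q³`
elements, `n` is odd and the group is transitive on the points different from `a`.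
-/

set_option autoImplicit false
set_option linter.unusedSectionVars false
set_option linter.unusedSimpArgs false

namespace Cfsg.Agent.H438.SLThree

open Matrix MulAction

section

variable {F : Type*} [Field F] [Finite F] {G Ω : Type*} [Group G] [MulAction G Ω] [Finite Ω]
  {ρ : S F →* G} {a : Ω}

/-- `μ` is an eigenvalue of an element of `X_b` on the line of `X_b`. -/
def EV (ρ : S F →* G) (b : Ω) (v : Fin 3 → F) (μ : F) : Prop := ∃ g ∈ Xs ρ b, g • v = μ • v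

theorem Pt.mem {b : Ω} {v : Fin 3 → F} (h : Pt (Xs ρ b) v) {μ : F} (hμ : EV ρ b v μ) {g : S F} (hg : g • v = μ • v) :
    g ∈ Xs ρ b := by
  obtain ⟨k, hk, hkv⟩ := hμ
  have h1 : (k⁻¹ * g) • v = v := by rw [mul_smul, hg, ← hkv, inv_smul_smul]
  have h2 := (Xs ρ b).mul_mem hk (h.2.2 _ h1)
  rwa [mul_inv_cancel_left] at h2

theorem EV.mul {b : Ω} {v : Fin 3 → F} {μ ν : F} (h1 : EV ρ b v μ) (h2 : EV ρ b v ν) : EV ρ b v (μ * ν) := by
  obtain ⟨g, hg, hgv⟩ := h1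
  obtain ⟨k, hk, hkv⟩ := h2
  exact ⟨g * k, (Xs ρ b).mul_mem hg hk, by rw [mul_smul, hkv, smul_smul_comm', hgv, smul_smul, mul_comm]⟩

theorem EV.one {b : Ω} {v : Fin 3 → F} : EV ρ b v 1 := ⟨1, (Xs ρ b).one_mem, by rw [one_smul, one_smul]⟩

theorem EV.pow {b : Ω} {v : Fin 3 → F} {μ : F} (h1 : EV ρ b v μ) (k : ℕ) : EV ρ b v (μ ^ k) := by
  induction k with
  | zero => rw [pow_zero]; exact EV.one
  | succ k ih => rw [pow_succ]; exact ih.mul h1

theorem EV.inv {b : Ω} {v : Fin 3 → F} {μ : F} (hv : v ≠ 0) (h1 : EV ρ b v μ) : EV ρ b v μ⁻¹ := by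
  obtain ⟨g, hg, hgv⟩ := h1
  have hμ : μ ≠ 0 := by
    rintro rfl
    rw [zero_smul] at hgv
    exact smul_ne' hv g hgv
  refine ⟨g⁻¹, (Xs ρ b).inv_mem hg, ?_⟩
  rw [inv_smul_eq_iff, smul_smul_comm', hgv, smul_smul, inv_mul_cancel₀ hμ, one_smul]

theorem EV.smul {b : Ω} {v : Fin 3 → F} {μ : F} (h1 : EV ρ b v μ) (c : F) : EV ρ b (c • v) μ := by
  obtain ⟨g, hg, hgv⟩ := h1
  exact ⟨g, hg, by rw [smul_smul_comm', hgv, smul_comm]⟩

theorem EV.conj {b : Ω} {v : Fin 3 → F} {μ : F} (h1 : EV ρ b v μ) (k : S F) : EV ρ (ρ k • b) (k • v) μ := by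
  obtain ⟨g, hg, hgv⟩ := h1
  refine ⟨k * g * k⁻¹, ?_, ?_⟩
  · rw [Xs_conj]
    have : k⁻¹ * (k * g * k⁻¹) * k = g := by group
    rwa [this]
  · rw [mul_smul, mul_smul, inv_smul_smul, hgv, smul_smul_comm']

theorem ev_count (x : Fin 3 → F) (hx : x ≠ 0) (μ : F) :
    Nat.card {b : Ω // Pt (Xs ρ b) x ∧ EV ρ b x μ} = Nat.card {b : Ω // Pt (Xs ρ b) e1 ∧ EV ρ b e1 μ} := by
  obtain ⟨h, hh⟩ := exists_smul hx
  symm
  apply Nat.card_congr
  refine (MulAction.toPerm (ρ h)).subtypeEquiv ?_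
  intro b
  rw [MulAction.toPerm_apply]
  constructor
  · rintro ⟨hb, hb'⟩
    rw [← hh]
    exact ⟨hb.conj (Xs_conj ρ b h), hb'.conj h⟩
  · rintro ⟨hb, hb'⟩
    have h8 := hb.conj (Y := Xs ρ b) (h := h⁻¹) (by
      intro g
      have := Xs_conj ρ (ρ h • b) h⁻¹ g
      rwa [← mul_smul, ← map_mul, inv_mul_cancel, map_one, one_smul] at this)
    have h9 := hb'.conj h⁻¹
    rw [← mul_smul, ← map_mul, inv_mul_cancel, map_one, one_smul, ← hh, inv_smul_smul] at h9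
    rw [← hh, inv_smul_smul] at h8
    exact ⟨h8, h9⟩

theorem ev_fiber (K : (Fin 3 → F) → Prop) (hK : ∀ (c : F) (x : Fin 3 → F), c ≠ 0 → K x → K (c • x)) (μ : F) (b : Ω)
    (hb : ∃ x, K x ∧ Pt (Xs ρ b) x ∧ EV ρ b x μ) :
    Nat.card {x // K x ∧ Pt (Xs ρ b) x ∧ EV ρ b x μ} = Nat.card F - 1 := by
  rw [← pt_fiber K hK b (by obtain ⟨x, h1, h2, -⟩ := hb; exact ⟨x, h1, h2⟩)]
  apply Nat.card_congr
  refine Equiv.subtypeEquivRight ?_
  intro x
  constructor
  · rintro ⟨h1, h2, -⟩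
    exact ⟨h1, h2⟩
  · rintro ⟨h1, h2⟩
    obtain ⟨y, h3, h4, h5⟩ := hb
    obtain ⟨c, hc⟩ := cen_unique h4.1 h4.ce h2.2.1
    rw [hc] at h1 h2 ⊢
    exact ⟨h1, h2, h5.smul c⟩

/-- The diagonal elements with exactly two eigenvalues have no fixed point except `a`. -/
theorem ev_zero (h : Aff ρ a) (hP : ∀ b : Ω, b ≠ a → ∃ v, Pt (Xs ρ b) v) (h2F : Even (Nat.card F)) {μ ν : F}
    (hμν : μ * ν * ν = 1) (hne : μ ≠ ν) {b : Ω} (hb : Pt (Xs ρ b) e1) (hev : EV ρ b e1 μ) (hpow : ∃ k : ℕ, ν = μ ^ k) :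
    False := by
  classical
  have : Fintype Ω := Fintype.ofFinite Ω
  have hq := q_sub F
  obtain ⟨l, hl⟩ := hpow
  obtain ⟨k, hk⟩ := h.pow {dg μ ν ν hμν}
  have hν0 : ν ≠ 0 := by
    rintro rfl
    simp at hμν
  -- `μ` and `ν` generate the same group
  have hμ' : μ = ν⁻¹ ^ 2 := by
    field_simp
    rw [pow_two, ← mul_assoc, hμν]
  have hiff : ∀ (b : Ω) (v : Fin 3 → F), v ≠ 0 → (EV ρ b v μ ↔ EV ρ b v ν) := by
    intro b v hv
    constructor
    · intro h1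
      rw [hl]
      exact h1.pow l
    · intro h1
      rw [hμ']
      exact (h1.inv hv).pow 2
  -- the fixed points
  set a1 := Nat.card {b : Ω // Pt (Xs ρ b) e1 ∧ EV ρ b e1 μ} with ha1
  have hpos : 0 < a1 := by
    rw [ha1]
    have : Nonempty {b : Ω // Pt (Xs ρ b) e1 ∧ EV ρ b e1 μ} := ⟨⟨b, hb, hev⟩⟩
    exact Nat.card_pos
  have hc := dcount (fun (x : Fin 3 → F) (b : Ω) => Pt (Xs ρ b) x ∧ EV ρ b x μ) (fun x => x ≠ 0 ∧ x 0 = 0)
    (c := a1) (m := Nat.card F - 1) (fun x hx => ev_count x hx.1 μ)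
    (fun b hb => ev_fiber _ (fun c x hc hx => ⟨smul_ne_zero hc hx.1, by rw [smul_ap, hx.2, mul_zero]⟩) μ b hb)
  rw [card_plane 0 1 2 (by decide) (by decide) (by decide) (by decide)] at hc
  have h1 : Nat.card F ^ 2 - 1 = (Nat.card F - 1) * (Nat.card F + 1) := by
    have := Nat.sq_sub_sq (Nat.card F) 1
    rw [one_pow] at this
    rw [this]; ring
  rw [h1, mul_assoc, mul_comm (Nat.card {b : Ω // _})] at hc
  have h2 := Nat.eq_of_mul_eq_mul_left hq hc
  have h3 : 2 ^ k = 1 + (a1 + (Nat.card F + 1) * a1) := by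
    rw [h2, ha1, ← hk]
    have e : {b : Ω // ∀ g ∈ ({dg μ ν ν hμν} : Set (S F)), ρ g • b = b} ≃
        {b : Ω // b = a ∨ ((Pt (Xs ρ b) e1 ∧ EV ρ b e1 μ) ∨ ∃ x : Fin 3 → F, (x ≠ 0 ∧ x 0 = 0) ∧
          Pt (Xs ρ b) x ∧ EV ρ b x μ)} := by
      refine Equiv.subtypeEquivRight ?_
      intro b
      constructor
      · intro hb
        have hb' : dg μ ν ν hμν ∈ Xs ρ b := hb _ rfl
        by_cases hba : b = a
        · exact Or.inl hba
        right
        obtain ⟨v, hv⟩ := hP b hba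
        obtain ⟨c, hc⟩ := hv.2.1 _ hb'
        rw [dg_apply] at hc
        have c0 : μ * v 0 = c * v 0 := congrFun hc 0
        have c1 : ν * v 1 = c * v 1 := congrFun hc 1
        have c2 : ν * v 2 = c * v 2 := congrFun hc 2
        by_cases hv0 : v 0 = 0
        · right
          refine ⟨v, ⟨hv.1, hv0⟩, hv, (hiff b v hv.1).2 ⟨_, hb', ?_⟩⟩
          rw [dg_apply]
          apply ext3
          · rw [smul_ap, hv0, mul_zero]; simp
          · rfl
          · rfl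
        · left
          have hcμ : μ = c := mul_right_cancel₀ hv0 c0
          subst hcμ
          have hv1 : v 1 = 0 := by
            by_contra h5
            exact hne (mul_right_cancel₀ h5 c1).symm
          have hv2 : v 2 = 0 := by
            by_contra h5
            exact hne (mul_right_cancel₀ h5 c2).symm
          have hve : (e1 : Fin 3 → F) = (v 0)⁻¹ • v := ext3 (by simp [smul_ap, hv0]) (by simp [smul_ap, hv1])
            (by simp [smul_ap, hv2])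
          refine ⟨by rw [hve]; exact hv.smul (inv_ne_zero hv0), ⟨_, hb', ?_⟩⟩
          rw [dg_apply]
          apply ext3 <;> simp [smul_ap]
      · rintro (rfl | ⟨h5, h6⟩ | ⟨x, ⟨hx, hx0⟩, h5, h6⟩)
        · intro g _
          exact h.fix g
        · rintro _ rfl
          refine h5.mem h6 ?_
          rw [dg_apply]
          apply ext3 <;> simp [smul_ap]
        · rintro _ rfl
          refine h5.mem ((hiff b x hx).1 h6) ?_
          rw [dg_apply]
          apply ext3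
          · rw [smul_ap, hx0, mul_zero]; simp
          · rfl
          · rfl
    rw [Nat.card_congr e, card_or a]
    · congr 1
      rw [Nat.card_eq_fintype_card, Nat.card_eq_fintype_card, Nat.card_eq_fintype_card,
        Fintype.card_subtype_or_disjoint]
      rw [Pi.disjoint_iff]
      intro b
      rw [Prop.disjoint_iff]
      rintro ⟨⟨h5, -⟩, x, ⟨hx, hx0⟩, h6, -⟩
      obtain ⟨c, hc⟩ := cen_unique h5.1 h5.ce h6.2.1
      have h7 : x 0 = c := by rw [hc, smul_ap]; simp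
      rw [hx0] at h7
      rw [hc, ← h7, zero_smul] at hx
      exact hx rfl
    · rintro (⟨h5, -⟩ | ⟨x, -, h5, -⟩)
      · exact not_pt_a h _ h5
      · exact not_pt_a h _ h5
  -- parity
  have h4 : 2 ^ k = 1 + 2 * (a1 + (Nat.card F / 2) * a1) := by
    rw [h3]
    obtain ⟨r, hr⟩ := h2F
    have : Nat.card F / 2 = r := by omega
    rw [this, hr]; ring
  have h5 : k = 0 := by
    by_contra h6
    obtain ⟨m, rfl⟩ := Nat.exists_eq_succ_of_ne_zero h6
    rw [pow_succ] at h4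
    omega
  rw [h5, pow_zero] at h4
  omega

/-- An element with three different eigenvalues `1, ω, ω²` has `1 + 3A` fixed points. -/
theorem omega_count (h : Aff ρ a) (hP : ∀ b : Ω, b ≠ a → ∃ v, Pt (Xs ρ b) v)
    (hz : ∀ (ω : F) (hω : ω * ω * ω = 1), ρ (dg ω ω ω hω) = 1) {ω : F} (hω : ω * ω * ω = 1) (hne : ω ≠ 1) :
    ∃ k, 1 + 3 * Nat.card {b : Ω // Pt (Xs ρ b) e1} = 2 ^ k := by
  classical
  have : Fintype Ω := Fintype.ofFinite Ω
  have hd : 1 * ω * (ω * ω) = 1 := by rw [one_mul, ← mul_assoc, hω]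
  have hω0 : ω ≠ 0 := by
    rintro rfl
    simp at hω
  have hne2 : ω * ω ≠ 1 := by
    intro h1
    rw [h1, one_mul] at hω
    exact hne hω
  have hne3 : ω * ω ≠ ω := by
    intro h1
    exact hne (mul_right_cancel₀ hω0 (by rw [h1, one_mul]))
  have hev : ∀ (b : Ω) (v : Fin 3 → F), EV ρ b v ω := by
    intro b v
    refine ⟨dg ω ω ω hω, ?_, ?_⟩
    · rw [mem_Xs, hz, one_smul]
    · rw [dg_apply]
      apply ext3 <;> rfl
  obtain ⟨k, hk⟩ := h.pow {dg 1 ω (ω * ω) hd}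
  refine ⟨k, ?_⟩
  rw [← hk]
  have hv : ∀ i : Fin 3, (Pi.single i 1 : Fin 3 → F) ≠ 0 := fun i h0 => by
    have := congrFun h0 i
    rw [Pi.single_eq_same] at this
    exact one_ne_zero this
  have e : {b : Ω // ∀ g ∈ ({dg 1 ω (ω * ω) hd} : Set (S F)), ρ g • b = b} ≃
      {b : Ω // b = a ∨ ∃ i : Fin 3, Pt (Xs ρ b) (Pi.single i 1)} := by
    refine Equiv.subtypeEquivRight ?_
    intro b
    constructor
    · intro hb
      have hb' : dg 1 ω (ω * ω) hd ∈ Xs ρ b := hb _ rfl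
      by_cases hba : b = a
      · exact Or.inl hba
      right
      obtain ⟨v, hv⟩ := hP b hba
      obtain ⟨c, hc⟩ := hv.2.1 _ hb'
      rw [dg_apply] at hc
      have c0 : 1 * v 0 = c * v 0 := congrFun hc 0
      have c1 : ω * v 1 = c * v 1 := congrFun hc 1
      have c2 : (ω * ω) * v 2 = c * v 2 := congrFun hc 2
      have h01 : v 0 = 0 ∨ v 1 = 0 := by
        by_contra hcon
        push Not at hcon
        exact hne ((mul_right_cancel₀ hcon.2 c1).trans (mul_right_cancel₀ hcon.1 c0).symm)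
      have h02 : v 0 = 0 ∨ v 2 = 0 := by
        by_contra hcon
        push Not at hcon
        exact hne2 ((mul_right_cancel₀ hcon.2 c2).trans (mul_right_cancel₀ hcon.1 c0).symm)
      have h12 : v 1 = 0 ∨ v 2 = 0 := by
        by_contra hcon
        push Not at hcon
        exact hne3 ((mul_right_cancel₀ hcon.2 c2).trans (mul_right_cancel₀ hcon.1 c1).symm)
      have key : ∀ i : Fin 3, (∀ j, j ≠ i → v j = 0) → Pt (Xs ρ b) (Pi.single i 1) := by
        intro i hi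
        have hvi : v i ≠ 0 := by
          intro h0
          apply hv.1
          funext j
          by_cases hj : j = i
          · rw [hj, h0]; rfl
          · exact hi j hj
        have hve : (Pi.single i 1 : Fin 3 → F) = (v i)⁻¹ • v := by
          funext j
          by_cases hj : j = i
          · rw [hj, Pi.single_eq_same, smul_ap, inv_mul_cancel₀ hvi]
          · rw [Pi.single_eq_of_ne hj, smul_ap, hi j hj, mul_zero]
        rw [hve]
        exact hv.smul (inv_ne_zero hvi)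
      by_cases hv0 : v 0 = 0
      · rcases h12 with h1 | h1
        · refine ⟨2, key 2 ?_⟩
          intro j hj
          fin_cases j
          · exact hv0
          · exact h1
          · exact (hj rfl).elim
        · refine ⟨1, key 1 ?_⟩
          intro j hj
          fin_cases j
          · exact hv0
          · exact (hj rfl).elim
          · exact h1
      · refine ⟨0, key 0 ?_⟩
        intro j hj
        fin_cases j
        · exact (hj rfl).elim
        · exact h01.resolve_left hv0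
        · exact h02.resolve_left hv0
    · rintro (rfl | ⟨i, hi⟩)
      · intro g _
        exact h.fix g
      · rintro _ rfl
        refine hi.mem ((hev b _).pow (i : ℕ)) ?_
        rw [dg_apply]
        fin_cases i
        · apply ext3 <;> simp [smul_ap]
        · apply ext3 <;> simp [smul_ap]
        · apply ext3 <;> simp [smul_ap, pow_two]
  rw [Nat.card_congr e, card_or a]
  · congr 1
    have e2 : {b : Ω // ∃ i : Fin 3, Pt (Xs ρ b) (Pi.single i 1)} ≃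
        Σ i : Fin 3, {b : Ω // Pt (Xs ρ b) (Pi.single i 1)} := by
      symm
      refine Equiv.ofBijective (fun p => ⟨p.2.1, p.1, p.2.2⟩) ⟨?_, ?_⟩
      · rintro ⟨i, b, hb⟩ ⟨j, b', hb'⟩ heq
        have h1 : b = b' := congrArg Subtype.val heq
        subst h1
        have h2 : i = j := by
          obtain ⟨c, hc⟩ := cen_unique hb.1 hb.ce hb'.2.1
          by_contra hij
          have h3 := congrFun hc j
          rw [Pi.single_eq_same, smul_ap, Pi.single_eq_of_ne (fun h => hij h.symm), mul_zero] at h3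
          exact one_ne_zero h3
        subst h2
        rfl
      · rintro ⟨b, i, hb⟩
        exact ⟨⟨i, b, hb⟩, rfl⟩
    rw [Nat.card_congr e2, Nat.card_sigma, Finset.sum_congr rfl (g := fun _ => Nat.card {b : Ω // Pt (Xs ρ b) e1})]
    · simp
    · intro i _
      exact pt_count _ (hv i)
  · rintro ⟨i, hi⟩
    exact not_pt_a h _ hi

/-- The conclusion: `q = 2ⁿ` with `n` odd, `|Ω| = q³` and transitivity on the points different from `a`. -/
theorem main_pt [CharP F 2] (h : Aff ρ a) (hP : ∀ b : Ω, b ≠ a → ∃ v, Pt (Xs ρ b) v)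
    (hz : ∀ (ω : F) (hω : ω * ω * ω = 1), ρ (dg ω ω ω hω) = 1) (hex : ∃ b, b ≠ a) {n : ℕ} (hn : 1 ≤ n)
    (hF : Nat.card F = 2 ^ n) :
    Odd n ∧ Nat.card Ω = Nat.card F ^ 3 ∧ ∀ b b' : Ω, b ≠ a → b' ≠ a → ∃ g, ρ g • b = b' := by
  classical
  have : Fintype Ω := Fintype.ofFinite Ω
  have : Fintype F := Fintype.ofFinite F
  have hq := q_sub F
  obtain ⟨⟨i, hi⟩, ⟨k, hk⟩, h3⟩ := counts h hP
  set A := Nat.card {b : Ω // Pt (Xs ρ b) e1} with hA
  have hA1 : 1 ≤ A := by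
    obtain ⟨b, hb⟩ := hex
    obtain ⟨v, hv⟩ := hP b hb
    rw [hA, ← pt_count v hv.1]
    have : Nonempty {b : Ω // Pt (Xs ρ b) v} := ⟨⟨b, hv⟩⟩
    exact Nat.card_pos
  rw [hF] at hk
  have hAq : A = 2 ^ n - 1 := arith_q hn hA1 hi hk
  have heven : Even (Nat.card F) := by
    rw [hF, Nat.even_pow]
    exact ⟨even_two, by omega⟩
  -- no primitive cube root of unity
  have hω1 : ∀ ω : F, ω * ω * ω = 1 → ω = 1 := by
    intro ω hω
    by_contra hne
    obtain ⟨l, hl⟩ := omega_count h hP hz hω hne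
    rw [← hA, hAq] at hl
    obtain ⟨m, rfl⟩ : ∃ m, n = m + 1 := ⟨n - 1, by omega⟩
    -- `3 ∣ q - 1`
    have hω0 : ω ≠ 0 := by
      rintro rfl
      simp at hω
    have h4 : orderOf (Units.mk0 ω hω0) = 3 := by
      have : Fact (Nat.Prime 3) := ⟨Nat.prime_three⟩
      apply orderOf_eq_prime
      · apply Units.ext
        push_cast
        rw [Units.val_mk0, pow_succ, pow_two, hω]
      · intro h5
        exact hne (by simpa using congrArg Units.val h5)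
    have h5 : 3 ∣ Nat.card F - 1 := by
      have h6 := orderOf_dvd_natCard (Units.mk0 ω hω0)
      rw [h4, Nat.card_units] at h6
      exact h6
    rw [hF] at h5
    have hm : m ≠ 0 := by
      rintro rfl
      norm_num at h5
    obtain ⟨m, rfl⟩ := Nat.exists_eq_succ_of_ne_zero hm
    have hl' : l ≠ 0 := by
      rintro rfl
      have : 2 ^ (m.succ + 1) = 2 ^ m * 4 := by rw [Nat.succ_eq_add_one, pow_add, pow_add]; norm_num; ring
      rw [this] at hl
      have h7 : 0 < 2 ^ m := by positivity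
      omega
    obtain ⟨l, rfl⟩ := Nat.exists_eq_succ_of_ne_zero hl'
    have hl'' : l ≠ 0 := by
      rintro rfl
      have : 2 ^ (m.succ + 1) = 2 ^ m * 4 := by rw [Nat.succ_eq_add_one, pow_add, pow_add]; norm_num; ring
      rw [this] at hl
      have h7 : 0 < 2 ^ m := by positivity
      omega
    obtain ⟨l, rfl⟩ := Nat.exists_eq_succ_of_ne_zero hl''
    have e1 : 2 ^ (m.succ + 1) = 2 ^ m * 4 := by rw [Nat.succ_eq_add_one, pow_add, pow_add]; norm_num; ring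
    have e2 : 2 ^ (l.succ.succ) = 2 ^ l * 4 := by
      rw [pow_succ, pow_succ]; ring
    rw [e1, e2] at hl
    have h7 : 0 < 2 ^ m := by positivity
    omega
  -- all stabilisers are stabilisers of vectors
  have hM : ∀ b : Ω, Pt (Xs ρ b) e1 → ∀ g ∈ Xs ρ b, g • (e1 : Fin 3 → F) = e1 := by
    intro b hb g hg
    obtain ⟨μ, hμ⟩ := hb.2.1 g hg
    have hev : EV ρ b e1 μ := ⟨g, hg, hμ⟩
    have hμ0 : μ ≠ 0 := by
      rintro rfl
      rw [zero_smul] at hμ
      exact smul_ne' e1_ne g hμ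
    by_cases hμ1 : μ = 1
    · rw [hμ, hμ1, one_smul]
    exfalso
    -- the square root of `μ⁻¹`
    have hcard : 0 < Fintype.card F := Fintype.card_pos
    have hF' : Fintype.card F = 2 ^ n := by rw [← hF, Nat.card_eq_fintype_card]
    have hpow : μ ^ (2 ^ n - 1) = 1 := by
      have := FiniteField.pow_card_sub_one_eq_one μ hμ0
      rwa [hF'] at this
    obtain ⟨m, rfl⟩ : ∃ m, n = m + 1 := ⟨n - 1, by omega⟩
    set ν := μ ^ (2 ^ m - 1) with hν
    have hμν : μ * ν * ν = 1 := by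
      rw [← hpow, hν, mul_assoc, ← pow_add, ← pow_succ']
      congr 1
      have h7 : 0 < 2 ^ m := by positivity
      rw [pow_succ]
      omega
    refine ev_zero h hP heven hμν ?_ hb hev ⟨_, hν⟩
    intro h8
    rw [← h8] at hμν
    exact hμ1 (hω1 μ hμν)
  -- the number of points
  have hcardne : Nat.card {b : Ω // b ≠ a} = Nat.card F ^ 3 - 1 := by
    rw [hAq, hF] at h3
    rw [hF] at hq ⊢
    exact (Nat.eq_of_mul_eq_mul_right hq h3).symm
  refine ⟨?_, ?_, ?_⟩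
  · -- `n` is odd
    by_contra hodd
    rw [Nat.not_odd_iff_even] at hodd
    obtain ⟨r, hr⟩ := hodd
    have h3d : 3 ∣ Nat.card Fˣ := by
      rw [Nat.card_units, hF, hr, ← two_mul, pow_mul]
      have := Nat.sub_dvd_pow_sub_pow (2 ^ 2) 1 r
      rwa [one_pow] at this
    have : Fact (Nat.Prime 3) := ⟨Nat.prime_three⟩
    obtain ⟨u, hu⟩ := exists_prime_orderOf_dvd_card' 3 h3d
    have h4 : (u : F) * u * u = 1 := by
      have h5 := pow_orderOf_eq_one u
      rw [hu] at h5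
      have := congrArg Units.val h5
      push_cast at this
      rw [← this]; ring
    have h6 := hω1 _ h4
    have h7 : u = 1 := Units.ext h6
    rw [h7, orderOf_one] at hu
    norm_num at hu
  · have h4 : Nat.card Ω = 1 + Nat.card {b : Ω // b ≠ a} := by
      rw [← card_or a (fun b => b ≠ a) (fun h => h rfl)]
      symm
      apply Nat.card_congr
      exact Equiv.subtypeUnivEquiv (fun b => eq_or_ne b a)
    rw [h4, hcardne]
    have : 0 < Nat.card F ^ 3 := by rw [hF]; positivity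
    omega
  · -- transitivity
    have key : ∀ b : Ω, Pt (Xs ρ b) e1 → ∀ b' : Ω, b' ≠ a → ∃ g, ρ g • b = b' := by
      intro b hb
      have hba : b ≠ a := by
        rintro rfl
        exact not_pt_a h _ hb
      have hc : ∀ x : {x : Fin 3 → F // x ≠ 0}, ∃ g : S F, g • (e1 : Fin 3 → F) = x.1 := fun x => exists_smul x.2
      choose f hf using hc
      set Φ : {x : Fin 3 → F // x ≠ 0} → {b : Ω // b ≠ a} := fun x => ⟨ρ (f x) • b, by
        intro h0
        apply hba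
        rw [← h.fix (f x)] at h0
        exact smul_left_cancel _ h0⟩ with hΦ
      have hinj : Function.Injective Φ := by
        intro x y hxy
        have h1 : ρ (f x) • b = ρ (f y) • b := congrArg Subtype.val hxy
        have h2 : (f y)⁻¹ * f x ∈ Xs ρ b := by
          rw [mem_Xs, map_mul, map_inv, mul_smul, h1, inv_smul_smul]
        have h3 := hM b hb _ h2
        rw [mul_smul, hf, inv_smul_eq_iff, hf] at h3
        exact Subtype.ext h3
      have hbij : Function.Bijective Φ := by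
        rw [Fintype.bijective_iff_injective_and_card]
        refine ⟨hinj, ?_⟩
        rw [← Nat.card_eq_fintype_card, ← Nat.card_eq_fintype_card, hcardne, card_ne]
      intro b' hb'
      obtain ⟨x, hx⟩ := hbij.2 ⟨b', hb'⟩
      exact ⟨f x, congrArg Subtype.val hx⟩
    intro b b' hb hb'
    obtain ⟨v, hv⟩ := hP b hb
    obtain ⟨k, hk⟩ := exists_smul hv.1
    have h5 : Pt (Xs ρ (ρ k⁻¹ • b)) e1 := by
      have := hv.conj (Xs_conj ρ b k⁻¹)
      rwa [← hk, inv_smul_smul] at this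
    obtain ⟨g, hg⟩ := key _ h5 b' hb'
    exact ⟨g * k⁻¹, by rw [map_mul, mul_smul, hg]⟩

theorem main [CharP F 2] (h : Aff ρ a)
    (hz : ∀ (ω : F) (hω : ω * ω * ω = 1), ρ (dg ω ω ω hω) = 1) (hex : ∃ b, b ≠ a) {n : ℕ} (hn : 1 ≤ n)
    (hF : Nat.card F = 2 ^ n) :
    Odd n ∧ Nat.card Ω = Nat.card F ^ 3 ∧ ∀ b b' : Ω, b ≠ a → b' ≠ a → ∃ g, ρ g • b = b' := by
  rcases all_pt_or h with hP | hP
  · exact main_pt h hP hz hex hn hF
  · obtain ⟨h1, h2, h3⟩ := main_pt h.toDual hP (by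
      intro ω hω
      have hω0 : ω ≠ 0 := by
        rintro rfl
        simp at hω
      have h1 : SLThree.dual (dg ω ω ω hω) = dg ω⁻¹ ω⁻¹ ω⁻¹ (by rw [← mul_inv, ← mul_inv, hω, inv_one]) := by
        apply ext_smul
        intro v
        rw [dual_smul]
        have h2 : (dg ω ω ω hω)⁻¹ = dg ω⁻¹ ω⁻¹ ω⁻¹ (by rw [← mul_inv, ← mul_inv, hω, inv_one]) := by
          rw [inv_eq_iff_mul_eq_one]
          apply ext_smul
          intro w
          rw [mul_smul, dg_apply, dg_apply, one_smul]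
          apply ext3 <;> simp [hω0]
        rw [h2, row_dg, dg_apply]
      rw [MonoidHom.comp_apply, h1]
      exact hz _ _) hex hn hF
    refine ⟨h1, h2, ?_⟩
    intro b b' hb hb'
    obtain ⟨g, hg⟩ := h3 b b' hb hb'
    exact ⟨_, hg⟩

end

end Cfsg.Agent.H438.SLThree
end

-- part: H438/SLThreeF
section
/-!
# `SL₃(F)`: centre, normal subgroups of parabolic subgroups, semilinear maps (helper438, S3727)
-/

set_option autoImplicit false
set_option linter.unusedSectionVars false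
set_option linter.unusedSimpArgs false

namespace Cfsg.Agent.H438.SLThree

open Matrix MulAction

section centre

variable {F : Type*} [Field F]

theorem mem_center_iff' {g : S F} : g ∈ Subgroup.center (S F) ↔ ∃ ω : F, ω * ω * ω = 1 ∧ ∀ v : Fin 3 → F, g • v = ω • v := by
  rw [Matrix.SpecialLinearGroup.mem_center_iff]
  constructor
  · rintro ⟨r, hr, hg⟩
    rw [Fintype.card_fin, pow_succ, pow_two] at hr
    refine ⟨r, hr, ?_⟩
    intro v
    rw [smul_eq, ← hg, scalar_apply]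
    apply ext3 <;> rw [mulVec_diagonal] <;> rfl
  · rintro ⟨ω, hω, hg⟩
    refine ⟨ω, by rw [Fintype.card_fin, pow_succ, pow_two, hω], ?_⟩
    have h1 : (dg ω ω ω hω) = g := by
      apply ext_smul
      intro v
      rw [hg, dg_apply]
      apply ext3 <;> rfl
    rw [← h1]
    ext i j
    rw [scalar_apply]
    change diagonal _ i j = diagonal ![ω, ω, ω] i j
    fin_cases i <;> fin_cases j <;> simp [diagonal]

theorem dg_mem_center {ω : F} (hω : ω * ω * ω = 1) : dg ω ω ω hω ∈ Subgroup.center (S F) := by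
  rw [mem_center_iff']
  refine ⟨ω, hω, ?_⟩
  intro v
  rw [dg_apply]
  apply ext3 <;> rfl

theorem exists_dot {φ : Fin 3 → F} (hφ : φ ≠ 0) : ∃ u : Fin 3 → F, φ ⬝ᵥ u = 1 := by
  by_contra hc
  push Not at hc
  apply hφ
  have key : ∀ u : Fin 3 → F, φ ⬝ᵥ u = 0 := by
    intro u
    by_contra h0
    apply hc ((φ ⬝ᵥ u)⁻¹ • u)
    rw [dotProduct_smul, smul_eq_mul, inv_mul_cancel₀ h0]
  have h0 := key ![1, 0, 0]
  have h1 := key ![0, 1, 0]
  have h2 := key ![0, 0, 1]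
  rw [dot_apply] at h0 h1 h2
  exact ext3 (by simpa using h0) (by simpa using h1) (by simpa using h2)

theorem exists_dot' {v : Fin 3 → F} (hv : v ≠ 0) : ∃ ψ : Fin 3 → F, ψ ⬝ᵥ v = 1 := by
  obtain ⟨u, hu⟩ := exists_dot hv
  exact ⟨u, by rw [dotProduct_comm, hu]⟩

/-- two rows have a common zero -/
theorem exists_common (φ ψ : Fin 3 → F) : ∃ u : Fin 3 → F, u ≠ 0 ∧ φ ⬝ᵥ u = 0 ∧ ψ ⬝ᵥ u = 0 := by
  classical
  by_cases h0 : crossProduct φ ψ = 0
  · -- dependent rows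
    by_cases hφ : φ = 0
    · by_cases hψ : ψ = 0
      · exact ⟨e1, e1_ne, by rw [hφ, zero_dotProduct], by rw [hψ, zero_dotProduct]⟩
      · obtain ⟨k, hk⟩ := exists_row hψ
        refine ⟨k • e1, smul_ne' e1_ne k, by rw [hφ, zero_dotProduct], ?_⟩
        rw [← row_dot, ← hk, row_inv_row, dot_e1]
        rfl
    · obtain ⟨k, hk⟩ := exists_row hφ
      have hpar : ∃ c : F, ψ = c • φ := by
        have c0 := congrFun h0 0
        have c1 := congrFun h0 1
        have c2 := congrFun h0 2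
        simp [cross_apply] at c0 c1 c2
        by_cases p0 : φ 0 = 0
        · by_cases p1 : φ 1 = 0
          · have p2 : φ 2 ≠ 0 := fun p2 => hφ (ext3 p0 p1 p2)
            refine ⟨ψ 2 / φ 2, ext3 ?_ ?_ ?_⟩
            · rw [smul_ap, p0, mul_zero]
              rw [p0] at c1
              simp at c1
              exact c1.resolve_left p2
            · rw [smul_ap, p1, mul_zero]
              rw [p1] at c0
              simp at c0
              exact c0.resolve_left p2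
            · rw [smul_ap]
              field_simp
          · refine ⟨ψ 1 / φ 1, ext3 ?_ ?_ ?_⟩
            · rw [smul_ap]
              field_simp
              linear_combination -c2
            · rw [smul_ap]
              field_simp
            · rw [smul_ap]
              field_simp
              linear_combination c0
        · refine ⟨ψ 0 / φ 0, ext3 ?_ ?_ ?_⟩
          · rw [smul_ap]
            field_simp
          · rw [smul_ap]
            field_simp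
            linear_combination c2
          · rw [smul_ap]
            field_simp
            linear_combination -c1
      obtain ⟨c, hc⟩ := hpar
      have h1 : φ ⬝ᵥ (k • e1) = 0 := by
        rw [← row_dot, ← hk, row_inv_row, dot_e1]
        rfl
      refine ⟨k • e1, smul_ne' e1_ne k, h1, ?_⟩
      rw [hc, smul_dotProduct, h1, smul_zero]
  · exact ⟨crossProduct φ ψ, h0, dot_self_cross _ _, dot_cross_self _ _⟩

theorem tv_eq_one {v φ : Fin 3 → F} (h : φ ⬝ᵥ v = 0) (h1 : tv v φ = 1) : v = 0 ∨ φ = 0 := by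
  by_contra hc
  push Not at hc
  obtain ⟨u, hu⟩ := exists_dot hc.2
  have h2 := tv_smul h u
  rw [h1, one_smul, hu, one_smul] at h2
  exact hc.1 (by simpa using h2)

theorem tv_mem_center {v φ : Fin 3 → F} (h : φ ⬝ᵥ v = 0) (h1 : tv v φ ∈ Subgroup.center (S F)) : v = 0 ∨ φ = 0 := by
  apply tv_eq_one h
  obtain ⟨ω, hω, hg⟩ := mem_center_iff'.1 h1
  obtain ⟨u, hu, hu1, -⟩ := exists_common φ φ
  have h2 := hg u
  rw [tv_smul h, hu1, zero_smul, add_zero] at h2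
  have h3 : ω = 1 := by
    have : (1 : F) • u = ω • u := by rw [one_smul]; exact h2
    exact (smul_left_injective F hu this).symm
  apply ext_smul
  intro w
  rw [hg, h3, one_smul, one_smul]

/-- equality modulo the centre -/
theorem tv_eq_of_center {v φ w ψ : Fin 3 → F} (h : φ ⬝ᵥ v = 0) (h' : ψ ⬝ᵥ w = 0)
    (h1 : (tv w ψ)⁻¹ * tv v φ ∈ Subgroup.center (S F)) : tv v φ = tv w ψ := by
  obtain ⟨ω, hω, hg⟩ := mem_center_iff'.1 h1
  obtain ⟨u, hu, hu1, hu2⟩ := exists_common φ ψ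
  have h2 := hg u
  rw [mul_smul, inv_smul_eq_iff, smul_smul_comm', tv_smul h, tv_smul h', hu1, hu2, zero_smul, zero_smul, add_zero] at h2

  have h3 : ω = 1 := by
    have : (1 : F) • u = ω • u := by rw [one_smul]; exact h2
    exact (smul_left_injective F hu this).symm
  apply ext_smul
  intro x
  have h4 := hg x
  rwa [mul_smul, inv_smul_eq_iff, h3, one_smul] at h4

theorem tv_inj {v φ w ψ : Fin 3 → F} (h : φ ⬝ᵥ v = 0) (h' : ψ ⬝ᵥ w = 0) (hv : v ≠ 0) (hφ : φ ≠ 0)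
    (he : tv v φ = tv w ψ) : ∃ c : F, c ≠ 0 ∧ w = c • v ∧ ψ = c⁻¹ • φ := by
  have hall : ∀ u : Fin 3 → F, (φ ⬝ᵥ u) • v = (ψ ⬝ᵥ u) • w := by
    intro u
    have h1 := tv_smul h u
    rw [he, tv_smul h'] at h1
    exact (add_left_cancel h1).symm
  obtain ⟨u, hu⟩ := exists_dot hφ
  have h1 := hall u
  rw [hu, one_smul] at h1
  have h2 : ψ ⬝ᵥ u ≠ 0 := by
    intro h0
    rw [h0, zero_smul] at h1
    exact hv h1
  have hw : w = (ψ ⬝ᵥ u)⁻¹ • v := by rw [h1, smul_smul, inv_mul_cancel₀ h2, one_smul]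
  have hw0 : w ≠ 0 := by
    rw [hw]
    exact smul_ne_zero (inv_ne_zero h2) hv
  refine ⟨(ψ ⬝ᵥ u)⁻¹, inv_ne_zero h2, hw, ?_⟩
  rw [inv_inv]
  have key : ∀ x : Fin 3 → F, ψ ⬝ᵥ x = (ψ ⬝ᵥ u) * (φ ⬝ᵥ x) := by
    intro x
    have h3 := hall x
    rw [h1, smul_smul] at h3
    have := smul_left_injective F hw0 h3
    rw [← this]; ring
  have k0 := key ![1, 0, 0]
  have k1 := key ![0, 1, 0]
  have k2 := key ![0, 0, 1]
  simp only [dot_apply ψ ![1, 0, 0], dot_apply φ ![1, 0, 0], dot_apply ψ ![0, 1, 0], dot_apply φ ![0, 1, 0],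
    dot_apply ψ ![0, 0, 1], dot_apply φ ![0, 0, 1]] at k0 k1 k2
  exact ext3 (by rw [smul_ap]; simpa using k0) (by rw [smul_ap]; simpa using k1) (by rw [smul_ap]; simpa using k2)

theorem tv_mul {v φ ψ : Fin 3 → F} (h : φ ⬝ᵥ v = 0) (h' : ψ ⬝ᵥ v = 0) : tv v φ * tv v ψ = tv v (φ + ψ) := by
  apply ext_smul
  intro u
  rw [mul_smul, tv_smul h, tv_smul h', tv_smul (by rw [add_dotProduct, h, h', add_zero]), dotProduct_add,
    dotProduct_smul, h, smul_zero, add_zero, add_dotProduct, add_smul, add_assoc, add_comm ((ψ ⬝ᵥ u) • v)]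

theorem tv_mul' {v w φ : Fin 3 → F} (h : φ ⬝ᵥ v = 0) (h' : φ ⬝ᵥ w = 0) : tv v φ * tv w φ = tv (v + w) φ := by
  apply ext_smul
  intro u
  rw [mul_smul, tv_smul h, tv_smul h', tv_smul (by rw [dotProduct_add, h, h', add_zero]), dotProduct_add,
    dotProduct_smul, h', smul_zero, add_zero, smul_add, add_assoc, add_comm ((φ ⬝ᵥ u) • w)]

theorem tv_zero_right (v : Fin 3 → F) : tv v (0 : Fin 3 → F) = 1 := by
  apply ext_smul
  intro u
  rw [tv_smul (zero_dotProduct _), zero_dotProduct, zero_smul, add_zero, one_smul]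

theorem tv_zero_left (φ : Fin 3 → F) : tv (0 : Fin 3 → F) φ = 1 := by
  apply ext_smul
  intro u
  rw [tv_smul (dotProduct_zero _), smul_zero, add_zero, one_smul]

theorem tv_inv {v φ : Fin 3 → F} (h : φ ⬝ᵥ v = 0) : (tv v φ)⁻¹ = tv v (-φ) := by
  rw [inv_eq_iff_mul_eq_one, tv_mul h (by rw [neg_dotProduct, h, neg_zero]), add_neg_cancel, tv_zero_right]

theorem tv_sq [CharP F 2] {v φ : Fin 3 → F} (h : φ ⬝ᵥ v = 0) : tv v φ * tv v φ = 1 := by
  have h1 : φ + φ = 0 := by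
    funext i
    exact CharTwo.add_self_eq_zero _
  rw [tv_mul h h, h1]
  exact tv_zero_right v

end centre

/-! ### normal subgroups of parabolic subgroups -/

section normal

variable {F : Type*} [Field F]

theorem exists_ker {φ χ : Fin 3 → F} (hφ : φ ≠ 0) (h : ¬ ∃ c : F, χ = c • φ) :
    ∃ w : Fin 3 → F, φ ⬝ᵥ w = 0 ∧ χ ⬝ᵥ w ≠ 0 := by
  by_contra hc
  push Not at hc
  apply h
  obtain ⟨c, hc⟩ := sep hφ (w := χ) (by
    intro ψ hψ
    rw [dotProduct_comm] at hψ ⊢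
    exact hc ψ hψ)
  exact ⟨c, hc⟩

theorem exists_ker' {v w : Fin 3 → F} (hv : v ≠ 0) (h : ¬ ∃ c : F, w = c • v) :
    ∃ ψ : Fin 3 → F, ψ ⬝ᵥ v = 0 ∧ ψ ⬝ᵥ w ≠ 0 := by
  by_contra hc
  push Not at hc
  exact h (sep hv (fun ψ hψ => hc ψ hψ))

/-- A noncentral element of the stabiliser of `⟨v⟩` yields a transvection with centre `v`. -/
theorem exists_ce {Y : Subgroup (S F)} {v : Fin 3 → F} (hv : v ≠ 0) (hcen : Subgroup.center (S F) ≤ Y)
    (hn : ∀ ψ : Fin 3 → F, ψ ⬝ᵥ v = 0 → ∀ y ∈ Y, tv v ψ * y * (tv v ψ)⁻¹ ∈ Y) {y : S F} (hy : y ∈ Y)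
    (hyc : y ∉ Subgroup.center (S F)) {μ : F} (hμ : y • v = μ • v) :
    ∃ χ : Fin 3 → F, χ ⬝ᵥ v = 0 ∧ χ ≠ 0 ∧ tv v χ ∈ Y := by
  have hμ0 : μ ≠ 0 := by
    rintro rfl
    rw [zero_smul] at hμ
    exact smul_ne' hv y hμ
  by_cases hall : ∀ ψ : Fin 3 → F, ψ ⬝ᵥ v = 0 → μ • row ψ y⁻¹ = ψ
  · -- `y` is a scalar times a transvection
    have h1 : ∀ ψ : Fin 3 → F, ψ ⬝ᵥ v = 0 → row ψ y = μ • ψ := by
      intro ψ hψ
      have h2 := congrArg (fun φ => row φ y) (hall ψ hψ)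
      simp only [row_smul, row_inv_row] at h2
      exact h2.symm
    have h2 : ∀ u : Fin 3 → F, ∃ c : F, y • u = μ • u + c • v := by
      intro u
      obtain ⟨c, hc⟩ := sep hv (w := y • u - μ • u) (by
        intro ψ hψ
        rw [dotProduct_sub, ← row_dot, h1 ψ hψ, smul_dotProduct, dotProduct_smul, sub_self])
      exact ⟨c, by rw [← hc]; abel⟩
    -- the determinant gives `μ³ = 1`
    obtain ⟨k, hk⟩ := exists_smul hv
    set z := k⁻¹ * y * k with hz
    have hz1 : z • (e1 : Fin 3 → F) = μ • e1 := by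
      rw [hz, mul_smul, mul_smul, hk, hμ, inv_smul_eq_iff, smul_smul_comm', hk]
    have hz2 : ∀ u : Fin 3 → F, ∃ c : F, z • u = μ • u + c • e1 := by
      intro u
      obtain ⟨c, hc⟩ := h2 (k • u)
      refine ⟨c, ?_⟩
      rw [hz, mul_smul, mul_smul, hc, inv_smul_eq_iff, smul_add, smul_smul_comm', smul_smul_comm', hk]
    have hω : μ * μ * μ = 1 := by
      have hdet := z.2
      rw [det_fin_three] at hdet
      obtain ⟨c1, hc1⟩ := hz2 ![0, 1, 0]
      obtain ⟨c2, hc2⟩ := hz2 ![0, 0, 1]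
      have a0 := congrFun hz1 0
      have a1 := congrFun hz1 1
      have a2 := congrFun hz1 2
      have b0 := congrFun hc1 0
      have b1 := congrFun hc1 1
      have b2 := congrFun hc1 2
      have d0 := congrFun hc2 0
      have d1 := congrFun hc2 1
      have d2 := congrFun hc2 2
      rw [smul_apply] at a0 a1 a2 b0 b1 b2 d0 d1 d2
      simp [smul_ap] at a0 a1 a2 b0 b1 b2 d0 d1 d2
      change z.1 0 0 * z.1 1 1 * z.1 2 2 - z.1 0 0 * z.1 1 2 * z.1 2 1 - z.1 0 1 * z.1 1 0 * z.1 2 2 +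
        z.1 0 1 * z.1 1 2 * z.1 2 0 + z.1 0 2 * z.1 1 0 * z.1 2 1 - z.1 0 2 * z.1 1 1 * z.1 2 0 = 1 at hdet
      simp only [a0, a1, a2, b1, b2, d1, d2] at hdet
      linear_combination hdet
    have hdgc := dg_mem_center hω
    set d := dg μ μ μ hω with hd
    have hdv : ∀ u : Fin 3 → F, d • u = μ • u := by
      intro u
      rw [hd, dg_apply]
      apply ext3 <;> rfl
    have hdinv : ∀ u : Fin 3 → F, d⁻¹ • u = μ⁻¹ • u := by
      intro u
      rw [inv_smul_eq_iff, hdv, smul_smul, mul_inv_cancel₀ hμ0, one_smul]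
    have hy' : d⁻¹ * y ∈ Y := Y.mul_mem (Y.inv_mem (hcen hdgc)) hy
    -- `d⁻¹ y` is a transvection
    have h3 : ∀ u : Fin 3 → F, ∃ c : F, (d⁻¹ * y) • u = u + c • v := by
      intro u
      obtain ⟨c, hc⟩ := h2 u
      refine ⟨μ⁻¹ * c, ?_⟩
      rw [mul_smul, hc, hdinv, smul_add, smul_smul, smul_smul, inv_mul_cancel₀ hμ0, one_smul]
    have h4 : (d⁻¹ * y) • v = v := by
      rw [mul_smul, hμ, hdinv, smul_smul, inv_mul_cancel₀ hμ0, one_smul]
    obtain ⟨ψ, hψ, hψe⟩ := eq_tv (g := k⁻¹ * (d⁻¹ * y) * k) (by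
      intro w
      obtain ⟨c, hc⟩ := h3 (k • w)
      refine ⟨c, ?_⟩
      rw [mul_smul, mul_smul, hc, inv_smul_eq_iff, smul_add, smul_smul_comm', ← hk]
      rfl) (by
      change (k⁻¹ * (d⁻¹ * y) * k) • (e1 : Fin 3 → F) = e1
      rw [mul_smul, mul_smul, hk, h4, inv_smul_eq_iff, hk])
    have h5 : d⁻¹ * y = tv v (row ψ k⁻¹) := by
      have h6 := conj_tv (v := (e1 : Fin 3 → F)) (φ := ψ) hψ k
      rw [hk] at h6
      rw [← h6]
      change _ = k * tv ![1, 0, 0] ψ * k⁻¹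
      rw [← hψe]
      group
    refine ⟨row ψ k⁻¹, ?_, ?_, ?_⟩
    · rw [← hk, dot_inv]
      exact hψ
    · intro h0
      rw [h0, tv_zero_right] at h5
      apply hyc
      have : y = d := by
        rw [inv_mul_eq_one] at h5
        exact h5.symm
      rw [this]
      exact hdgc
    · rw [← h5]
      exact hy'
  · push Not at hall
    obtain ⟨ψ, hψ, hne⟩ := hall
    have h1 : row ψ y⁻¹ ⬝ᵥ v = 0 := by
      rw [row_dot]
      have : y⁻¹ • v = μ⁻¹ • v := by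
        rw [inv_smul_eq_iff, smul_smul_comm', hμ, smul_smul, inv_mul_cancel₀ hμ0, one_smul]
      rw [this, dotProduct_smul, hψ, smul_zero]
    have h2 : (μ • row ψ y⁻¹) ⬝ᵥ v = 0 := by rw [smul_dotProduct, h1, smul_zero]
    have h3 : (-ψ) ⬝ᵥ v = 0 := by rw [neg_dotProduct, hψ, neg_zero]
    refine ⟨μ • row ψ y⁻¹ + -ψ, by rw [add_dotProduct, h2, h3, add_zero], ?_, ?_⟩
    · intro h0
      apply hne
      rw [← sub_eq_add_neg, sub_eq_zero] at h0
      exact h0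
    · have h4 : tv v (μ • row ψ y⁻¹ + -ψ) = y * (tv v ψ * y⁻¹ * (tv v ψ)⁻¹) := by
        rw [← tv_mul h2 h3, tv_inv hψ, ← tv_smul_left h1, ← hμ, ← conj_tv hψ y]
        group
      rw [h4]
      exact Y.mul_mem hy (hn ψ hψ _ (Y.inv_mem hy))

/-- a normal subgroup of a group of type `Pt` contains the transvections with centre `v` -/
theorem Pt.normal_ce {X Y : Subgroup (S F)} {v : Fin 3 → F} (hX : Pt X v) (hYX : Y ≤ X)
    (hcen : Subgroup.center (S F) ≤ Y) (hn : ∀ g ∈ X, ∀ y ∈ Y, g * y * g⁻¹ ∈ Y)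
    (hne : ∃ y ∈ Y, y ∉ Subgroup.center (S F)) : Ce Y v := by
  obtain ⟨y, hy, hyc⟩ := hne
  obtain ⟨μ, hμ⟩ := hX.2.1 y (hYX hy)
  obtain ⟨χ, hχ, hχ0, hχY⟩ := exists_ce hX.1 hcen (fun ψ hψ y hy => hn _ (hX.ce ψ hψ) y hy) hy hyc hμ
  intro ψ hψ
  by_cases hψ0 : ψ = 0
  · rw [hψ0, tv_zero_right]
    exact Y.one_mem
  obtain ⟨k, hk1, hk2⟩ := exists_flag hX.1 hχ0 hχ
  obtain ⟨l, hl1, hl2⟩ := exists_flag hX.1 hψ0 hψ
  have h1 : (l * k⁻¹) • v = v := by
    rw [mul_smul]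
    nth_rewrite 1 [← hk1]
    rw [inv_smul_smul, hl1]
  have h2 := hn _ (hX.2.2 _ h1) _ hχY
  rw [conj_tv hχ, h1, _root_.mul_inv_rev, inv_inv, row_mul, ← hk2, row_inv_row, hl2] at h2
  exact h2

/-- a normal subgroup of a group of type `Fl` contains a transvection with centre `v` and axis `φ` -/
theorem Fl.normal_tv {X Y : Subgroup (S F)} {v φ : Fin 3 → F} (hX : Fl X v φ) (hYX : Y ≤ X)
    (hcen : Subgroup.center (S F) ≤ Y) (hn : ∀ g ∈ X, ∀ y ∈ Y, g * y * g⁻¹ ∈ Y)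
    (hne : ∃ y ∈ Y, y ∉ Subgroup.center (S F)) : ∃ c : F, c ≠ 0 ∧ tv v (c • φ) ∈ Y := by
  obtain ⟨hv, hφ, hd, h4, h5, hC, hA⟩ := hX
  obtain ⟨y, hy, hyc⟩ := hne
  obtain ⟨μ, hμ⟩ := h4 y (hYX hy)
  obtain ⟨χ, hχ, hχ0, hχY⟩ := exists_ce hv hcen (fun ψ hψ y hy => hn _ (hC ψ hψ) y hy) hy hyc hμ
  by_cases hpar : ∃ c : F, χ = c • φ
  · obtain ⟨c, rfl⟩ := hpar
    refine ⟨c, ?_, hχY⟩
    rintro rfl
    exact hχ0 (zero_smul _ _)
  · obtain ⟨w, hw, hχw⟩ := exists_ker hφ hpar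
    refine ⟨χ ⬝ᵥ w, hχw, ?_⟩
    have h1 := hn _ (hA w hw) _ (Y.inv_mem hχY)
    have h2 := Y.mul_mem hχY h1
    have h3 : tv v χ * (tv w φ * (tv v χ)⁻¹ * (tv w φ)⁻¹) = tv v ((χ ⬝ᵥ w) • φ) := by
      have hχ' : (-χ) ⬝ᵥ v = 0 := by rw [neg_dotProduct, hχ, neg_zero]
      have hφ' : (-φ) ⬝ᵥ w = 0 := by rw [neg_dotProduct, hw, neg_zero]
      have hlast : ((χ ⬝ᵥ w) • φ) ⬝ᵥ v = 0 := by rw [smul_dotProduct, hd, smul_zero]
      rw [tv_inv hχ, tv_inv hw]
      apply ext_smul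
      intro u
      rw [mul_smul, mul_smul, mul_smul, tv_smul hφ', tv_smul hχ', tv_smul hw, tv_smul hχ, tv_smul hlast]
      funext i
      simp only [Pi.add_apply, smul_ap, dotProduct_add, dotProduct_smul, smul_dotProduct, neg_dotProduct, hd, hw, hχ,
        smul_eq_mul]
      ring
    rwa [h3] at h2

end normal

end Cfsg.Agent.H438.SLThree
end

-- part: H438/SLThreeG
section
/-!
# `SL₃(F)`: semilinear maps and automorphisms (helper438, S3727)

`Tr ρ ρ' y C σ` : conjugation by `y` maps `ρ g` to `ρ' (C g^σ C⁻¹)`.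
-/

set_option autoImplicit false
set_option linter.unusedSectionVars false
set_option linter.unusedSimpArgs false

namespace Cfsg.Agent.H438.SLThree

open Matrix MulAction
open Cfsg.Agent.ClassicalGeometry.AutPSL.Root
open Cfsg.Agent.ClassicalGeometry.AutPSL.Auto
open Cfsg.Agent.ClassicalGeometry.AutPSL.Main

section semi

variable {F : Type*} [Field F]

/-- semilinear map on column vectors -/
def cv (C : GL (Fin 3) F) (σ : F ≃+* F) (v : Fin 3 → F) : Fin 3 → F := C.1 *ᵥ (fun i => σ (v i))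

/-- semilinear map on row vectors -/
def cr (C : GL (Fin 3) F) (σ : F ≃+* F) (φ : Fin 3 → F) : Fin 3 → F := (fun i => σ (φ i)) ᵥ* (C⁻¹ : GL (Fin 3) F).1

/-- the automorphism -/
def th (C : GL (Fin 3) F) (σ : F ≃+* F) : MulAut (S F) := cj C * fld σ

variable (C : GL (Fin 3) F) (σ : F ≃+* F)

theorem cv_add (v w : Fin 3 → F) : cv C σ (v + w) = cv C σ v + cv C σ w := by
  unfold cv
  rw [← mulVec_add]
  congr 1
  funext i
  exact map_add σ _ _

theorem cr_add (v w : Fin 3 → F) : cr C σ (v + w) = cr C σ v + cr C σ w := by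
  unfold cr
  rw [← add_vecMul]
  congr 1
  funext i
  exact map_add σ _ _

theorem cv_smul (c : F) (v : Fin 3 → F) : cv C σ (c • v) = σ c • cv C σ v := by
  unfold cv
  rw [← mulVec_smul]
  congr 1
  funext i
  exact map_mul σ _ _

theorem cr_smul (c : F) (v : Fin 3 → F) : cr C σ (c • v) = σ c • cr C σ v := by
  unfold cr
  rw [← smul_vecMul]
  congr 1
  funext i
  exact map_mul σ _ _

theorem cr_dot_cv (φ v : Fin 3 → F) : cr C σ φ ⬝ᵥ cv C σ v = σ (φ ⬝ᵥ v) := by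
  unfold cr cv
  rw [vecMul_inv_dotProduct, dot_apply, dot_apply]
  simp only [map_add, map_mul]

theorem cv_surj (w : Fin 3 → F) : ∃ v, cv C σ v = w := by
  refine ⟨fun i => σ.symm (((C⁻¹ : GL (Fin 3) F).1 *ᵥ w) i), ?_⟩
  unfold cv
  have : (fun i => σ (σ.symm (((C⁻¹ : GL (Fin 3) F).1 *ᵥ w) i))) = (C⁻¹ : GL (Fin 3) F).1 *ᵥ w := by
    funext i
    exact σ.apply_symm_apply _
  rw [this, mulVec_mulVec, ← Units.val_mul, mul_inv_cancel, Units.val_one, one_mulVec]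

theorem cr_surj (w : Fin 3 → F) : ∃ v, cr C σ v = w := by
  refine ⟨fun i => σ.symm ((w ᵥ* C.1) i), ?_⟩
  unfold cr
  have : (fun i => σ (σ.symm ((w ᵥ* C.1) i))) = w ᵥ* C.1 := by
    funext i
    exact σ.apply_symm_apply _
  rw [this, vecMul_vecMul, ← Units.val_mul, mul_inv_cancel, Units.val_one, vecMul_one]

theorem cv_inj {v w : Fin 3 → F} (h : cv C σ v = cv C σ w) : v = w := by
  unfold cv at h
  have h1 := congrArg (fun u => (C⁻¹ : GL (Fin 3) F).1 *ᵥ u) h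
  simp only [mulVec_mulVec, ← Units.val_mul, inv_mul_cancel, Units.val_one, one_mulVec] at h1
  funext i
  exact σ.injective (congrFun h1 i)

theorem cr_inj {v w : Fin 3 → F} (h : cr C σ v = cr C σ w) : v = w := by
  unfold cr at h
  have h1 := congrArg (fun u => u ᵥ* C.1) h
  simp only [vecMul_vecMul, ← Units.val_mul, inv_mul_cancel, Units.val_one, vecMul_one] at h1
  funext i
  exact σ.injective (congrFun h1 i)

theorem cv_zero : cv C σ 0 = 0 := by
  have := cv_smul C σ 0 0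
  rwa [zero_smul, map_zero, zero_smul] at this

theorem cr_zero : cr C σ 0 = 0 := by
  have := cr_smul C σ 0 0
  rwa [zero_smul, map_zero, zero_smul] at this

theorem cv_ne {v : Fin 3 → F} (h : v ≠ 0) : cv C σ v ≠ 0 := fun h0 => h (cv_inj C σ (by rw [h0, cv_zero]))

theorem cr_ne {v : Fin 3 → F} (h : v ≠ 0) : cr C σ v ≠ 0 := fun h0 => h (cr_inj C σ (by rw [h0, cr_zero]))

theorem th_coe (g : S F) : (th C σ g).1 = C.1 * (g.1.map σ) * (C⁻¹ : GL (Fin 3) F).1 := rfl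

theorem th_smul (g : S F) (v : Fin 3 → F) : th C σ g • cv C σ v = cv C σ (g • v) := by
  rw [smul_eq, smul_eq, th_coe]
  unfold cv
  rw [mulVec_mulVec, mul_assoc, ← Units.val_mul, inv_mul_cancel, Units.val_one, mul_one, ← mulVec_mulVec]
  congr 1
  funext i
  simp [mulVec, dotProduct, map_sum]

theorem row_th (g : S F) (φ : Fin 3 → F) : row (cr C σ φ) (th C σ g) = cr C σ (row φ g) := by
  unfold row cr
  rw [th_coe, vecMul_vecMul, mul_assoc, ← mul_assoc, ← Units.val_mul, inv_mul_cancel, Units.val_one, one_mul,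
    ← vecMul_vecMul]
  congr 1
  funext i
  simp [vecMul, dotProduct, map_sum]

theorem th_tv {v φ : Fin 3 → F} (h : φ ⬝ᵥ v = 0) : th C σ (tv v φ) = tv (cv C σ v) (cr C σ φ) := by
  apply ext_smul
  intro u
  obtain ⟨u, rfl⟩ := cv_surj C σ u
  have h' : cr C σ φ ⬝ᵥ cv C σ v = 0 := by rw [cr_dot_cv, h, map_zero]
  rw [th_smul, tv_smul h, tv_smul h', cr_dot_cv, cv_add, cv_smul]

theorem th_surj (g : S F) : ∃ g', th C σ g' = g := (th C σ).surjective g

end semi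

section tr

variable {F : Type*} [Field F] {G Ω : Type*} [Group G] [MulAction G Ω]

/-- conjugation by `y` carries `ρ` to `ρ'` up to the automorphism given by `C, σ` -/
def Tr (ρ ρ' : S F →* G) (y : G) (C : GL (Fin 3) F) (σ : F ≃+* F) : Prop :=
  ∀ g, y * ρ g * y⁻¹ = ρ' (th C σ g)

variable {ρ ρ' : S F →* G} {y : G} {C : GL (Fin 3) F} {σ : F ≃+* F}

theorem Tr.mem (h : Tr ρ ρ' y C σ) (b : Ω) (g : S F) : th C σ g ∈ Xs ρ' (y • b) ↔ g ∈ Xs ρ b := by
  rw [mem_Xs, mem_Xs, ← h g, mul_smul, mul_smul, inv_smul_smul]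
  exact smul_left_cancel_iff y

theorem Tr.pt (h : Tr ρ ρ' y C σ) {b : Ω} {v : Fin 3 → F} (hv : Pt (Xs ρ b) v) :
    Pt (Xs ρ' (y • b)) (cv C σ v) := by
  refine ⟨cv_ne C σ hv.1, ?_, ?_⟩
  · intro g hg
    obtain ⟨g, rfl⟩ := th_surj C σ g
    obtain ⟨μ, hμ⟩ := hv.2.1 g ((h.mem b g).1 hg)
    exact ⟨σ μ, by rw [th_smul, hμ, cv_smul]⟩
  · intro g hg
    obtain ⟨g, rfl⟩ := th_surj C σ g
    rw [th_smul] at hg
    exact (h.mem b g).2 (hv.2.2 g (cv_inj C σ hg))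

theorem Tr.ln (h : Tr ρ ρ' y C σ) {b : Ω} {φ : Fin 3 → F} (hv : Ln (Xs ρ b) φ) :
    Ln (Xs ρ' (y • b)) (cr C σ φ) := by
  refine ⟨cr_ne C σ hv.1, ?_, ?_⟩
  · intro g hg
    obtain ⟨g, rfl⟩ := th_surj C σ g
    obtain ⟨μ, hμ⟩ := hv.2.1 g ((h.mem b g).1 hg)
    exact ⟨σ μ, by rw [row_th, hμ, cr_smul]⟩
  · intro g hg
    obtain ⟨g, rfl⟩ := th_surj C σ g
    rw [row_th] at hg
    exact (h.mem b g).2 (hv.2.2 g (cr_inj C σ hg))

theorem Tr.fl (h : Tr ρ ρ' y C σ) {b : Ω} {v φ : Fin 3 → F} (hv : Fl (Xs ρ b) v φ) :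
    Fl (Xs ρ' (y • b)) (cv C σ v) (cr C σ φ) := by
  obtain ⟨h1, h2, h3, h4, h5, h6, h7⟩ := hv
  refine ⟨cv_ne C σ h1, cr_ne C σ h2, by rw [cr_dot_cv, h3, map_zero], ?_, ?_, ?_, ?_⟩
  · intro g hg
    obtain ⟨g, rfl⟩ := th_surj C σ g
    obtain ⟨μ, hμ⟩ := h4 g ((h.mem b g).1 hg)
    exact ⟨σ μ, by rw [th_smul, hμ, cv_smul]⟩
  · intro g hg
    obtain ⟨g, rfl⟩ := th_surj C σ g
    obtain ⟨μ, hμ⟩ := h5 g ((h.mem b g).1 hg)
    exact ⟨σ μ, by rw [row_th, hμ, cr_smul]⟩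
  · intro ψ hψ
    obtain ⟨ψ, rfl⟩ := cr_surj C σ ψ
    rw [cr_dot_cv] at hψ
    have hψ' : ψ ⬝ᵥ v = 0 := by simpa using hψ
    rw [← th_tv C σ hψ']
    exact (h.mem b _).2 (h6 ψ hψ')
  · intro w hw
    obtain ⟨w, rfl⟩ := cv_surj C σ w
    rw [cr_dot_cv] at hw
    have hw' : φ ⬝ᵥ w = 0 := by simpa using hw
    rw [← th_tv C σ hw']
    exact (h.mem b _).2 (h7 w hw')

/-- the kernel is the centre -/
def IsRep (ρ : S F →* G) : Prop := ∀ g, ρ g = 1 ↔ g ∈ Subgroup.center (S F)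

theorem dual_surjective : Function.Surjective (dual (F := F)) := fun g => ⟨dual g, dual_dual g⟩

theorem dual_mem_center {g : S F} : dual g ∈ Subgroup.center (S F) ↔ g ∈ Subgroup.center (S F) := by
  have key : ∀ g : S F, g ∈ Subgroup.center (S F) → dual g ∈ Subgroup.center (S F) := by
    intro g hg
    rw [Subgroup.mem_center_iff] at hg ⊢
    intro h
    obtain ⟨h, rfl⟩ := dual_surjective h
    rw [← map_mul, ← map_mul, hg]
  exact ⟨fun h => by simpa [dual_dual] using key _ h, key g⟩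

theorem IsRep.toDual (h : IsRep ρ) : IsRep (ρ.comp dual) := by
  intro g
  rw [MonoidHom.comp_apply, h, dual_mem_center]

theorem comp_dual_dual (ρ : S F →* G) : (ρ.comp dual).comp dual = ρ := by
  apply MonoidHom.ext
  intro g
  rw [MonoidHom.comp_apply, MonoidHom.comp_apply, dual_dual]

theorem range_comp_dual (ρ : S F →* G) : (ρ.comp (dual (F := F))).range = ρ.range := by
  ext x
  constructor
  · rintro ⟨g, rfl⟩
    exact ⟨dual g, rfl⟩
  · rintro ⟨g, rfl⟩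
    exact ⟨dual g, by rw [MonoidHom.comp_apply, dual_dual]⟩

theorem IsRep.tv_eq (h : IsRep ρ) {v φ w ψ : Fin 3 → F} (h1 : φ ⬝ᵥ v = 0) (h2 : ψ ⬝ᵥ w = 0)
    (he : ρ (tv v φ) = ρ (tv w ψ)) : tv v φ = tv w ψ := by
  apply tv_eq_of_center h1 h2
  rw [← h, map_mul, map_inv, he, inv_mul_cancel]

theorem IsRep.tv_ne (h : IsRep ρ) {v φ : Fin 3 → F} (h1 : φ ⬝ᵥ v = 0) (hv : v ≠ 0) (hφ : φ ≠ 0) : ρ (tv v φ) ≠ 1 := by
  intro h0
  rcases tv_mem_center h1 ((h _).1 h0) with h2 | h2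
  · exact hv h2
  · exact hφ h2

/-- Every automorphism is semilinear, possibly after dualising. -/
theorem exists_tr [Finite F] (p : ℕ) [Fact p.Prime] [CharP F p] (h : IsRep ρ) (h' : IsRep ρ')
    (h1 : ∀ g, ∃ g', y * ρ g * y⁻¹ = ρ' g') (h2 : ∀ g', ∃ g, y * ρ g * y⁻¹ = ρ' g') :
    (∃ C σ, Tr ρ ρ' y C σ) ∨ ∃ C σ, Tr (ρ.comp dual) ρ' y C σ := by
  classical
  -- the automorphism of `PSL₃(F)`
  have hinj : ∀ a b : S F, ρ' a = ρ' b → pr a = pr b := by
    intro a b hab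
    have : a⁻¹ * b ∈ Subgroup.center (S F) := by
      rw [← h', map_mul, map_inv, hab, inv_mul_cancel]
    exact QuotientGroup.eq.2 this
  have hinj' : ∀ a b : S F, pr a = pr b → ρ a = ρ b := by
    intro a b hab
    have : a⁻¹ * b ∈ Subgroup.center (S F) := QuotientGroup.eq.1 hab
    rw [← h, map_mul, map_inv, inv_mul_eq_one] at this
    exact this
  have hinj'' : ∀ a b : S F, pr a = pr b → ρ' a = ρ' b := by
    intro a b hab
    have : a⁻¹ * b ∈ Subgroup.center (S F) := QuotientGroup.eq.1 hab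
    rw [← h', map_mul, map_inv, inv_mul_eq_one] at this
    exact this
  choose f hf using h1
  have hex : ∀ x : Matrix.ProjectiveSpecialLinearGroup (Fin 3) F, ∃ g : S F, pr g = x := pr_surjective
  choose s hs using hex
  let A : Matrix.ProjectiveSpecialLinearGroup (Fin 3) F →* Matrix.ProjectiveSpecialLinearGroup (Fin 3) F :=
    MonoidHom.mk' (fun x => pr (f (s x))) (by
      intro x z
      rw [← map_mul]
      apply hinj
      rw [map_mul, ← hf, ← hf, ← hf]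
      have : ρ (s (x * z)) = ρ (s x * s z) := by
        apply hinj'
        rw [hs, map_mul, hs, hs]
      rw [this, map_mul]
      group)
  have hA : ∀ g, A (pr g) = pr (f g) := by
    intro g
    change pr (f (s (pr g))) = _
    apply hinj
    rw [← hf, ← hf]
    congr 2
    apply hinj'
    rw [hs]
  have hAi : Function.Injective A := by
    intro x z hxz
    change pr (f (s x)) = pr (f (s z)) at hxz
    have h3 := hinj'' _ _ hxz
    rw [← hf, ← hf] at h3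
    have h4 : ρ (s x) = ρ (s z) := by
      have := mul_right_cancel h3
      exact mul_left_cancel this
    rw [← hs x, ← hs z]
    have : (s x)⁻¹ * s z ∈ Subgroup.center (S F) := by
      rw [← h, map_mul, map_inv, h4, inv_mul_cancel]
    exact QuotientGroup.eq.2 this
  have hAs : Function.Surjective A := by
    intro x
    obtain ⟨g', rfl⟩ := pr_surjective x
    obtain ⟨g, hg⟩ := h2 g'
    refine ⟨pr g, ?_⟩
    rw [hA]
    apply hinj
    rw [← hf, hg]
  let α : MulAut (Matrix.ProjectiveSpecialLinearGroup (Fin 3) F) := MulEquiv.ofBijective A ⟨hAi, hAs⟩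
  have hα : ∀ g, α (pr g) = pr (f g) := hA
  have := Fintype.ofFinite F
  rcases surj_three p le_rfl α with ⟨C, σ, hC⟩ | ⟨C, σ, hC⟩
  · left
    refine ⟨C, σ, ?_⟩
    intro g
    rw [hf]
    apply hinj''
    rw [← hα, hC, lift_pr]
    rfl
  · right
    refine ⟨C, σ, ?_⟩
    intro g
    rw [MonoidHom.comp_apply, hf]
    apply hinj''
    rw [← hα, hC, lift_pr]
    rw [MulAut.mul_apply]
    congr 1
    change th C σ (itr (dual g)) = th C σ g
    congr 1
    exact dual_dual g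

end tr

end Cfsg.Agent.H438.SLThree
end

-- part: H438/SLThreeH
section
/-!
# `SL₃(F)` in characteristic 2: involutions, automorphisms centralising a Sylow 2-subgroup (helper438, S3727)
-/

set_option autoImplicit false
set_option linter.unusedSectionVars false
set_option linter.unusedSimpArgs false

namespace Cfsg.Agent.H438.SLThree

open Matrix MulAction

section

variable {F : Type*} [Field F] {G Ω : Type*} [Group G] [MulAction G Ω]

/-- a second vector and a second row for a flag -/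
theorem exists_second {v φ : Fin 3 → F} (hv : v ≠ 0) (hφ : φ ≠ 0) (hd : φ ⬝ᵥ v = 0) :
    ∃ w ψ : Fin 3 → F, φ ⬝ᵥ w = 0 ∧ ψ ⬝ᵥ v = 0 ∧ ψ ⬝ᵥ w = 1 := by
  obtain ⟨k, hk1, hk2⟩ := exists_flag hv hφ hd
  refine ⟨k • ![0, 1, 0], row r2 k⁻¹, ?_, ?_, ?_⟩
  · rw [← hk2, dot_inv, e3_dot]
    rfl
  · rw [← hk1, dot_inv, dot_e1]
    rfl
  · rw [dot_inv, dot_apply]
    simp [r2]

theorem th_of_smul {C : GL (Fin 3) F} {σ : F ≃+* F} {k : F} {t : S F}
    (h : ∀ u : Fin 3 → F, cv C σ u = k • (t • u)) (g : S F) : th C σ g = t * g * t⁻¹ := by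
  apply ext_smul
  intro u
  have hk : k ≠ 0 := by
    rintro rfl
    exact cv_ne C σ e1_ne (by rw [h, zero_smul])
  have h1 := th_smul C σ g (t⁻¹ • u)
  rw [h, h, smul_inv_smul, smul_smul_comm'] at h1
  have h2 := congrArg (fun x => k⁻¹ • x) h1
  simp only [smul_smul, inv_mul_cancel₀ hk, one_smul] at h2
  rw [h2]
  simp only [mul_smul]

/-- **An automorphism centralising a Sylow 2-subgroup is induced by an element of its centre.** -/
theorem exists_root_of_comm [Finite F] (p : ℕ) [Fact p.Prime] [CharP F p] {ρ : S F →* G} {y : G} (hρ : IsRep ρ)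
    (hy1 : ∀ g, ∃ g', y * ρ g * y⁻¹ = ρ g') (hy2 : ∀ g', ∃ g, y * ρ g * y⁻¹ = ρ g') {v φ : Fin 3 → F}
    (hv : v ≠ 0) (hφ : φ ≠ 0) (hd : φ ⬝ᵥ v = 0)
    (hC : ∀ ψ : Fin 3 → F, ψ ⬝ᵥ v = 0 → y * ρ (tv v ψ) * y⁻¹ = ρ (tv v ψ))
    (hA : ∀ w : Fin 3 → F, φ ⬝ᵥ w = 0 → y * ρ (tv w φ) * y⁻¹ = ρ (tv w φ)) :
    ∃ c : F, ∀ g, y * ρ g * y⁻¹ = ρ (tv v (c • φ)) * ρ g * (ρ (tv v (c • φ)))⁻¹ := by
  obtain ⟨w0, ψ0, hw0, hψ0, hψw⟩ := exists_second hv hφ hd
  rcases exists_tr p hρ hρ hy1 hy2 with ⟨C, σ, hT⟩ | ⟨C, σ, hT⟩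
  · -- `cv v = c v`
    have key : ∀ ψ : Fin 3 → F, ψ ⬝ᵥ v = 0 → ψ ≠ 0 → ∃ c : F, c ≠ 0 ∧ cv C σ v = c • v ∧ cr C σ ψ = c⁻¹ • ψ := by
      intro ψ hψ hψ0
      have h1 := hC ψ hψ
      rw [hT, th_tv C σ hψ] at h1
      have h2 := hρ.tv_eq (by rw [cr_dot_cv, hψ, map_zero]) hψ h1
      exact tv_inj hψ (by rw [cr_dot_cv, hψ, map_zero]) hv hψ0 h2.symm
    obtain ⟨c, hc0, hcv, hcφ⟩ := key φ hd hφ
    have key2 : ∀ ψ : Fin 3 → F, ψ ⬝ᵥ v = 0 → cr C σ ψ = c⁻¹ • ψ := by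
      intro ψ hψ
      by_cases h0 : ψ = 0
      · rw [h0, cr_zero, smul_zero]
      obtain ⟨c', -, h1, h2⟩ := key ψ hψ h0
      have : c' = c := smul_left_injective F hv (show c' • v = c • v by rw [← h1, hcv])
      rw [h2, this]
    have hσ : ∀ x : F, σ x = x := by
      intro x
      have h1 := key2 (x • φ) (by rw [smul_dotProduct, hd, smul_zero])
      rw [cr_smul, hcφ, smul_smul, smul_smul, mul_comm] at h1
      exact mul_left_cancel₀ (inv_ne_zero hc0) (smul_left_injective F hφ h1)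
    have key3 : ∀ w : Fin 3 → F, φ ⬝ᵥ w = 0 → cv C σ w = c • w := by
      intro w hw
      by_cases h0 : w = 0
      · rw [h0, cv_zero, smul_zero]
      have h1 := hA w hw
      rw [hT, th_tv C σ hw] at h1
      have h2 := hρ.tv_eq (by rw [cr_dot_cv, hw, map_zero]) hw h1
      obtain ⟨d, hd0, h3, h4⟩ := tv_inj hw (by rw [cr_dot_cv, hw, map_zero]) h0 hφ h2.symm
      rw [hcφ] at h4
      have : c⁻¹ = d⁻¹ := smul_left_injective F hφ h4
      rw [h3, inv_injective this]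
    obtain ⟨u0, hu0⟩ := exists_dot hφ
    have key4 : ∀ u : Fin 3 → F, ∃ k : F, cv C σ u - c • u = k • v := by
      intro u
      apply sep hv
      intro ψ hψ
      have h1 := cr_dot_cv C σ ψ u
      rw [key2 ψ hψ, hσ, smul_dotProduct, smul_eq_mul] at h1
      rw [dotProduct_sub, dotProduct_smul, smul_eq_mul, ← h1, mul_inv_cancel_left₀ hc0, sub_self]
    obtain ⟨k0, hk0⟩ := key4 u0
    refine ⟨c⁻¹ * k0, ?_⟩
    have ht : ((c⁻¹ * k0) • φ) ⬝ᵥ v = 0 := by rw [smul_dotProduct, hd, smul_zero]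
    have h5 : ∀ u : Fin 3 → F, cv C σ u = c • (tv v ((c⁻¹ * k0) • φ) • u) := by
      intro u
      have h6 : u = (u - (φ ⬝ᵥ u) • u0) + (φ ⬝ᵥ u) • u0 := by abel
      have h7 : cv C σ (u - (φ ⬝ᵥ u) • u0) = c • (u - (φ ⬝ᵥ u) • u0) := by
        apply key3
        rw [dotProduct_sub, dotProduct_smul, hu0, smul_eq_mul, mul_one, sub_self]
      have h8 : cv C σ u0 = c • u0 + k0 • v := by rw [← hk0]; abel
      rw [tv_smul ht]
      nth_rewrite 1 [h6]
      rw [cv_add, h7, cv_smul, h8, hσ, smul_dotProduct]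
      funext i
      simp only [Pi.add_apply, Pi.sub_apply, smul_ap, smul_eq_mul]
      field_simp
      ring
    intro g
    rw [hT, th_of_smul h5, map_mul, map_mul, map_inv]
  · exfalso
    have key : ∀ ψ : Fin 3 → F, ψ ⬝ᵥ v = 0 → ψ ≠ 0 → ∃ c : F, c ≠ 0 ∧ cv C σ ψ = c • v := by
      intro ψ hψ hψ0
      have hψ' : (-v) ⬝ᵥ ψ = 0 := by rw [neg_dotProduct, dotProduct_comm, hψ, neg_zero]
      have h0 : tv v ψ = dual (tv ψ (-v)) := by
        rw [dual_tv hψ', tv_neg_neg hψ]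
      have h1 := hC ψ hψ
      have h2 := hT (tv ψ (-v))
      rw [MonoidHom.comp_apply, ← h0, h1, th_tv C σ hψ'] at h2
      have h3 := hρ.tv_eq hψ (by rw [cr_dot_cv, hψ', map_zero]) h2
      obtain ⟨c, hc0, hc1, -⟩ := tv_inj hψ (by rw [cr_dot_cv, hψ', map_zero]) hv hψ0 h3
      exact ⟨c, hc0, hc1⟩
    obtain ⟨c, hc0, hc⟩ := key φ hd hφ
    have hψ0' : ψ0 ≠ 0 := by
      rintro rfl
      rw [zero_dotProduct] at hψw
      exact zero_ne_one hψw
    obtain ⟨d, hd0, hd'⟩ := key ψ0 hψ0 hψ0'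
    have h1 : cv C σ ψ0 = cv C σ (σ.symm (d * c⁻¹) • φ) := by
      rw [cv_smul, hc, hd', σ.apply_symm_apply, smul_smul, mul_assoc, inv_mul_cancel₀ hc0, mul_one]
    have h2 := cv_inj C σ h1
    rw [h2, smul_dotProduct, hw0, smul_zero] at hψw
    exact zero_ne_one hψw

/-- involutions of `SL₃(F)` are transvections -/
theorem exists_tv_of_sq [CharP F 2] {g : S F} (h : g * g = 1) : ∃ w ψ : Fin 3 → F, ψ ⬝ᵥ w = 0 ∧ g = tv w ψ := by
  by_cases h1 : g = 1
  · exact ⟨0, 0, by simp, by rw [h1, tv_zero_right]⟩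
  set N : Matrix (Fin 3) (Fin 3) F := g.1 - 1 with hN
  have hNN : N * N = 0 := by
    have h2 : g.1 * g.1 = 1 := congrArg Subtype.val h
    have h3 : (g.1 : Matrix (Fin 3) (Fin 3) F) + g.1 = 0 := by
      ext i j
      exact CharTwo.add_self_eq_zero _
    have h4 : (1 : Matrix (Fin 3) (Fin 3) F) + 1 = 0 := by
      ext i j
      exact CharTwo.add_self_eq_zero _
    rw [hN, sub_mul, mul_sub, h2, mul_one, one_mul]
    calc (1 - g.1) - (g.1 - 1) = (1 + 1) - (g.1 + g.1) := by abel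
      _ = 0 := by rw [h3, h4, sub_zero]
  have hle : LinearMap.range N.mulVecLin ≤ LinearMap.ker N.mulVecLin := by
    rintro _ ⟨u, rfl⟩
    rw [LinearMap.mem_ker, mulVecLin_apply, mulVecLin_apply, mulVec_mulVec, hNN, zero_mulVec]
  have hrk := LinearMap.finrank_range_add_finrank_ker N.mulVecLin
  have hle2 := Submodule.finrank_mono hle
  have h3 : Module.finrank F (Fin 3 → F) = 3 := by simp
  rw [h3] at hrk
  have h4 : Module.finrank F (LinearMap.range N.mulVecLin) ≤ 1 := by omega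
  obtain ⟨⟨w, hw⟩, hwall⟩ := finrank_le_one_iff.1 h4
  have h5 : ∀ u : Fin 3 → F, ∃ c : F, g • u = u + c • w := by
    intro u
    obtain ⟨c, hc⟩ := hwall ⟨N.mulVecLin u, LinearMap.mem_range_self _ u⟩
    refine ⟨c, ?_⟩
    have h6 : c • w = N *ᵥ u := congrArg Subtype.val hc
    rw [h6, hN, sub_mulVec, one_mulVec, smul_eq]
    abel
  have hw0 : w ≠ 0 := by
    rintro rfl
    apply h1
    apply ext_smul
    intro u
    obtain ⟨c, hc⟩ := h5 u
    rw [hc, smul_zero, add_zero, one_smul]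
  have hwfix : g • w = w := by
    have := hle hw
    rw [LinearMap.mem_ker, mulVecLin_apply, hN, sub_mulVec, one_mulVec, sub_eq_zero] at this
    exact this
  obtain ⟨k, hk⟩ := exists_smul hw0
  obtain ⟨ψ, hψ, hψe⟩ := eq_tv (g := k⁻¹ * g * k) (by
    intro u
    obtain ⟨c, hc⟩ := h5 (k • u)
    refine ⟨c, ?_⟩
    rw [mul_smul, mul_smul, hc, inv_smul_eq_iff, smul_add, smul_smul_comm', ← hk]
    rfl) (by
    change (k⁻¹ * g * k) • (e1 : Fin 3 → F) = e1
    rw [mul_smul, mul_smul, hk, hwfix, inv_smul_eq_iff, hk])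
  refine ⟨w, row ψ k⁻¹, ?_, ?_⟩
  · rw [← hk, dot_inv]
    exact hψ
  · have h6 := conj_tv (v := (e1 : Fin 3 → F)) (φ := ψ) hψ k
    rw [hk] at h6
    rw [← h6]
    change _ = k * tv ![1, 0, 0] ψ * k⁻¹
    rw [← hψe]
    group

/-- involutions in a quotient of `SL₃(F)` by its centre are images of transvections -/
theorem IsRep.exists_tv [CharP F 2] {ρ : S F →* G} (hρ : IsRep ρ) {g : S F} (h : ρ g * ρ g = 1) :
    ∃ w ψ : Fin 3 → F, ψ ⬝ᵥ w = 0 ∧ ρ g = ρ (tv w ψ) := by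
  have h1 : g * g ∈ Subgroup.center (S F) := by
    rw [← hρ, map_mul, h]
  obtain ⟨ω, hω, hg⟩ := mem_center_iff'.1 h1
  have hd := dg_mem_center hω
  have hdv : ∀ u : Fin 3 → F, dg ω ω ω hω • u = ω • u := by
    intro u
    rw [dg_apply]
    apply ext3 <;> rfl
  obtain ⟨w, ψ, h2, h3⟩ := exists_tv_of_sq (g := dg ω ω ω hω * g) (by
    apply ext_smul
    intro u
    have hgu : g • g • u = ω • u := by rw [← mul_smul, hg]
    rw [mul_smul, mul_smul, mul_smul, hdv, hdv, smul_smul_comm', hgu, one_smul, smul_smul, smul_smul]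
    rw [hω, one_smul])
  refine ⟨w, ψ, h2, ?_⟩
  rw [← h3, map_mul, (hρ _).2 hd, one_mul]

theorem scalar_of_all (f : (Fin 3 → F) → (Fin 3 → F)) (hadd : ∀ u w, f (u + w) = f u + f w)
    (hsmul : ∀ (c : F) u, f (c • u) = c • f u) (hall : ∀ u, ∃ c : F, f u = c • u) :
    ∃ c : F, ∀ u, f u = c • u := by
  obtain ⟨c0, h0⟩ := hall ![1, 0, 0]
  obtain ⟨c1, h1⟩ := hall ![0, 1, 0]
  obtain ⟨c2, h2⟩ := hall ![0, 0, 1]
  obtain ⟨c, hc⟩ := hall ![1, 1, 1]
  have e : (![1, 1, 1] : Fin 3 → F) = ![1, 0, 0] + ![0, 1, 0] + ![0, 0, 1] := by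
    apply ext3 <;> simp
  have hc' := hc
  rw [e, hadd, hadd, h0, h1, h2] at hc'
  have a0 := congrFun hc' 0
  have a1 := congrFun hc' 1
  have a2 := congrFun hc' 2
  simp [smul_ap] at a0 a1 a2
  refine ⟨c, ?_⟩
  intro u
  have e' : u = u 0 • ![1, 0, 0] + u 1 • ![0, 1, 0] + u 2 • ![0, 0, 1] := by
    apply ext3 <;> simp [smul_ap]
  rw [e', hadd, hadd, hsmul, hsmul, hsmul, h0, h1, h2, a0, a1, a2, smul_add, smul_add]
  congr 1
  · congr 1
    · rw [smul_comm]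
    · rw [smul_comm]
  · rw [smul_comm]

/-- An involution inducing a linear automorphism induces an inner one. -/
theorem exists_inner [Finite F] [CharP F 2] {ρ : S F →* G} {x : G} (hρ : IsRep ρ) {C : GL (Fin 3) F} {σ : F ≃+* F}
    (hT : Tr ρ ρ x C σ) (hσ : ∀ c, σ c = c) (hx : x * x = 1) :
    ∃ t : S F, t * t = 1 ∧ ∀ g, x * ρ g * x⁻¹ = ρ t * ρ g * (ρ t)⁻¹ := by
  -- `C²` is a scalar
  have h1 : ∀ u : Fin 3 → F, ∃ c : F, cv C σ (cv C σ u) = c • u := by
    intro u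
    by_cases hu : u = 0
    · exact ⟨0, by rw [hu, cv_zero, cv_zero, smul_zero]⟩
    obtain ⟨φ, hφ, hφu, -⟩ := exists_common u u
    rw [dotProduct_comm] at hφu
    have hφu' : cr C σ φ ⬝ᵥ cv C σ u = 0 := by rw [cr_dot_cv, hφu, map_zero]
    have hφu'' : cr C σ (cr C σ φ) ⬝ᵥ cv C σ (cv C σ u) = 0 := by rw [cr_dot_cv, hφu', map_zero]
    have h2 : ρ (tv u φ) = ρ (tv (cv C σ (cv C σ u)) (cr C σ (cr C σ φ))) := by
      rw [← th_tv C σ hφu', ← hT, ← th_tv C σ hφu, ← hT]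
      have : x * (x * ρ (tv u φ) * x⁻¹) * x⁻¹ = (x * x) * ρ (tv u φ) * (x * x)⁻¹ := by group
      rw [this, hx, inv_one, one_mul, mul_one]
    obtain ⟨c, -, hc, -⟩ := tv_inj hφu hφu'' hu hφ (hρ.tv_eq hφu hφu'' h2)
    exact ⟨c, hc⟩
  obtain ⟨c, hc⟩ := scalar_of_all (fun u => cv C σ (cv C σ u)) (fun u w => by simp only [cv_add])
    (fun c u => by simp only [cv_smul, hσ]) h1
  have hc0 : c ≠ 0 := by
    rintro rfl
    have := hc e1
    simp only [zero_smul] at this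
    exact cv_ne C σ (cv_ne C σ e1_ne) this
  -- a square root of `c`
  obtain ⟨ν, hν⟩ : ∃ ν : F, ν * ν = c := by
    have := (frobeniusEquiv F 2).surjective c
    obtain ⟨ν, hν⟩ := this
    exact ⟨ν, by rw [← hν, frobeniusEquiv_apply, frobenius_def, pow_two]⟩
  have hν0 : ν ≠ 0 := by
    rintro rfl
    rw [zero_mul] at hν
    exact hc0 hν.symm
  set D : Matrix (Fin 3) (Fin 3) F := ν⁻¹ • C.1 with hD
  have hDv : ∀ u : Fin 3 → F, D *ᵥ u = ν⁻¹ • cv C σ u := by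
    intro u
    rw [hD, smul_mulVec]
    unfold cv
    congr 2
    funext i
    rw [hσ]
  have hDD : D * D = 1 := by
    apply Matrix.ext_of_mulVec_single
    intro i
    rw [← mulVec_mulVec, hDv, hDv, cv_smul, hσ, smul_smul, one_mulVec]
    have := hc (Pi.single i 1)
    rw [this, smul_smul, ← hν]
    have : ν⁻¹ * ν⁻¹ * (ν * ν) = 1 := by field_simp
    rw [this, one_smul]
  have hdet : D.det = 1 := by
    have h2 : D.det * D.det = 1 := by rw [← det_mul, hDD, det_one]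
    have h3 : (D.det - 1) * (D.det - 1) = 0 := by
      have h4 : (2 : F) = 0 := CharTwo.two_eq_zero
      linear_combination h2 - D.det * h4 + h4
    have h5 := mul_self_eq_zero.1 h3
    exact sub_eq_zero.1 h5
  obtain ⟨t, ht⟩ : ∃ t : S F, t.1 = D := ⟨⟨D, hdet⟩, rfl⟩
  refine ⟨t, Subtype.ext (by
    change t.1 * t.1 = 1
    rw [ht, hDD]), ?_⟩
  intro g
  rw [hT, th_of_smul (k := ν) (t := t), map_mul, map_mul, map_inv]
  intro u
  rw [smul_eq, ht, hDv, smul_smul, mul_inv_cancel₀ hν0, one_smul]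

end

end Cfsg.Agent.H438.SLThree
end

-- part: H438/SLThreeI
section
/-!
# 2-transitive groups with `PSL₃(2ⁿ)` normal in the point stabiliser: the configuration (helper438, S3727)

`Cfg ρ` : `G` is 2-transitive and faithful on `Ω`, `|Ω|` is even, `ρ a` maps `SL₃(F)` into the stabiliser of `a` with
kernel the centre, and the ranges `N a` are conjugate.
-/

set_option autoImplicit false
set_option linter.unusedSectionVars false
set_option linter.unusedSimpArgs false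

namespace Cfsg.Agent.H438.SLThree

open Matrix MulAction

variable {F : Type*} [Field F] {G Ω : Type*} [Group G] [MulAction G Ω]

/-- The configuration. -/
structure Cfg (ρ : Ω → (S F →* G)) : Prop where
  two : ∀ a b a' b' : Ω, a ≠ b → a' ≠ b' → ∃ g : G, g • a = a' ∧ g • b = b'
  faith : ∀ g : G, (∀ x : Ω, g • x = x) → g = 1
  even : Even (Nat.card Ω)
  rep : ∀ a, IsRep (ρ a)
  fix : ∀ a g, ρ a g • a = a
  conj : ∀ (y : G) (a : Ω) (g : S F), ∃ g', y * ρ a g * y⁻¹ = ρ (y • a) g'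

/-- the normal subgroup of the stabiliser -/
def N (ρ : Ω → (S F →* G)) (a : Ω) : Subgroup G := (ρ a).range

/-- its centraliser -/
def K (ρ : Ω → (S F →* G)) (a : Ω) : Subgroup G := Subgroup.centralizer (N ρ a : Set G)

variable {ρ : Ω → (S F →* G)}

theorem mem_N {a : Ω} {x : G} : x ∈ N ρ a ↔ ∃ g, ρ a g = x := MonoidHom.mem_range

theorem rho_mem (a : Ω) (g : S F) : ρ a g ∈ N ρ a := ⟨g, rfl⟩

theorem mem_K {a : Ω} {x : G} : x ∈ K ρ a ↔ ∀ g, x * ρ a g = ρ a g * x := by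
  unfold K
  rw [Subgroup.mem_centralizer_iff]
  constructor
  · intro h g
    exact (h _ (rho_mem a g)).symm
  · rintro h _ ⟨g, rfl⟩
    exact (h g).symm

namespace Cfg

variable (c : Cfg ρ)

include c

theorem conj' (y : G) (a : Ω) (g' : S F) : ∃ g, y * ρ a g * y⁻¹ = ρ (y • a) g' := by
  obtain ⟨g, hg⟩ := c.conj y⁻¹ (y • a) g'
  rw [inv_smul_smul] at hg
  refine ⟨g, ?_⟩
  rw [← hg]
  group

theorem tr [Finite F] (p : ℕ) [Fact p.Prime] [CharP F p] (y : G) (a : Ω) :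
    (∃ C σ, Tr (ρ a) (ρ (y • a)) y C σ) ∨ ∃ C σ, Tr ((ρ a).comp dual) (ρ (y • a)) y C σ :=
  exists_tr p (c.rep a) (c.rep _) (c.conj y a) (c.conj' y a)

theorem N_conj {y : G} {a : Ω} {x : G} (hx : x ∈ N ρ a) : y * x * y⁻¹ ∈ N ρ (y • a) := by
  obtain ⟨g, rfl⟩ := hx
  obtain ⟨g', hg'⟩ := c.conj y a g
  exact ⟨g', hg'.symm⟩

theorem N_conj' {y : G} {a : Ω} {x : G} (hx : x ∈ N ρ (y • a)) : y⁻¹ * x * y ∈ N ρ a := by
  have := c.N_conj (y := y⁻¹) hx
  rwa [inv_smul_smul, inv_inv] at this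

theorem N_conj_fix {y : G} {a : Ω} (hy : y • a = a) {x : G} (hx : x ∈ N ρ a) : y * x * y⁻¹ ∈ N ρ a := by
  have := c.N_conj (y := y) hx
  rwa [hy] at this

theorem K_conj {y : G} {a : Ω} {x : G} (hx : x ∈ K ρ a) : y * x * y⁻¹ ∈ K ρ (y • a) := by
  rw [mem_K] at hx ⊢
  intro g
  obtain ⟨h, hh⟩ := c.conj' y a g
  rw [← hh]
  have := hx h
  calc y * x * y⁻¹ * (y * ρ a h * y⁻¹) = y * (x * ρ a h) * y⁻¹ := by group
    _ = y * (ρ a h * x) * y⁻¹ := by rw [this]
    _ = y * ρ a h * y⁻¹ * (y * x * y⁻¹) := by group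

theorem K_conj' {y : G} {a : Ω} {x : G} (hx : x ∈ K ρ (y • a)) : y⁻¹ * x * y ∈ K ρ a := by
  have := c.K_conj (y := y⁻¹) hx
  rwa [inv_smul_smul, inv_inv] at this

theorem K_conj_fix {y : G} {a : Ω} (hy : y • a = a) {x : G} (hx : x ∈ K ρ a) : y * x * y⁻¹ ∈ K ρ a := by
  have := c.K_conj (y := y) hx
  rwa [hy] at this

theorem N_fix {a : Ω} {x : G} (hx : x ∈ N ρ a) : x • a = a := by
  obtain ⟨g, rfl⟩ := hx
  exact c.fix a g

/-- `N a` fixes only `a` -/
theorem not_fix {a b : Ω} (hab : b ≠ a) : ∃ g, ρ a g • b ≠ b := by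
  by_contra hcon
  push Not at hcon
  have hall : ∀ (g : S F) (d : Ω), ρ a g • d = d := by
    intro g d
    by_cases hd : d = a
    · rw [hd, c.fix]
    · obtain ⟨y, hy1, hy2⟩ := c.two a b a d hab.symm (Ne.symm hd)
      obtain ⟨g', hg'⟩ := c.conj' y a g
      rw [hy1] at hg'
      rw [← hg', mul_smul, mul_smul]
      nth_rewrite 1 [← hy2]
      rw [inv_smul_smul, hcon, hy2]
  have h1 := c.faith _ (hall (tv e1 e3))
  exact (c.rep a).tv_ne (by rw [dot_e1]; rfl) e1_ne e3_ne h1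

theorem exists_move {a b : Ω} (hab : b ≠ a) : ∃ x ∈ N ρ a, x • b ≠ b := by
  obtain ⟨g, hg⟩ := c.not_fix hab
  exact ⟨_, rho_mem a g, hg⟩

theorem K_fix {a : Ω} {x : G} (hx : x ∈ K ρ a) : x • a = a := by
  by_contra hne
  obtain ⟨y, hy, hyne⟩ := c.exists_move (a := a) (b := x • a) hne
  apply hyne
  -- `y` commutes with `x` and fixes `a`
  obtain ⟨g, rfl⟩ := hy
  rw [← mul_smul, ← mem_K.1 hx g, mul_smul, c.fix]

theorem ne_top {a b : Ω} (hab : b ≠ a) : Xs (ρ a) b ≠ ⊤ := by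
  intro h
  obtain ⟨g, hg⟩ := c.not_fix hab
  exact hg (mem_Xs.1 (h ▸ Subgroup.mem_top g))

end Cfg

theorem Tr.index [Finite (S F)] {ρ ρ' : S F →* G} {y : G} {C : GL (Fin 3) F} {σ : F ≃+* F} (h : Tr ρ ρ' y C σ) (b : Ω) :
    (Xs ρ' (y • b)).index = (Xs ρ b).index := by
  have h1 : Xs ρ b = (Xs ρ' (y • b)).comap (th C σ).toMonoidHom := by
    ext g
    rw [Subgroup.mem_comap]
    exact (h.mem b g).symm
  rw [h1, Subgroup.index_comap_of_surjective _ (th C σ).surjective]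

theorem Xs_dual (ρ : S F →* G) (b : Ω) : Xs (ρ.comp (dual (F := F))) b = (Xs ρ b).comap dual := rfl

theorem index_dual (ρ : S F →* G) (b : Ω) : (Xs (ρ.comp (dual (F := F))) b).index = (Xs ρ b).index := by
  rw [Xs_dual, Subgroup.index_comap_of_surjective _ dual_surjective]

namespace Cfg

variable [Finite F] [CharP F 2] [Finite (S F)] [Finite G] [Finite Ω]

theorem index_eq (c : Cfg ρ) {a b a' b' : Ω} (hab : b ≠ a) (hab' : b' ≠ a') :
    (Xs (ρ a) b).index = (Xs (ρ a') b').index := by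
  have : Fact (Nat.Prime 2) := ⟨Nat.prime_two⟩
  obtain ⟨y, hy1, hy2⟩ := c.two a b a' b' hab.symm hab'.symm
  rcases c.tr 2 y a with ⟨C, σ, hT⟩ | ⟨C, σ, hT⟩
  · rw [← hT.index b, hy1, hy2]
  · rw [← index_dual, ← hT.index b, hy1, hy2]

theorem odd (c : Cfg ρ) {a b : Ω} (hab : b ≠ a) : ¬ 2 ∣ (Xs (ρ a) b).index := by
  classical
  have : Fact (Nat.Prime 2) := ⟨Nat.prime_two⟩
  have : Fintype Ω := Fintype.ofFinite Ω
  obtain ⟨P⟩ : Nonempty (Sylow 2 (S F)) := inferInstance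
  let _ : MulAction (S F) Ω := MulAction.compHom Ω (ρ a)
  have h1 := P.isPGroup'.card_modEq_card_fixedPoints (α := Ω)
  have h2 : 2 ∣ Nat.card (fixedPoints P Ω) := by
    have h3 : 2 ∣ Nat.card Ω := c.even.two_dvd
    exact (Nat.modEq_zero_iff_dvd.1 (h1.symm.trans (Nat.modEq_zero_iff_dvd.2 h3)))
  have ha : a ∈ fixedPoints P Ω := fun g => c.fix a g.1
  have h4 : ∃ b' ∈ fixedPoints P Ω, b' ≠ a := by
    by_contra hcon
    push Not at hcon
    have h5 : fixedPoints P Ω = {a} := by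
      ext x
      exact ⟨fun hx => hcon x hx, fun hx => hx ▸ ha⟩
    rw [h5, Nat.card_unique] at h2
    norm_num at h2
  obtain ⟨b', hb', hb'a⟩ := h4
  rw [c.index_eq hab hb'a]
  intro hdvd
  have h6 : (P : Subgroup (S F)) ≤ Xs (ρ a) b' := fun g hg => hb' ⟨g, hg⟩
  exact P.not_dvd_index (hdvd.trans (Subgroup.index_dvd_of_le h6))

theorem tri (c : Cfg ρ) {a b : Ω} (hab : b ≠ a) :
    (∃ v, Pt (Xs (ρ a) b) v) ∨ (∃ φ, Ln (Xs (ρ a) b) φ) ∨ ∃ v φ, Fl (Xs (ρ a) b) v φ :=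
  trichotomy (c.odd hab) (c.ne_top hab)

/-- `X` contains the unipotent radical of a Borel subgroup -/
theorem exists_unip (c : Cfg ρ) {a b : Ω} (hab : b ≠ a) :
    ∃ v φ : Fin 3 → F, v ≠ 0 ∧ φ ≠ 0 ∧ φ ⬝ᵥ v = 0 ∧ Ce (Xs (ρ a) b) v ∧ Ax (Xs (ρ a) b) φ := by
  rcases c.tri hab with ⟨v, hv⟩ | ⟨φ, hφ⟩ | ⟨v, φ, h⟩
  · obtain ⟨φ, hφ0, hφ, -⟩ := exists_common v v
    rw [dotProduct_comm] at hφ
    exact ⟨v, φ, hv.1, hφ0, hφ, hv.ce, hv.ax hφ⟩
  · obtain ⟨v, hv0, hv, -⟩ := exists_common φ φ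
    exact ⟨v, φ, hv0, hφ.1, hv, hφ.ce hv, hφ.ax⟩
  · exact ⟨v, φ, h.1, h.2.1, h.2.2.1, h.2.2.2.2.2.1, h.2.2.2.2.2.2⟩

/-- If `y` fixes `a` and centralises `ρ a (U)` then it induces on `N a` an element of `Z(U)`. -/
theorem exists_root (c : Cfg ρ) {a : Ω} {y : G} (hy : y • a = a) {v φ : Fin 3 → F}
    (hv : v ≠ 0) (hφ : φ ≠ 0) (hd : φ ⬝ᵥ v = 0)
    (hC : ∀ ψ : Fin 3 → F, ψ ⬝ᵥ v = 0 → y * ρ a (tv v ψ) * y⁻¹ = ρ a (tv v ψ))
    (hA : ∀ w : Fin 3 → F, φ ⬝ᵥ w = 0 → y * ρ a (tv w φ) * y⁻¹ = ρ a (tv w φ)) :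
    ∃ k : F, (ρ a (tv v (k • φ)))⁻¹ * y ∈ K ρ a := by
  have : Fact (Nat.Prime 2) := ⟨Nat.prime_two⟩
  have h1 := c.conj y a
  have h2 := c.conj' y a
  rw [hy] at h1 h2
  obtain ⟨k, hk⟩ := exists_root_of_comm 2 (c.rep a) h1 h2 hv hφ hd hC hA
  refine ⟨k, ?_⟩
  rw [mem_K]
  intro g
  have h3 := hk g
  have h4 : y * ρ a g = ρ a (tv v (k • φ)) * ρ a g * (ρ a (tv v (k • φ)))⁻¹ * y := by
    rw [← h3]; group
  rw [mul_assoc, h4]
  group

theorem comm_mem (c : Cfg ρ) {a b : Ω} {x y : G} (hx : x ∈ N ρ a) (hxb : x • b = b) (hy : y ∈ N ρ b) (hya : y • a = a) :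
    y * x * y⁻¹ * x⁻¹ ∈ N ρ a ∧ y * x * y⁻¹ * x⁻¹ ∈ N ρ b := by
  constructor
  · exact (N ρ a).mul_mem (c.N_conj_fix hya hx) ((N ρ a).inv_mem hx)
  · have h1 := c.N_conj_fix hxb ((N ρ b).inv_mem hy)
    have h2 := (N ρ b).mul_mem hy h1
    have h3 : y * (x * y⁻¹ * x⁻¹) = y * x * y⁻¹ * x⁻¹ := by group
    rwa [h3] at h2

/-- **Claim 1.** -/
theorem meet (c : Cfg ρ) {a b : Ω} (hab : b ≠ a) : ∃ x, x ∈ N ρ a ∧ x ∈ N ρ b ∧ x ≠ 1 := by
  by_contra hcon
  push Not at hcon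
  have hall : ∀ a' b' : Ω, b' ≠ a' → ∀ x, x ∈ N ρ a' → x ∈ N ρ b' → x = 1 := by
    intro a' b' hab' x hx1 hx2
    obtain ⟨y, hy1, hy2⟩ := c.two a b a' b' hab.symm hab'.symm
    have h1 := hcon (y⁻¹ * x * y) (c.N_conj' (by rw [hy1]; exact hx1)) (c.N_conj' (by rw [hy2]; exact hx2))
    have h2 : x = y * (y⁻¹ * x * y) * y⁻¹ := by group
    rw [h2, h1]
    group
  have hK : ∀ x, x ∈ N ρ b → x ∈ K ρ a → x = 1 := by
    intro x hx hxK
    by_contra hx1
    obtain ⟨g, hg⟩ := c.not_fix hab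
    have h1 := c.N_conj (y := ρ a g) hx
    have h2 : ρ a g * x * (ρ a g)⁻¹ = x := by rw [← mem_K.1 hxK g]; group
    rw [h2] at h1
    exact hx1 (hall _ _ hg x hx h1)
  obtain ⟨v, φ, hv, hφ, hd, hC, hA⟩ := c.exists_unip hab
  obtain ⟨v', φ', hv', hφ', hd', hC', hA'⟩ := c.exists_unip hab.symm
  obtain ⟨w, ψ, hw, hψ, hψw⟩ := exists_second hv' hφ' hd'
  -- an element of order four
  set t := tv v' ψ * tv w φ' with ht
  have htX : t ∈ Xs (ρ b) a := (Xs (ρ b) a).mul_mem (hC' ψ hψ) (hA' w hw)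
  have htt : t * t = tv v' φ' := by
    rw [ht]
    have h2F : (2 : F) = 0 := CharTwo.two_eq_zero
    apply ext_smul
    intro u
    rw [mul_smul, mul_smul, mul_smul, tv_smul hw, tv_smul hψ, tv_smul hw, tv_smul hψ, tv_smul hd']
    funext i
    simp only [Pi.add_apply, smul_ap, dotProduct_add, dotProduct_smul, smul_dotProduct, hd', hw, hψ, hψw,
      smul_eq_mul]
    linear_combination (φ' ⬝ᵥ u * w i + ψ ⬝ᵥ u * v' i + φ' ⬝ᵥ u * v' i) * h2F
  set y := ρ b t with hy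
  have hya : y • a = a := htX
  have hyb : y ∈ N ρ b := rho_mem b t
  have hcomm : ∀ g, g ∈ Xs (ρ a) b → y * ρ a g * y⁻¹ = ρ a g := by
    intro g hg
    obtain ⟨h1, h2⟩ := c.comm_mem (rho_mem a g) hg hyb hya
    have h3 := hcon _ h1 h2
    rw [mul_inv_eq_one] at h3
    exact h3
  obtain ⟨k, hk⟩ := c.exists_root hya hv hφ hd (fun ψ hψ => hcomm _ (hC ψ hψ)) (fun w hw => hcomm _ (hA w hw))
  have hkd : (k • φ) ⬝ᵥ v = 0 := by rw [smul_dotProduct, hd, smul_zero]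
  set z := ρ a (tv v (k • φ)) with hz
  have hzz : z * z = 1 := by rw [hz, ← map_mul, tv_sq hkd, map_one]
  have hyy : y * y ∈ K ρ a := by
    have h1 : y = z * (z⁻¹ * y) := by group
    have h2 : z * (z⁻¹ * y) = (z⁻¹ * y) * z := (mem_K.1 hk (tv v (k • φ))).symm
    have h3 : y * y = (z⁻¹ * y) * (z⁻¹ * y) := by
      calc y * y = (z * (z⁻¹ * y)) * (z * (z⁻¹ * y)) := by rw [← h1]
        _ = ((z⁻¹ * y) * z) * (z * (z⁻¹ * y)) := by rw [← h2]
        _ = (z⁻¹ * y) * (z * z) * (z⁻¹ * y) := by group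
        _ = _ := by rw [hzz, mul_one]
    rw [h3]
    exact (K ρ a).mul_mem hk hk
  have h1 := hK _ ((N ρ b).mul_mem hyb hyb) hyy
  rw [hy, ← map_mul, htt] at h1
  exact (c.rep b).tv_ne hd' hv' hφ' h1

end Cfg

end Cfsg.Agent.H438.SLThree
end

-- part: H438/SLThreeJ
section
/-!
# `C(N a) ∩ C(N b) = 1` (helper438, S3727)
-/

set_option autoImplicit false
set_option linter.unusedSectionVars false
set_option linter.unusedSimpArgs false

namespace Cfsg.Agent.H438.SLThree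

open Matrix MulAction

variable {F : Type*} [Field F] {G Ω : Type*} [Group G] [MulAction G Ω] {ρ : Ω → (S F →* G)}

/-- `C(N a) ∩ C(N b)` -/
def KK (ρ : Ω → (S F →* G)) (a b : Ω) : Subgroup G := K ρ a ⊓ K ρ b

namespace Cfg

variable [Finite F] [CharP F 2] [Finite (S F)] [Finite G] [Finite Ω] (c : Cfg ρ)

include c

theorem K_smul (y : G) (a : Ω) : (K ρ a).map (MulAut.conj y).toMonoidHom = K ρ (y • a) := by
  ext x
  constructor
  · rintro ⟨z, hz, rfl⟩
    exact c.K_conj hz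
  · intro hx
    exact ⟨y⁻¹ * x * y, c.K_conj' hx, by
      change y * (y⁻¹ * x * y) * y⁻¹ = x
      group⟩

theorem KK_smul (y : G) (a b : Ω) : (KK ρ a b).map (MulAut.conj y).toMonoidHom = KK ρ (y • a) (y • b) := by
  ext x
  constructor
  · rintro ⟨z, hz, rfl⟩
    exact ⟨c.K_conj hz.1, c.K_conj hz.2⟩
  · rintro ⟨hx1, hx2⟩
    exact ⟨y⁻¹ * x * y, ⟨c.K_conj' hx1, c.K_conj' hx2⟩, by
      change y * (y⁻¹ * x * y) * y⁻¹ = x
      group⟩

theorem KK_card {a b a' b' : Ω} (hab : b ≠ a) (hab' : b' ≠ a') : Nat.card (KK ρ a b) = Nat.card (KK ρ a' b') := by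
  obtain ⟨y, hy1, hy2⟩ := c.two a b a' b' hab.symm hab'.symm
  have h1 := c.KK_smul y a b
  rw [hy1, hy2] at h1
  rw [← h1]
  exact Nat.card_congr ((KK ρ a b).equivMapOfInjective _ (MulAut.conj y).injective).toEquiv

theorem KK_eq_of_le {a b a' b' : Ω} (hab : b ≠ a) (hab' : b' ≠ a') (h : KK ρ a b ≤ KK ρ a' b') :
    KK ρ a b = KK ρ a' b' := Subgroup.eq_of_le_of_card_ge h (c.KK_card hab' hab).le

/-- an element of `N a` normalises `KK a b` -/
theorem KK_move {a b : Ω} {x : G} (hx : x ∈ N ρ a) : KK ρ a (x • b) = KK ρ a b := by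
  have h1 := c.KK_smul x a b
  rw [c.N_fix hx] at h1
  rw [← h1]
  obtain ⟨g, rfl⟩ := hx
  ext z
  constructor
  · rintro ⟨w, hw, rfl⟩
    change ρ a g * w * (ρ a g)⁻¹ ∈ _
    rw [← mem_K.1 hw.1 g]
    simpa using hw
  · intro hz
    refine ⟨z, hz, ?_⟩
    change ρ a g * z * (ρ a g)⁻¹ = z
    rw [← mem_K.1 hz.1 g]
    group

theorem K_inf {a b : Ω} (hab : b ≠ a) {x : G} (hx : x ∈ K ρ a) (hx' : x ∈ K ρ b) : x = 1 := by
  by_contra hx1
  -- the subgroups `KK` are nontrivial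
  have hsym : ∀ a b : Ω, KK ρ a b = KK ρ b a := fun a b => inf_comm _ _
  have hcard : 1 < Nat.card (KK ρ a b) := by
    rw [Subgroup.one_lt_card_iff_ne_bot]
    intro hbot
    have : x ∈ KK ρ a b := ⟨hx, hx'⟩
    rw [hbot, Subgroup.mem_bot] at this
    exact hx1 this
  -- not everything centralises
  have hout : ∀ a' b' : Ω, b' ≠ a' → ∃ d, ¬ KK ρ a' b' ≤ K ρ d := by
    intro a' b' hab'
    by_contra hcon
    push Not at hcon
    have h1 : KK ρ a' b' = ⊥ := by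
      rw [eq_bot_iff]
      intro z hz
      rw [Subgroup.mem_bot]
      exact c.faith z fun d => c.K_fix (hcon d hz)
    have h2 := c.KK_card hab hab'
    rw [h1, Subgroup.card_bot] at h2
    omega
  obtain ⟨g, hgN, hgN', hg1⟩ := c.meet hab
  have hga : g • a = a := c.N_fix hgN
  have hgb : g • b = b := c.N_fix hgN'
  -- (1) points outside the line are fixed
  have h1 : ∀ d : Ω, ¬ KK ρ a b ≤ K ρ d → g • d = d := by
    intro d hd
    by_contra hgd
    have hda : d ≠ a := by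
      rintro rfl
      exact hgd hga
    have hdb : d ≠ b := by
      rintro rfl
      exact hgd hgb
    have e1 : KK ρ a d ≤ KK ρ d (g • d) := by
      refine le_inf inf_le_right ?_
      rw [← c.KK_move (b := d) hgN]
      exact inf_le_right
    have e2 : KK ρ b d ≤ KK ρ d (g • d) := by
      refine le_inf inf_le_right ?_
      rw [← c.KK_move (b := d) hgN']
      exact inf_le_right
    have e1' := c.KK_eq_of_le hda hgd e1
    have e2' := c.KK_eq_of_le hdb hgd e2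
    have e3 : KK ρ a d ≤ KK ρ a b := by
      refine le_inf inf_le_left ?_
      rw [e1', ← e2']
      exact inf_le_left
    have e4 := c.KK_eq_of_le hda hab e3
    apply hd
    rw [← e4]
    exact inf_le_right
  -- (2) all points are fixed
  have h2 : ∀ e : Ω, g • e = e := by
    intro e
    by_cases he : KK ρ a b ≤ K ρ e
    swap
    · exact h1 e he
    by_contra hge
    obtain ⟨d, hd⟩ := hout a b hab
    have hde : d ≠ e := by
      rintro rfl
      exact hd he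
    obtain ⟨n, hn, hnd⟩ := c.exists_move hde
    have hne : n • e = e := c.N_fix hn
    have e1 : KK ρ e (n • d) = KK ρ e d := c.KK_move hn
    have hnde : n • d ≠ e := by
      intro h0
      apply hde
      rw [← hne] at h0
      exact smul_left_cancel _ h0
    have hd' : ¬ KK ρ a b ≤ K ρ (n • d) := by
      intro h3
      have e2 : KK ρ a b ≤ KK ρ e (n • d) := le_inf he h3
      have e3 := c.KK_eq_of_le hab hnde e2
      apply hd
      rw [e3, e1]
      exact inf_le_right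
    have hgd := h1 d hd
    have hgd' := h1 _ hd'
    have e2 : KK ρ e d ≤ KK ρ d (n • d) := by
      refine le_inf inf_le_right ?_
      rw [← e1]
      exact inf_le_right
    have e2' := c.KK_eq_of_le hde hnd e2
    have e3 : KK ρ (g • e) d = KK ρ e d := by
      have h3 := c.KK_smul g d (n • d)
      rw [hgd, hgd', ← e2', c.KK_smul, hgd] at h3
      exact h3
    have e4 : KK ρ e d ≤ KK ρ e (g • e) := by
      refine le_inf inf_le_left ?_
      rw [← e3]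
      exact inf_le_left
    have e4' := c.KK_eq_of_le hde hge e4
    have e5 : KK ρ a b ≤ KK ρ e (g • e) := by
      refine le_inf he ?_
      intro z hz
      obtain ⟨gg, rfl⟩ := hgN
      have h3 := c.K_conj (y := ρ a gg) (he hz)
      rw [← mem_K.1 hz.1 gg] at h3
      simpa using h3
    have e5' := c.KK_eq_of_le hab hge e5
    apply hd
    rw [e5', ← e4']
    exact inf_le_right
  exact hg1 (c.faith g h2)

end Cfg

end Cfsg.Agent.H438.SLThree
end

-- part: H438/SLThreeK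
section
/-!
# The two types of configurations (helper438, S3727)
-/

set_option autoImplicit false
set_option linter.unusedSectionVars false
set_option linter.unusedSimpArgs false

namespace Cfsg.Agent.H438.SLThree

open Matrix MulAction

variable {F : Type*} [Field F] {G Ω : Type*} [Group G] [MulAction G Ω] {ρ : Ω → (S F →* G)}

/-- all stabilisers are of type `Pt` -/
def TypePt (ρ : Ω → (S F →* G)) : Prop := ∀ a b : Ω, b ≠ a → ∃ v, Pt (Xs (ρ a) b) v

/-- all stabilisers are of type `Fl` -/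
def TypeFl (ρ : Ω → (S F →* G)) : Prop := ∀ a b : Ω, b ≠ a → ∃ v φ, Fl (Xs (ρ a) b) v φ

theorem Pt.toDual {X : Subgroup (S F)} {v : Fin 3 → F} (h : Pt X v) : Ln (X.comap SLThree.dual) v := by
  refine ⟨h.1, ?_, ?_⟩
  · intro g hg
    obtain ⟨μ, hμ⟩ := h.2.1 _ hg
    rw [dual_smul] at hμ
    have hμ0 : μ ≠ 0 := by
      rintro rfl
      rw [zero_smul] at hμ
      exact row_ne h.1 _ hμ
    refine ⟨μ⁻¹, ?_⟩
    have h1 := congrArg (fun x => row x g) hμ
    simp only [row_smul, row_inv_row] at h1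
    exact (eq_inv_smul_iff₀ hμ0).2 h1.symm
  · intro g hg
    rw [Subgroup.mem_comap]
    apply h.2.2
    rw [dual_smul]
    have h1 := congrArg (fun x => row x g⁻¹) hg
    simp only [row_row_inv] at h1
    exact h1.symm

theorem Fl.toDual {X : Subgroup (S F)} {v φ : Fin 3 → F} (h : Fl X v φ) : Fl (X.comap SLThree.dual) φ v := by
  obtain ⟨h1, h2, h3, h4, h5, h6, h7⟩ := h
  refine ⟨h2, h1, by rw [dotProduct_comm, h3], ?_, ?_, ?_, ?_⟩
  · intro g hg
    obtain ⟨μ, hμ⟩ := h5 _ hg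
    rw [row_dual, inv_smul_eq_iff, smul_smul_comm'] at hμ
    have hμ0 : μ ≠ 0 := by
      rintro rfl
      rw [zero_smul] at hμ
      exact h2 hμ
    exact ⟨μ⁻¹, (eq_inv_smul_iff₀ hμ0).2 hμ.symm⟩
  · intro g hg
    obtain ⟨μ, hμ⟩ := h4 _ hg
    rw [dual_smul] at hμ
    have hμ0 : μ ≠ 0 := by
      rintro rfl
      rw [zero_smul] at hμ
      exact row_ne h1 _ hμ
    refine ⟨μ⁻¹, ?_⟩
    have h1 := congrArg (fun x => row x g) hμ
    simp only [row_smul, row_inv_row] at h1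
    exact (eq_inv_smul_iff₀ hμ0).2 h1.symm
  · intro ψ hψ
    have hψ' : φ ⬝ᵥ ψ = 0 := by rw [dotProduct_comm, hψ]
    rw [Subgroup.mem_comap, dual_tv hψ, ← tv_inv hψ']
    exact X.inv_mem (h7 ψ hψ')
  · intro w hw
    have hw' : w ⬝ᵥ v = 0 := by rw [dotProduct_comm, hw]
    rw [Subgroup.mem_comap, dual_tv hw, ← tv_inv hw']
    exact X.inv_mem (h6 w hw')

theorem Pt.not_ln {X : Subgroup (S F)} {v φ : Fin 3 → F} (h : Pt X v) (h' : Ln X φ) : False :=
  h.not_row h'.1 h'.2.1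

namespace Cfg

variable [Finite F] [CharP F 2] [Finite (S F)] [Finite G] [Finite Ω]

theorem parity (c : Cfg ρ) (a : Ω) (hall : ∀ b : Ω, b ≠ a → (∃ v, Pt (Xs (ρ a) b) v) ∨ ∃ φ, Ln (Xs (ρ a) b) φ) :
    (∀ b : Ω, b ≠ a → ∃ v, Pt (Xs (ρ a) b) v) ∨ ∀ b : Ω, b ≠ a → ∃ φ, Ln (Xs (ρ a) b) φ := by
  classical
  have : Fact (Nat.Prime 2) := ⟨Nat.prime_two⟩
  have : Fintype Ω := Fintype.ofFinite Ω
  by_contra hcon
  rw [not_or] at hcon
  obtain ⟨h1, h2⟩ := hcon
  rw [not_forall] at h1 h2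
  obtain ⟨b2, h1⟩ := h1
  obtain ⟨b1, h2⟩ := h2
  rw [Classical.not_imp] at h1 h2
  obtain ⟨hb2, h1⟩ := h1
  obtain ⟨hb1, h2⟩ := h2
  have h1' := (hall b2 hb2).resolve_left h1
  have h2' := (hall b1 hb1).resolve_right h2
  obtain ⟨y, hy1, hy2⟩ := c.two a b1 a b2 hb1.symm hb2.symm
  rcases c.tr 2 y a with ⟨C, σ, hT⟩ | ⟨C, σ, hT⟩
  · rw [hy1] at hT
    obtain ⟨v, hv⟩ := h2'
    have := hT.pt hv
    rw [hy2] at this
    exact h1 ⟨_, this⟩
  · rw [hy1] at hT
    have e1 : ∀ b : Ω, (∃ v, Pt (Xs (ρ a) b) v) → ∃ φ, Ln (Xs (ρ a) (y • b)) φ := by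
      rintro b ⟨v, hv⟩
      exact ⟨_, hT.ln (b := b) (φ := v) hv.toDual⟩
    have e2 : ∀ b : Ω, (∃ φ, Ln (Xs (ρ a) b) φ) → ∃ v, Pt (Xs (ρ a) (y • b)) v := by
      rintro b ⟨v, hv⟩
      exact ⟨_, hT.pt (b := b) (v := v) hv.toDual⟩
    have hyb : ∀ b : Ω, y • b ≠ a ↔ b ≠ a := by
      intro b
      constructor
      · rintro h rfl
        exact h hy1
      · intro h h0
        apply h
        rw [← hy1] at h0
        exact smul_left_cancel _ h0
    have hcard : Nat.card {b : Ω // b ≠ a ∧ ∃ v, Pt (Xs (ρ a) b) v} =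
        Nat.card {b : Ω // b ≠ a ∧ ∃ φ, Ln (Xs (ρ a) b) φ} := by
      apply Nat.card_congr
      refine (MulAction.toPerm y).subtypeEquiv ?_
      intro b
      rw [MulAction.toPerm_apply, hyb]
      constructor
      · rintro ⟨h3, h4⟩
        exact ⟨h3, e1 b h4⟩
      · rintro ⟨h3, φ, h4⟩
        refine ⟨h3, ?_⟩
        rcases hall b h3 with h5 | h5
        · exact h5
        · obtain ⟨v, h6⟩ := e2 b h5
          exact (h6.not_ln h4).elim
    have htot : Nat.card Ω = 1 + (Nat.card {b : Ω // b ≠ a ∧ ∃ v, Pt (Xs (ρ a) b) v} +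
        Nat.card {b : Ω // b ≠ a ∧ ∃ φ, Ln (Xs (ρ a) b) φ}) := by
      have h3 : Nat.card {b : Ω // (b ≠ a ∧ ∃ v, Pt (Xs (ρ a) b) v) ∨ (b ≠ a ∧ ∃ φ, Ln (Xs (ρ a) b) φ)} =
          Nat.card {b : Ω // b ≠ a ∧ ∃ v, Pt (Xs (ρ a) b) v} + Nat.card {b : Ω // b ≠ a ∧ ∃ φ, Ln (Xs (ρ a) b) φ} := by
        rw [Nat.card_eq_fintype_card, Nat.card_eq_fintype_card, Nat.card_eq_fintype_card,
          Fintype.card_subtype_or_disjoint]
        rw [Pi.disjoint_iff]
        intro b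
        rw [Prop.disjoint_iff]
        rintro ⟨⟨-, v, h4⟩, -, φ, h5⟩
        exact h4.not_ln h5
      rw [← h3, ← card_or a]
      · symm
        apply Nat.card_congr
        refine Equiv.subtypeUnivEquiv ?_
        intro b
        by_cases hb : b = a
        · exact Or.inl hb
        · right
          rcases hall b hb with h5 | h5
          · exact Or.inl ⟨hb, h5⟩
          · exact Or.inr ⟨hb, h5⟩
      · rintro (h4 | h4)
        · exact h4.1 rfl
        · exact h4.1 rfl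
    have heven := c.even
    rw [htot, hcard] at heven
    rw [Nat.even_iff] at heven
    omega

/-- **The two types.** -/
theorem types (c : Cfg ρ) : TypeFl ρ ∨ ∃ ρ' : Ω → (S F →* G), Cfg ρ' ∧ (∀ a, N ρ' a = N ρ a) ∧ TypePt ρ' := by
  classical
  have : Fact (Nat.Prime 2) := ⟨Nat.prime_two⟩
  by_cases hF : ∃ a0 b0 : Ω, b0 ≠ a0 ∧ ∃ v φ, Fl (Xs (ρ a0) b0) v φ
  · left
    obtain ⟨a0, b0, hab0, v, φ, hfl⟩ := hF
    intro a b hab
    obtain ⟨y, hy1, hy2⟩ := c.two a0 b0 a b hab0.symm hab.symm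
    rcases c.tr 2 y a0 with ⟨C, σ, hT⟩ | ⟨C, σ, hT⟩
    · rw [hy1] at hT
      have := hT.fl hfl
      rw [hy2] at this
      exact ⟨_, _, this⟩
    · rw [hy1] at hT
      have := hT.fl (b := b0) hfl.toDual
      rw [hy2] at this
      exact ⟨_, _, this⟩
  · right
    have hall : ∀ a b : Ω, b ≠ a → (∃ v, Pt (Xs (ρ a) b) v) ∨ ∃ φ, Ln (Xs (ρ a) b) φ := by
      intro a b hab
      rcases c.tri hab with h | h | h
      · exact Or.inl h
      · exact Or.inr h
      · exact (hF ⟨a, b, hab, h⟩).elim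
    let ρ' : Ω → (S F →* G) := fun a =>
      if ∀ b : Ω, b ≠ a → ∃ v, Pt (Xs (ρ a) b) v then ρ a else (ρ a).comp dual
    have hρ' : ∀ a, ρ' a = ρ a ∨ ρ' a = (ρ a).comp dual := by
      intro a
      by_cases h : ∀ b : Ω, b ≠ a → ∃ v, Pt (Xs (ρ a) b) v
      · exact Or.inl (if_pos h)
      · exact Or.inr (if_neg h)
    have hN : ∀ a, N ρ' a = N ρ a := by
      intro a
      unfold N
      rcases hρ' a with h | h
      · rw [h]
      · rw [h, range_comp_dual]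
    refine ⟨ρ', ⟨c.two, c.faith, c.even, ?_, ?_, ?_⟩, hN, ?_⟩
    · intro a
      rcases hρ' a with h | h
      · rw [h]; exact c.rep a
      · rw [h]; exact (c.rep a).toDual
    · intro a g
      have h1 : ρ' a g ∈ N ρ' a := rho_mem a g
      rw [hN] at h1
      exact c.N_fix h1
    · intro y a g
      have h1 : ρ' a g ∈ N ρ' a := rho_mem a g
      rw [hN] at h1
      have h2 := c.N_conj (y := y) h1
      rw [← hN] at h2
      obtain ⟨g', hg'⟩ := h2
      exact ⟨g', hg'.symm⟩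
    · intro a b hab
      by_cases h : ∀ b : Ω, b ≠ a → ∃ v, Pt (Xs (ρ a) b) v
      · have h1 : ρ' a = ρ a := if_pos h
        rw [h1]
        exact h b hab
      · have h1 : ρ' a = (ρ a).comp dual := if_neg h
        rw [h1]
        obtain ⟨φ, hφ⟩ := (c.parity a (hall a)).resolve_left h b hab
        exact ⟨φ, hφ.toDual⟩

end Cfg

end Cfsg.Agent.H438.SLThree
end

-- part: H438/SLThreeL
section
/-!
# The configurations of type `Pt`, I (helper438, S3727)

`Qs ρ v` : the group of the transvections with centre `v`; `Qs (ρ a) v_b = Qs (ρ b) v_a`; the stabiliser of `v_b` in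
`N a` lies in `N b`.
-/

set_option autoImplicit false
set_option linter.unusedSectionVars false
set_option linter.unusedSimpArgs false

namespace Cfsg.Agent.H438.SLThree

open Matrix MulAction
open Cfsg.Agent.ClassicalGeometry.AutPSL.Auto

variable {F : Type*} [Field F] {G Ω : Type*} [Group G] [MulAction G Ω]

/-- the transvections with centre `v` -/
def Qs (ρ : S F →* G) (v : Fin 3 → F) : Subgroup G where
  carrier := {x | ∃ ψ : Fin 3 → F, ψ ⬝ᵥ v = 0 ∧ ρ (tv v ψ) = x}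
  one_mem' := ⟨0, by simp, by rw [tv_zero_right, map_one]⟩
  mul_mem' := by
    rintro _ _ ⟨ψ, h1, rfl⟩ ⟨χ, h2, rfl⟩
    exact ⟨ψ + χ, by rw [add_dotProduct, h1, h2, add_zero], by rw [← tv_mul h1 h2, map_mul]⟩
  inv_mem' := by
    rintro _ ⟨ψ, h1, rfl⟩
    exact ⟨-ψ, by rw [neg_dotProduct, h1, neg_zero], by rw [← tv_inv h1, map_inv]⟩

theorem mem_Qs {ρ : S F →* G} {v : Fin 3 → F} {x : G} :
    x ∈ Qs ρ v ↔ ∃ ψ : Fin 3 → F, ψ ⬝ᵥ v = 0 ∧ ρ (tv v ψ) = x := Iff.rfl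

theorem Qs_smul (ρ : S F →* G) (v : Fin 3 → F) {k : F} (hk : k ≠ 0) : Qs ρ (k • v) = Qs ρ v := by
  ext x
  constructor
  · rintro ⟨ψ, h1, rfl⟩
    have h2 : ψ ⬝ᵥ v = 0 := by
      rw [dotProduct_smul, smul_eq_mul] at h1
      exact (mul_eq_zero.1 h1).resolve_left hk
    exact ⟨k • ψ, by rw [smul_dotProduct, h2, smul_zero], by rw [tv_smul_left h2]⟩
  · rintro ⟨ψ, h1, rfl⟩
    have h2 : (k⁻¹ • ψ) ⬝ᵥ v = 0 := by rw [smul_dotProduct, h1, smul_zero]
    refine ⟨k⁻¹ • ψ, by rw [dotProduct_smul, h2, smul_zero], ?_⟩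
    rw [tv_smul_left h2, smul_smul, mul_inv_cancel₀ hk, one_smul]

/-- a transvection stabilising a point -/
theorem dot_of_fix {w φ v : Fin 3 → F} (h : φ ⬝ᵥ w = 0) (hw : w ≠ 0) {μ : F} (hμ : tv w φ • v = μ • v) :
    φ ⬝ᵥ v = 0 := by
  by_contra hne
  rw [tv_smul h] at hμ
  have h1 : (φ ⬝ᵥ v) • w = (μ - 1) • v := by
    rw [sub_smul, one_smul, ← hμ]; simp
  have h2 : φ ⬝ᵥ ((φ ⬝ᵥ v) • w) = φ ⬝ᵥ ((μ - 1) • v) := by rw [h1]
  rw [dotProduct_smul, h, smul_zero, dotProduct_smul, smul_eq_mul] at h2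
  have h3 : μ - 1 = 0 := (mul_eq_zero.1 h2.symm).resolve_right hne
  rw [h3, zero_smul] at h1
  exact smul_ne_zero hne hw h1

theorem tv_fix {w φ v : Fin 3 → F} (h : φ ⬝ᵥ w = 0) (hv : φ ⬝ᵥ v = 0) : tv w φ • v = v := by
  rw [tv_smul h, hv, zero_smul, add_zero]

variable {ρ : Ω → (S F →* G)}

/-- the part of `N a` in `N b` -/
def Y (ρ : Ω → (S F →* G)) (a b : Ω) : Subgroup (S F) := (N ρ b).comap (ρ a)

theorem mem_Y {a b : Ω} {g : S F} : g ∈ Y ρ a b ↔ ρ a g ∈ N ρ b := Iff.rfl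

/-- an involution fixes a second point -/
theorem exists_second_fix [Finite G] [Finite Ω] (heven : Even (Nat.card Ω)) {x : G} (hx : x * x = 1) {a : Ω}
    (ha : x • a = a) : ∃ b : Ω, b ≠ a ∧ x • b = b := by
  classical
  have : Fact (Nat.Prime 2) := ⟨Nat.prime_two⟩
  have : Fintype Ω := Fintype.ofFinite Ω
  have hP : IsPGroup 2 (Subgroup.zpowers x) := by
    rintro ⟨_, k, rfl⟩
    refine ⟨1, ?_⟩
    apply Subtype.ext
    change (x ^ k) ^ (2 ^ 1) = 1
    rw [pow_one, ← zpow_natCast, ← _root_.zpow_mul, mul_comm, _root_.zpow_mul, zpow_natCast, pow_two, hx, _root_.one_zpow]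
  have h1 := hP.card_modEq_card_fixedPoints (α := Ω)
  have h2 : 2 ∣ Nat.card (fixedPoints (Subgroup.zpowers x) Ω) :=
    Nat.modEq_zero_iff_dvd.1 (h1.symm.trans (Nat.modEq_zero_iff_dvd.2 heven.two_dvd))
  have h3 : ∀ b : Ω, b ∈ fixedPoints (Subgroup.zpowers x) Ω ↔ x • b = b := by
    intro b
    constructor
    · intro h
      exact h ⟨x, Subgroup.mem_zpowers x⟩
    · rintro h ⟨_, k, rfl⟩
      have h4 : x ∈ stabilizer G b := h
      exact (stabilizer G b).zpow_mem h4 k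
  by_contra hcon
  push Not at hcon
  have h5 : fixedPoints (Subgroup.zpowers x) Ω = {a} := by
    ext b
    rw [h3]
    constructor
    · intro h
      by_contra hb
      exact hcon b hb h
    · intro h
      rw [Set.mem_singleton_iff] at h
      rw [h, ha]
  rw [h5, Nat.card_unique] at h2
  norm_num at h2

/-! ### composition of `Tr` -/

/-- field automorphism applied to an invertible matrix -/
def mapG (σ : F ≃+* F) (C : GL (Fin 3) F) : GL (Fin 3) F := Matrix.GeneralLinearGroup.map (σ : F →+* F) C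

theorem cv_mapG (σ τ : F ≃+* F) (C D : GL (Fin 3) F) (v : Fin 3 → F) :
    cv D τ (cv C σ v) = cv (D * mapG τ C) (τ * σ) v := by
  unfold cv
  rw [Units.val_mul, ← mulVec_mulVec]
  congr 1
  funext i
  have h1 : ((mapG τ C : GL (Fin 3) F) : Matrix (Fin 3) (Fin 3) F) = (C : Matrix (Fin 3) (Fin 3) F).map τ := rfl
  change τ ((C.1 *ᵥ fun i => σ (v i)) i) = ((mapG τ C : GL (Fin 3) F) : Matrix (Fin 3) (Fin 3) F).mulVec _ i
  rw [h1]
  simp [mulVec, dotProduct, map_sum]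

theorem th_mapG (σ τ : F ≃+* F) (C D : GL (Fin 3) F) (g : S F) :
    th D τ (th C σ g) = th (D * mapG τ C) (τ * σ) g := by
  apply ext_smul
  intro u
  obtain ⟨u, rfl⟩ := cv_surj (D * mapG τ C) (τ * σ) u
  rw [th_smul, ← cv_mapG, ← cv_mapG, th_smul, th_smul]

theorem Tr.comp {ρ ρ' ρ'' : S F →* G} {y z : G} {C D : GL (Fin 3) F} {σ τ : F ≃+* F} (h : Tr ρ ρ' y C σ)
    (h' : Tr ρ' ρ'' z D τ) : Tr ρ ρ'' (z * y) (D * mapG τ C) (τ * σ) := by
  intro g
  rw [← th_mapG, ← h', ← h]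
  group

/-- the field automorphism is unique -/
theorem Tr.unique {ρ ρ' : S F →* G} {y : G} {C D : GL (Fin 3) F} {σ τ : F ≃+* F} (hρ : IsRep ρ')
    (h : Tr ρ ρ' y C σ) (h' : Tr ρ ρ' y D τ) : σ = τ := by
  have hd : (e3 : Fin 3 → F) ⬝ᵥ e1 = 0 := by rw [dot_e1]; rfl
  have key : ∀ x : F, x ≠ 0 → ∃ k : F, k ≠ 0 ∧ cv D τ e1 = k • cv C σ e1 ∧ τ x • cr D τ e3 = (k⁻¹ * σ x) • cr C σ e3 := by
    intro x hx
    have hdx : (x • e3 : Fin 3 → F) ⬝ᵥ e1 = 0 := by rw [smul_dotProduct, hd, smul_zero]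
    have h1 : ρ' (tv (cv C σ e1) (cr C σ (x • e3))) = ρ' (tv (cv D τ e1) (cr D τ (x • e3))) := by
      rw [← th_tv C σ hdx, ← th_tv D τ hdx, ← h, ← h']
    have d1 : cr C σ (x • e3) ⬝ᵥ cv C σ e1 = 0 := by rw [cr_dot_cv, hdx, map_zero]
    have d2 : cr D τ (x • e3) ⬝ᵥ cv D τ e1 = 0 := by rw [cr_dot_cv, hdx, map_zero]
    obtain ⟨k, hk, hk1, hk2⟩ := tv_inj d1 d2 (cv_ne C σ e1_ne) (cr_ne C σ (smul_ne_zero hx e3_ne))
      (hρ.tv_eq d1 d2 h1)
    refine ⟨k, hk, hk1, ?_⟩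
    rw [← cr_smul, hk2, cr_smul, smul_smul]
  obtain ⟨k, hk, hk1, hk2⟩ := key 1 one_ne_zero
  apply RingEquiv.ext
  intro x
  by_cases hx : x = 0
  · rw [hx, map_zero, map_zero]
  obtain ⟨l, hl, hl1, hl2⟩ := key x hx
  have hkl : l = k := smul_left_injective F (cv_ne C σ e1_ne) (show l • cv C σ e1 = k • cv C σ e1 by rw [← hk1, hl1])
  rw [hkl] at hl2
  rw [map_one, map_one, one_smul, mul_one] at hk2
  rw [hk2, smul_smul] at hl2
  have h3 := smul_left_injective F (cr_ne C σ e3_ne) hl2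
  rw [mul_comm (τ x)] at h3
  exact (mul_left_cancel₀ (inv_ne_zero hk) h3).symm

theorem Tr.of_eq {ρ ρ' : S F →* G} {y z : G} {C : GL (Fin 3) F} {σ : F ≃+* F} (h : Tr ρ ρ' y C σ) (hyz : y = z) :
    Tr ρ ρ' z C σ := hyz ▸ h

/-- commutators induce the trivial field automorphism -/
theorem Tr.comm_field [Finite F] [CharP F 2] {ρ : S F →* G} {y z : G} {C D E : GL (Fin 3) F} {σ τ ω : F ≃+* F}
    (hρ : IsRep ρ) (hy : Tr ρ ρ y C σ) (hz : Tr ρ ρ z D τ) (hw : Tr ρ ρ (y * z * y⁻¹ * z⁻¹) E ω) : ω = 1 := by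
  have h2 : Tr ρ ρ ((y * z * y⁻¹ * z⁻¹) * (z * y)) _ _ := (hy.comp hz).comp hw
  have h3 : Tr ρ ρ (y * z) _ _ := hz.comp hy
  have h4 := h2.of_eq (show (y * z * y⁻¹ * z⁻¹) * (z * y) = y * z by group)
  have h5 := h3.unique hρ h4
  rw [StdRank2.OutField.comm σ τ] at h5
  exact (mul_eq_right.1 h5.symm)

namespace Cfg

section

variable (c : Cfg ρ)

include c

theorem Y_le {a b : Ω} : Y ρ a b ≤ Xs (ρ a) b := fun _ hg => c.N_fix hg

theorem center_le_Y {a b : Ω} : Subgroup.center (S F) ≤ Y ρ a b := by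
  intro g hg
  rw [mem_Y, ((c.rep a) g).2 hg]
  exact (N ρ b).one_mem

theorem Y_normal {a b : Ω} {g y : S F} (hg : g ∈ Xs (ρ a) b) (hy : y ∈ Y ρ a b) : g * y * g⁻¹ ∈ Y ρ a b := by
  rw [mem_Y, map_mul, map_mul, map_inv]
  exact c.N_conj_fix hg hy

theorem Y_ne [Finite F] [CharP F 2] [Finite (S F)] [Finite G] [Finite Ω] {a b : Ω} (hab : b ≠ a) :
    ∃ y ∈ Y ρ a b, y ∉ Subgroup.center (S F) := by
  obtain ⟨x, ⟨g, rfl⟩, hx2, hx1⟩ := c.meet hab
  exact ⟨g, hx2, fun h => hx1 (((c.rep a) g).2 h)⟩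

end

variable [Finite F] [CharP F 2] [Finite (S F)] [Finite G] [Finite Ω]

/-- `Q_{ab}` lies in `N b` -/
theorem Q_le (c : Cfg ρ) {a b : Ω} (hab : b ≠ a) {v : Fin 3 → F} (hv : Pt (Xs (ρ a) b) v) : Ce (Y ρ a b) v :=
  hv.normal_ce c.Y_le c.center_le_Y (fun _ hg _ hy => c.Y_normal hg hy) (c.Y_ne hab)

/-- the elements fixing `a` and `b` normalise `Q_{ab}` -/
theorem Q_inv (c : Cfg ρ) {a b : Ω} {v : Fin 3 → F} (hv : Pt (Xs (ρ a) b) v) {d : G}
    (hda : d • a = a) (hdb : d • b = b) : ∃ C σ, Tr (ρ a) (ρ a) d C σ ∧ ∃ k : F, k ≠ 0 ∧ cv C σ v = k • v := by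
  have : Fact (Nat.Prime 2) := ⟨Nat.prime_two⟩
  rcases c.tr 2 d a with ⟨C, σ, hT⟩ | ⟨C, σ, hT⟩
  · rw [hda] at hT
    have h1 := hT.pt hv
    rw [hdb] at h1
    obtain ⟨k, hk⟩ := cen_unique hv.1 hv.ce h1.2.1
    refine ⟨C, σ, hT, k, ?_, hk⟩
    rintro rfl
    rw [zero_smul] at hk
    exact cv_ne C σ hv.1 hk
  · rw [hda] at hT
    have h1 := hT.ln (b := b) hv.toDual
    rw [hdb] at h1
    exact (hv.not_ln h1).elim

theorem Q_conj (c : Cfg ρ) {a b : Ω} {v : Fin 3 → F} (hv : Pt (Xs (ρ a) b) v) {d : G}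
    (hda : d • a = a) (hdb : d • b = b) {x : G} (hx : x ∈ Qs (ρ a) v) : d * x * d⁻¹ ∈ Qs (ρ a) v := by
  obtain ⟨C, σ, hT, k, hk, hkv⟩ := c.Q_inv hv hda hdb
  obtain ⟨ψ, hψ, rfl⟩ := hx
  have h1 : cr C σ ψ ⬝ᵥ cv C σ v = 0 := by rw [cr_dot_cv, hψ, map_zero]
  rw [hT, th_tv C σ hψ, ← Qs_smul (ρ a) v hk, ← hkv]
  exact ⟨_, h1, rfl⟩

/-- **`Q_{ab} = Q_{ba}`** -/
theorem Q_eq_le (c : Cfg ρ) {a b : Ω} (hab : b ≠ a) {v v' : Fin 3 → F} (hv : Pt (Xs (ρ a) b) v)
    (hv' : Pt (Xs (ρ b) a) v') : Qs (ρ a) v ≤ Qs (ρ b) v' := by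
  rintro _ ⟨ψ, hψ, rfl⟩
  by_cases hψ0 : ψ = 0
  · rw [hψ0, tv_zero_right, map_one]
    exact Subgroup.one_mem _
  have h1 : ρ a (tv v ψ) ∈ N ρ b := c.Q_le hab hv ψ hψ
  obtain ⟨g, hg⟩ := h1
  obtain ⟨w, χ, hχ, he⟩ := (c.rep b).exists_tv (g := g) (by rw [hg, ← map_mul, tv_sq hψ, map_one])
  rw [hg] at he
  have hx1 : ρ a (tv v ψ) ≠ 1 := (c.rep a).tv_ne hψ hv.1 hψ0
  have hw : w ≠ 0 := by
    rintro rfl
    rw [tv_zero_left, map_one] at he
    exact hx1 he
  have hχ0 : χ ≠ 0 := by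
    rintro rfl
    rw [tv_zero_right, map_one] at he
    exact hx1 he
  have hfix : tv w χ ∈ Xs (ρ b) a := by
    rw [mem_Xs, ← he]
    exact c.fix a _
  obtain ⟨μ, hμ⟩ := hv'.2.1 _ hfix
  have hχv : χ ⬝ᵥ v' = 0 := dot_of_fix hχ hw hμ
  rw [he]
  -- it remains to show that `w` is a multiple of `v'`
  by_cases hpar : ∃ k : F, w = k • v'
  · obtain ⟨k, rfl⟩ := hpar
    rw [tv_smul_left hχv]
    exact ⟨_, by rw [smul_dotProduct, hχv, smul_zero], rfl⟩
  exfalso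
  obtain ⟨ξ, hξv, hξw⟩ := exists_ker' hv'.1 hpar
  -- a vector `z` with `ξ z = 0`, `χ z ≠ 0`
  have hnp : ¬ ∃ k : F, χ = k • ξ := by
    rintro ⟨k, hk⟩
    have : k * (ξ ⬝ᵥ w) = 0 := by rw [← smul_eq_mul, ← smul_dotProduct, ← hk, hχ]
    rcases mul_eq_zero.1 this with h2 | h2
    · exact hχ0 (by rw [hk, h2, zero_smul])
    · exact hξw h2
  have hξ0 : ξ ≠ 0 := by
    rintro rfl
    exact hξw (zero_dotProduct _)
  obtain ⟨z, hz, hχz⟩ := exists_ker hξ0 hnp
  have hgfix : tv z ξ • v' = v' := tv_fix hz hξv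
  have hgX : tv z ξ ∈ Xs (ρ b) a := hv'.2.2 _ hgfix
  have hx : ρ b (tv w χ) ∈ Qs (ρ a) v := he ▸ ⟨ψ, hψ, rfl⟩
  have h2 := c.Q_conj hv (d := ρ b (tv z ξ)) hgX (c.fix b _) hx
  -- the two elements commute
  have h3 : ∀ x ∈ Qs (ρ a) v, ∀ y ∈ Qs (ρ a) v, x * y * x⁻¹ = y := by
    rintro _ ⟨ψ1, hψ1, rfl⟩ _ ⟨ψ2, hψ2, rfl⟩
    have : tv v ψ1 * tv v ψ2 = tv v ψ2 * tv v ψ1 := by rw [tv_mul hψ1 hψ2, tv_mul hψ2 hψ1, add_comm]
    rw [← map_mul, this, map_mul]
    group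
  have h4 := h3 _ h2 _ hx
  set g1 := tv z ξ * tv w χ * (tv z ξ)⁻¹ with hg1
  have h5 : ρ b (tv z ξ) * ρ b (tv w χ) * (ρ b (tv z ξ))⁻¹ = ρ b g1 := by
    rw [hg1, map_mul, map_mul, map_inv]
  rw [h5, ← map_mul, ← map_inv, ← map_mul, conj_tv hχ] at h4
  have h6 : row χ g1⁻¹ ⬝ᵥ (g1 • w) = 0 := by rw [dot_inv, hχ]
  obtain ⟨k, -, hk, -⟩ := tv_inj h6 hχ (smul_ne' hw _) (row_ne hχ0 _) ((c.rep b).tv_eq h6 hχ h4)
  -- apply `χ`
  have h7 : χ ⬝ᵥ (g1 • w) = 0 := by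
    by_cases hk0 : k = 0
    · rw [hk0, zero_smul] at hk
      exact (hw hk).elim
    · have : g1 • w = k⁻¹ • w := by
        nth_rewrite 2 [hk]
        rw [smul_smul, inv_mul_cancel₀ hk0, one_smul]
      rw [this, dotProduct_smul, hχ, smul_zero]
  have h8 : g1 = tv (tv z ξ • w) (row χ (tv z ξ)⁻¹) := by rw [hg1, conj_tv hχ]
  have h9 : row χ (tv z ξ)⁻¹ ⬝ᵥ (tv z ξ • w) = 0 := by rw [dot_inv, hχ]
  have h10 : row χ (tv z ξ)⁻¹ = χ + -(χ ⬝ᵥ z) • ξ := by
    rw [tv_inv hz, row_tv (by rw [neg_dotProduct, hz, neg_zero])]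
    funext i
    simp [smul_ap]
  rw [h8, tv_smul h9, tv_smul hz, h10] at h7
  simp only [dotProduct_add, dotProduct_smul, smul_eq_mul, hχ, add_dotProduct, smul_dotProduct, neg_smul,
    neg_dotProduct, dotProduct_neg, zero_add, mul_neg, neg_mul, hz, mul_zero] at h7
  have h11 : (χ ⬝ᵥ z) * (ξ ⬝ᵥ w) * ((ξ ⬝ᵥ w) * (χ ⬝ᵥ z)) = 0 := by
    linear_combination -h7
  have h12 : (χ ⬝ᵥ z) * (ξ ⬝ᵥ w) ≠ 0 := mul_ne_zero hχz hξw
  exact h12 (by
    rcases mul_eq_zero.1 h11 with h13 | h13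
    · exact h13
    · rw [mul_comm]; exact h13)

theorem Q_eq (c : Cfg ρ) {a b : Ω} (hab : b ≠ a) {v v' : Fin 3 → F} (hv : Pt (Xs (ρ a) b) v)
    (hv' : Pt (Xs (ρ b) a) v') : Qs (ρ a) v = Qs (ρ b) v' :=
  le_antisymm (c.Q_eq_le hab hv hv') (c.Q_eq_le hab.symm hv' hv)

end Cfg

end Cfsg.Agent.H438.SLThree
end

-- part: H438/SLThreeM
section
/-!
# The configurations of type `Pt`, II (helper438, S3727)
-/

set_option autoImplicit false
set_option linter.unusedSectionVars false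
set_option linter.unusedSimpArgs false

namespace Cfsg.Agent.H438.SLThree

open Matrix MulAction
open Cfsg.Agent.ClassicalGeometry.AutPSL.Auto

variable {F : Type*} [Field F] {G Ω : Type*} [Group G] [MulAction G Ω]

theorem mem_center_of_all {g : S F} (h : ∀ u : Fin 3 → F, ∃ c : F, g • u = c • u) : g ∈ Subgroup.center (S F) := by
  obtain ⟨c, hc⟩ := scalar_of_all (fun u => g • u) (fun u w => smul_add _ _ _) (fun c u => smul_smul_comm' c u g) h
  rw [mem_center_iff']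
  refine ⟨c, ?_, hc⟩
  have h1 := hc ![1, 0, 0]
  have h2 := hc ![0, 1, 0]
  have h3 := hc ![0, 0, 1]
  have a0 := congrFun h1 0
  have a1 := congrFun h1 1
  have a2 := congrFun h1 2
  have b0 := congrFun h2 0
  have b1 := congrFun h2 1
  have b2 := congrFun h2 2
  have d0 := congrFun h3 0
  have d1 := congrFun h3 1
  have d2 := congrFun h3 2
  rw [smul_apply] at a0 a1 a2 b0 b1 b2 d0 d1 d2
  simp [smul_ap] at a0 a1 a2 b0 b1 b2 d0 d1 d2
  have hdet := g.2
  rw [det_fin_three] at hdet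
  change g.1 0 0 * g.1 1 1 * g.1 2 2 - g.1 0 0 * g.1 1 2 * g.1 2 1 - g.1 0 1 * g.1 1 0 * g.1 2 2 +
    g.1 0 1 * g.1 1 2 * g.1 2 0 + g.1 0 2 * g.1 1 0 * g.1 2 1 - g.1 0 2 * g.1 1 1 * g.1 2 0 = 1 at hdet
  simp only [a0, a1, a2, b0, b1, b2, d0, d1, d2] at hdet
  linear_combination hdet

/-- the quotient by the centre has trivial centre -/
theorem IsRep.center_one {ρ : S F →* G} (hρ : IsRep ρ) {g : S F} (h : ∀ h, ρ g * ρ h * (ρ g)⁻¹ = ρ h) : ρ g = 1 := by
  rw [hρ]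
  apply mem_center_of_all
  intro u
  by_cases hu : u = 0
  · exact ⟨0, by rw [hu, smul_zero, smul_zero]⟩
  obtain ⟨φ, hφ, hφu, -⟩ := exists_common u u
  rw [dotProduct_comm] at hφu
  have h1 := h (tv u φ)
  rw [← map_mul, ← map_inv, ← map_mul, conj_tv hφu] at h1
  have h2 : row φ g⁻¹ ⬝ᵥ (g • u) = 0 := by rw [dot_inv, hφu]
  obtain ⟨k, -, hk, -⟩ := tv_inj hφu h2 hu hφ (hρ.tv_eq hφu h2 h1.symm)
  exact ⟨k, hk⟩

variable {ρ : Ω → (S F →* G)}

namespace Cfg

theorem NK_one (c : Cfg ρ) {a : Ω} {x : G} (hx : x ∈ N ρ a) (hxK : x ∈ K ρ a) : x = 1 := by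
  obtain ⟨g, rfl⟩ := hx
  apply (c.rep a).center_one
  intro h
  rw [mem_K.1 hxK h]
  group

variable [Finite F] [CharP F 2] [Finite (S F)] [Finite G] [Finite Ω]

/-- `C(N a) ∩ N b` is a normal subgroup of the stabiliser -/
theorem W_pt (c : Cfg ρ) {a b : Ω} {x : G} (hx : x ∈ K ρ a) (hxb : x ∈ N ρ b) (hx1 : x ≠ 1) :
    ∃ W : Subgroup (S F), W ≤ Xs (ρ b) a ∧ Subgroup.center (S F) ≤ W ∧
      (∀ g ∈ Xs (ρ b) a, ∀ y ∈ W, g * y * g⁻¹ ∈ W) ∧ (∃ y ∈ W, y ∉ Subgroup.center (S F)) ∧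
      ∀ g ∈ W, ρ b g ∈ K ρ a := by
  refine ⟨(K ρ a).comap (ρ b), ?_, ?_, ?_, ?_, fun g hg => hg⟩
  · intro g hg
    exact c.K_fix hg
  · intro g hg
    rw [Subgroup.mem_comap, ((c.rep b) g).2 hg]
    exact (K ρ a).one_mem
  · intro g hg y hy
    rw [Subgroup.mem_comap, map_mul, map_mul, map_inv]
    exact c.K_conj_fix hg hy
  · obtain ⟨g, rfl⟩ := hxb
    exact ⟨g, hx, fun h => hx1 (((c.rep b) g).2 h)⟩

/-- (B2a) -/
theorem KN_one (c : Cfg ρ) (hP : TypePt ρ) {a b : Ω} (hab : b ≠ a) {x : G} (hx : x ∈ K ρ a) (hxb : x ∈ N ρ b) :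
    x = 1 := by
  by_contra hx1
  obtain ⟨v, hv⟩ := hP a b hab
  obtain ⟨v', hv'⟩ := hP b a hab.symm
  obtain ⟨W, hW1, hW2, hW3, hW4, hW5⟩ := c.W_pt hx hxb hx1
  have h1 := hv'.normal_ce hW1 hW2 hW3 hW4
  obtain ⟨ψ, hψ0, hψ, -⟩ := exists_common v' v'
  rw [dotProduct_comm] at hψ
  have h2 := hW5 _ (h1 ψ hψ)
  have h3 : ρ b (tv v' ψ) ∈ Qs (ρ a) v := by
    rw [c.Q_eq hab hv hv']
    exact ⟨ψ, hψ, rfl⟩
  obtain ⟨χ, hχ, he⟩ := h3
  have h4 : ρ b (tv v' ψ) ∈ N ρ a := ⟨_, he⟩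
  exact (c.rep b).tv_ne hψ hv'.1 hψ0 (c.NK_one h4 h2)

/-- (B2b) `C(N a) ∩ G_b = 1` -/
theorem KG_one (c : Cfg ρ) (hP : TypePt ρ) {a b : Ω} (hab : b ≠ a) {x : G} (hx : x ∈ K ρ a) (hxb : x • b = b) :
    x = 1 := by
  obtain ⟨v', hv'⟩ := hP b a hab.symm
  have hxa : x • a = a := c.K_fix hx
  have hcomm : ∀ g ∈ Xs (ρ b) a, x * ρ b g * x⁻¹ = ρ b g := by
    intro g hg
    have h1 : x * ρ b g * x⁻¹ * (ρ b g)⁻¹ ∈ N ρ b :=
      (N ρ b).mul_mem (c.N_conj_fix hxb (rho_mem b g)) ((N ρ b).inv_mem (rho_mem b g))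
    have h2 : x * (ρ b g * x⁻¹ * (ρ b g)⁻¹) ∈ K ρ a :=
      (K ρ a).mul_mem hx (c.K_conj_fix hg ((K ρ a).inv_mem hx))
    have h3 : x * (ρ b g * x⁻¹ * (ρ b g)⁻¹) = x * ρ b g * x⁻¹ * (ρ b g)⁻¹ := by group
    rw [h3] at h2
    have h4 := c.KN_one hP hab h2 h1
    rwa [mul_inv_eq_one] at h4
  obtain ⟨φ, hφ0, hφ, -⟩ := exists_common v' v'
  rw [dotProduct_comm] at hφ
  obtain ⟨k, hk⟩ := c.exists_root hxb hv'.1 hφ0 hφ (fun ψ hψ => hcomm _ (hv'.ce ψ hψ))
    (fun w hw => hcomm _ (hv'.ax hφ w hw))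
  have hkd : (k • φ) ⬝ᵥ v' = 0 := by rw [smul_dotProduct, hφ, smul_zero]
  -- the element of `Z(U)` is centralised by the stabiliser
  have hk0 : k = 0 := by
    by_contra hk0
    obtain ⟨w, ψ, hw, hψ, hψw⟩ := exists_second hv'.1 hφ0 hφ
    obtain ⟨u0, hu0⟩ := exists_dot hφ0
    set u := u0 - (ψ ⬝ᵥ u0) • w with hu
    have hψu : ψ ⬝ᵥ u = 0 := by
      rw [hu, dotProduct_sub, dotProduct_smul, hψw, smul_eq_mul, mul_one, sub_self]
    have hφu : φ ⬝ᵥ u = 1 := by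
      rw [hu, dotProduct_sub, dotProduct_smul, hw, smul_zero, sub_zero, hu0]
    have hg : tv u ψ • v' = v' := tv_fix hψu hψ
    have hgX := hv'.2.2 _ hg
    have h1 := hcomm _ hgX
    set z := ρ b (tv v' (k • φ)) with hz
    have h2 : z * ρ b (tv u ψ) * z⁻¹ = ρ b (tv u ψ) := by
      have h3 := mem_K.1 hk (tv u ψ)
      have h4 : ρ b (tv u ψ) = (z⁻¹ * x) * ρ b (tv u ψ) * (z⁻¹ * x)⁻¹ := by
        rw [h3]; group
      have h5 : (z⁻¹ * x) * ρ b (tv u ψ) * (z⁻¹ * x)⁻¹ = z⁻¹ * (x * ρ b (tv u ψ) * x⁻¹) * z := by group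
      rw [h5, h1] at h4
      nth_rewrite 1 [h4]
      group
    rw [hz, ← map_mul, ← map_inv, ← map_mul, conj_tv hψu] at h2
    have h6 : row ψ (tv v' (k • φ))⁻¹ ⬝ᵥ (tv v' (k • φ) • u) = 0 := by rw [dot_inv, hψu]
    have hu0' : u ≠ 0 := by
      intro h0
      rw [h0, dotProduct_zero] at hφu
      exact zero_ne_one hφu
    have hψ0 : ψ ≠ 0 := by
      rintro rfl
      rw [zero_dotProduct] at hψw
      exact zero_ne_one hψw
    obtain ⟨l, hl0, hl, -⟩ := tv_inj hψu h6 hu0' hψ0 ((c.rep b).tv_eq hψu h6 h2.symm)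
    rw [tv_smul hkd, smul_dotProduct, hφu, smul_eq_mul, mul_one] at hl
    have h7 : φ ⬝ᵥ (u + k • v') = φ ⬝ᵥ (l • u) := by rw [hl]
    rw [dotProduct_add, dotProduct_smul, hφ, smul_zero, add_zero, dotProduct_smul, hφu, smul_eq_mul, mul_one] at h7
    rw [← h7, one_smul] at hl
    have h8 : k • v' = 0 := by simpa using hl
    exact smul_ne_zero hk0 hv'.1 h8
  rw [hk0, zero_smul, tv_zero_right, map_one, inv_one, one_mul] at hk
  exact c.K_inf hab hx hk

/-- (B2c) `C(N a)` has odd order -/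
theorem K_sq_one (c : Cfg ρ) (hKG : ∀ a b : Ω, b ≠ a → ∀ x ∈ K ρ a, x • b = b → x = 1) {a : Ω} {x : G}
    (hx : x ∈ K ρ a) (hxx : x * x = 1) : x = 1 := by
  obtain ⟨b, hb, hxb⟩ := exists_second_fix c.even hxx (c.K_fix hx)
  exact hKG a b hb x hx hxb

/-- an involution fixing `b` and inducing a linear automorphism of `N b` lies in `N b` -/
theorem mem_N_of_linear (c : Cfg ρ) (hKG : ∀ a b : Ω, b ≠ a → ∀ x ∈ K ρ a, x • b = b → x = 1) {b : Ω} {x : G}
    (hxx : x * x = 1) {C : GL (Fin 3) F} {σ : F ≃+* F} (hT : Tr (ρ b) (ρ b) x C σ) (hσ : ∀ c, σ c = c) :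
    x ∈ N ρ b := by
  obtain ⟨t, htt, ht⟩ := exists_inner (c.rep b) hT hσ hxx
  have h1 : (ρ b t)⁻¹ * x ∈ K ρ b := by
    rw [mem_K]
    intro g
    have h2 := ht g
    have h3 : x * ρ b g = ρ b t * ρ b g * (ρ b t)⁻¹ * x := by rw [← h2]; group
    rw [mul_assoc, h3]
    group
  have htt' : ρ b t * ρ b t = 1 := by rw [← map_mul, htt, map_one]
  have h2 : x * ρ b t * x⁻¹ = ρ b t := by rw [ht t]; group
  have h3 : ((ρ b t)⁻¹ * x) * ((ρ b t)⁻¹ * x) = 1 := by
    have h4 : x * (ρ b t)⁻¹ = (ρ b t)⁻¹ * x := by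
      have : x * (ρ b t)⁻¹ * x⁻¹ = (ρ b t)⁻¹ := by
        have h5 := congrArg (fun y => y⁻¹) h2
        simp only [_root_.mul_inv_rev, inv_inv] at h5
        rw [mul_assoc]
        exact h5
      nth_rewrite 2 [← this]
      group
    calc ((ρ b t)⁻¹ * x) * ((ρ b t)⁻¹ * x) = (ρ b t)⁻¹ * (x * (ρ b t)⁻¹) * x := by group
      _ = (ρ b t * ρ b t)⁻¹ * (x * x) := by rw [h4]; group
      _ = 1 := by rw [htt', hxx, inv_one, one_mul]
  have h4 := c.K_sq_one hKG h1 h3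
  rw [inv_mul_eq_one] at h4
  rw [← h4]
  exact rho_mem b t

end Cfg

/-- a basis adapted to two vectors and a row -/
theorem exists_adapted {v w φ : Fin 3 → F} (hv : v ≠ 0) (hφ : φ ≠ 0) (hd : φ ⬝ᵥ v = 0) (hw : φ ⬝ᵥ w = 0)
    (hnp : ¬ ∃ k : F, w = k • v) : ∃ (k : S F) (β : F), β ≠ 0 ∧ k • (e1 : Fin 3 → F) = v ∧ row e3 k⁻¹ = φ ∧
      k • (![0, 1, 0] : Fin 3 → F) = β • w := by
  obtain ⟨k0, h1, h2⟩ := exists_flag hv hφ hd
  set w0 := k0⁻¹ • w with hw0
  have h3 : w0 2 = 0 := by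
    rw [← e3_dot w0, hw0, ← row_dot, h2, hw]
  have h4 : w0 1 ≠ 0 := by
    intro h0
    apply hnp
    refine ⟨w0 0, ?_⟩
    have : w0 = w0 0 • e1 := ext3 (by simp [smul_ap]) (by rw [h0]; simp [smul_ap]) (by rw [h3]; simp [smul_ap])
    rw [← h1, ← smul_smul_comm', ← this, hw0, smul_inv_smul]
  have hr2 : ((w0 0 / w0 1) • r2 : Fin 3 → F) ⬝ᵥ e1 = 0 := by rw [dot_e1]; simp [r2, smul_ap]
  refine ⟨k0 * tv e1 ((w0 0 / w0 1) • r2), (w0 1)⁻¹, inv_ne_zero h4, ?_, ?_, ?_⟩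
  · rw [mul_smul, tv_fix hr2 hr2, h1]
  · rw [_root_.mul_inv_rev, row_mul, tv_inv hr2, row_tv (by rw [neg_dotProduct, hr2, neg_zero])]
    have : (e3 : Fin 3 → F) ⬝ᵥ e1 = 0 := by rw [dot_e1]; rfl
    rw [this, zero_smul, add_zero, h2]
  · rw [mul_smul, tv_smul hr2]
    have h5 : (![0, 1, 0] : Fin 3 → F) + (((w0 0 / w0 1) • r2 : Fin 3 → F) ⬝ᵥ ![0, 1, 0]) • e1 = (w0 1)⁻¹ • w0 := by
      rw [dot_apply]
      apply ext3
      · simp [r2, smul_ap]
        field_simp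
      · simp [r2, smul_ap, h4]
      · simp [r2, smul_ap, h3]
    rw [h5, smul_smul_comm', hw0, smul_inv_smul]

namespace Cfg

variable [Finite F] [CharP F 2] [Finite (S F)] [Finite G] [Finite Ω]

/-- (B3) the stabiliser of `v_b` in `N a` lies in `N b` -/
theorem P_le (c : Cfg ρ) (hP : TypePt ρ) {a b : Ω} (hab : b ≠ a) {v : Fin 3 → F} (hv : Pt (Xs (ρ a) b) v) {g : S F}
    (hg : g • v = v) : ρ a g ∈ N ρ b := by
  rw [← mem_Y]
  refine stab_of_ax' hv.1 ?_ hg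
  intro φ hφ w hw
  by_cases hφ0 : φ = 0
  · rw [hφ0, tv_zero_right]
    exact Subgroup.one_mem _
  by_cases hpar : ∃ k : F, w = k • v
  · obtain ⟨k, rfl⟩ := hpar
    rw [tv_smul_left hφ]
    exact c.Q_le hab hv _ (by rw [smul_dotProduct, hφ, smul_zero])
  rw [mem_Y]
  obtain ⟨v', hv'⟩ := hP b a hab.symm
  have hfix : ∀ x : S F, x • v = v → ρ a x • b = b := fun x hx => hv.2.2 x hx
  have hwφ : tv w φ • v = v := tv_fix hw hφ
  obtain ⟨C, σ, hT, -⟩ := c.Q_inv hv' (hfix _ hwφ) (c.fix a (tv w φ))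
  refine c.mem_N_of_linear (fun a b hab x hx hxb => c.KG_one hP hab hx hxb) (by rw [← map_mul, tv_sq hw, map_one]) hT ?_
  by_cases hq : ∀ l : F, l = 0 ∨ l = 1
  · intro l
    rcases hq l with rfl | rfl
    · exact map_zero σ
    · exact map_one σ
  · push Not at hq
    obtain ⟨l, hl0, hl1⟩ := hq
    obtain ⟨k, β, hβ, hk1, hk2, hk3⟩ := exists_adapted hv.1 hφ0 hφ hw hpar
    set δ := k * dg 1 l l⁻¹ (by rw [one_mul, mul_inv_cancel₀ hl0]) * k⁻¹ with hδ
    have hδv : δ • v = v := by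
      rw [hδ, mul_smul, mul_smul]
      nth_rewrite 1 [← hk1]
      rw [inv_smul_smul, dg_apply]
      have : (![1 * (e1 : Fin 3 → F) 0, l * (e1 : Fin 3 → F) 1, l⁻¹ * (e1 : Fin 3 → F) 2] : Fin 3 → F) = e1 := by
        apply ext3 <;> simp
      rw [this, hk1]
    have hδw : δ • w = l • w := by
      have h1 : w = β⁻¹ • k • (![0, 1, 0] : Fin 3 → F) := by rw [hk3, smul_smul, inv_mul_cancel₀ hβ, one_smul]
      have h2 : δ • (k • (![0, 1, 0] : Fin 3 → F)) = l • (k • ![0, 1, 0]) := by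
        rw [hδ, mul_smul, mul_smul, inv_smul_smul, dg_apply, ← smul_smul_comm']
        congr 1
        apply ext3 <;> simp [smul_ap]
      rw [h1, smul_smul_comm', h2, smul_comm]
    have hδφ : row φ δ⁻¹ = l • φ := by
      rw [← hk2]
      have h1 : δ⁻¹ = k * dg 1 l⁻¹ l (by rw [one_mul, inv_mul_cancel₀ hl0]) * k⁻¹ := by
        rw [hδ, _root_.mul_inv_rev, _root_.mul_inv_rev, inv_inv]
        have h2 : (dg 1 l l⁻¹ (by rw [one_mul, mul_inv_cancel₀ hl0]) : S F)⁻¹ =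
            dg 1 l⁻¹ l (by rw [one_mul, inv_mul_cancel₀ hl0]) := by
          rw [inv_eq_iff_mul_eq_one]
          apply ext_smul
          intro u
          rw [mul_smul, dg_apply, dg_apply, one_smul]
          apply ext3 <;> simp [hl0]
        rw [h2]
        group
      rw [h1, row_mul, row_mul, row_inv_row, row_dg, ← row_smul]
      congr 1
      apply ext3 <;> simp [smul_ap]
    -- the commutator
    have hll : l * l - 1 ≠ 0 := by
      intro h0
      apply hl1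
      have h2F : (2 : F) = 0 := CharTwo.two_eq_zero
      have h3 : (l - 1) * (l - 1) = 0 := by linear_combination h0 - (l - 1) * h2F
      exact sub_eq_zero.1 (mul_self_eq_zero.1 h3)
    set s := (l * l - 1)⁻¹ with hs
    have hws : (s • φ) ⬝ᵥ w = 0 := by rw [smul_dotProduct, hw, smul_zero]
    have hwn : (-(s • φ)) ⬝ᵥ w = 0 := by rw [neg_dotProduct, hws, neg_zero]
    have hcom : δ * tv w (s • φ) * δ⁻¹ * (tv w (s • φ))⁻¹ = tv w φ := by
      have h1 : (l • φ) ⬝ᵥ w = 0 := by rw [smul_dotProduct, hw, smul_zero]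
      have h2 : (s • l • φ) ⬝ᵥ w = 0 := by rw [smul_dotProduct, h1, smul_zero]
      have h3 : (l • s • l • φ) ⬝ᵥ w = 0 := by rw [smul_dotProduct, h2, smul_zero]
      rw [conj_tv hws, hδw, row_smul, hδφ, tv_inv hws, tv_smul_left h2, tv_mul h3 hwn]
      congr 1
      funext i
      simp only [Pi.add_apply, Pi.neg_apply, smul_ap]
      have h4 : s * (l * l - 1) = 1 := inv_mul_cancel₀ hll
      linear_combination (φ i) * h4
    have hwsφ : tv w (s • φ) • v = v := tv_fix hws (by rw [smul_dotProduct, hφ, smul_zero])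
    obtain ⟨C1, σ1, hT1, -⟩ := c.Q_inv hv' (hfix _ hδv) (c.fix a δ)
    obtain ⟨C2, σ2, hT2, -⟩ := c.Q_inv hv' (hfix _ hwsφ) (c.fix a (tv w (s • φ)))
    have h5 := hT1.comm_field (c.rep b) hT2 (hT.of_eq (by rw [← hcom, map_mul, map_mul, map_mul, map_inv, map_inv]))
    rw [h5]
    intro c
    rfl

end Cfg

end Cfsg.Agent.H438.SLThree
end

-- part: H438/SLThreeP
section
/-!
# The configurations of type `Pt`, III: counting (helper438, S3727)
-/

set_option autoImplicit false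
set_option linter.unusedSectionVars false
set_option linter.unusedSimpArgs false

namespace Cfsg.Agent.H438.SLThree

open Matrix MulAction
open Cfsg.Agent.ClassicalGeometry.AutPSL.Auto

variable {F : Type*} [Field F] {G Ω : Type*} [Group G] [MulAction G Ω]

theorem Pt.ne_top {X : Subgroup (S F)} {v : Fin 3 → F} (hp : Pt X v) : X ≠ ⊤ := by
  rintro rfl
  have key : ∀ w : Fin 3 → F, w ≠ 0 → ∃ c : F, w = c • v := by
    intro w hw
    obtain ⟨g, hg⟩ := exists_smul hp.1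
    obtain ⟨k, hk⟩ := exists_smul hw
    obtain ⟨μ, hμ⟩ := hp.2.1 (k * g⁻¹) (Subgroup.mem_top _)
    refine ⟨μ, ?_⟩
    rw [← hμ, mul_smul, ← hg, inv_smul_smul, hk]
  obtain ⟨c1, h1⟩ := key e1 e1_ne
  obtain ⟨c3, h3⟩ := key e3 e3_ne
  have a1 := congrFun h1 0
  have a2 := congrFun h1 2
  have a4 := congrFun h3 2
  simp only [smul_ap, e1_zero, e1_two] at a1 a2
  have h5 : v 2 = 0 := by
    rcases mul_eq_zero.1 a2.symm with h6 | h6
    · rw [h6, zero_mul] at a1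
      exact (one_ne_zero a1).elim
    · exact h6
  rw [smul_ap, h5, mul_zero] at a4
  exact one_ne_zero (α := F) a4

/-- two vectors belonging to the same group -/
theorem Pt.par {X : Subgroup (S F)} {v w : Fin 3 → F} (h : Pt X v) (h' : Pt X w) : ∃ k : F, k ≠ 0 ∧ w = k • v := by
  obtain ⟨k, hk⟩ := cen_unique h.1 h.ce h'.2.1
  refine ⟨k, ?_, hk⟩
  rintro rfl
  rw [zero_smul] at hk
  exact h'.1 hk

variable {ρ : Ω → (S F →* G)}

namespace Cfg

theorem not_pt (c : Cfg ρ) (a : Ω) (v : Fin 3 → F) : ¬ Pt (Xs (ρ a) a) v := by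
  intro h
  apply h.ne_top
  rw [eq_top_iff]
  intro g _
  exact c.fix a g

variable [Finite F] [Finite (S F)] [Finite G] [Finite Ω]

/-- the number of points: `(q³ - 1) A = (|Ω| - 1) (q - 1)` -/
theorem count_all (c : Cfg ρ) (hP : TypePt ρ) (a : Ω) :
    (Nat.card F ^ 3 - 1) * Nat.card {b : Ω // Pt (Xs (ρ a) b) e1} = Nat.card {b : Ω // b ≠ a} * (Nat.card F - 1) := by
  have hc := dcount (fun (x : Fin 3 → F) (b : Ω) => Pt (Xs (ρ a) b) x) (fun x => x ≠ 0)
    (c := Nat.card {b : Ω // Pt (Xs (ρ a) b) e1}) (m := Nat.card F - 1) (fun x hx => pt_count x hx)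
    (fun b hb => pt_fiber _ (fun c x hc hx => smul_ne_zero hc hx) b hb)
  rw [card_ne] at hc
  rw [hc]
  congr 1
  apply Nat.card_congr
  refine Equiv.subtypeEquivRight ?_
  intro b
  constructor
  · rintro ⟨x, -, hx⟩ rfl
    exact c.not_pt b x hx
  · intro hb
    obtain ⟨v, hv⟩ := hP a b hb
    exact ⟨v, hv.1, hv⟩

omit [Finite F] [Finite (S F)] [Finite G] in
theorem card_ne' (a : Ω) : Nat.card Ω = 1 + Nat.card {b : Ω // b ≠ a} := by
  rw [← card_or a (fun b => b ≠ a) (fun h => h rfl)]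
  symm
  apply Nat.card_congr
  exact Equiv.subtypeUnivEquiv (fun b => eq_or_ne b a)

/-- `|Ω| = 1 + (q² + q + 1) A` -/
theorem card_eq (c : Cfg ρ) (hP : TypePt ρ) (a : Ω) :
    Nat.card Ω = 1 + (Nat.card F ^ 2 + Nat.card F + 1) * Nat.card {b : Ω // Pt (Xs (ρ a) b) e1} := by
  have hq := q_sub F
  have h1 := c.count_all hP a
  have h2 : Nat.card F ^ 3 - 1 = (Nat.card F - 1) * (Nat.card F ^ 2 + Nat.card F + 1) := by
    obtain ⟨r, hr⟩ : ∃ r, Nat.card F = r + 1 := ⟨Nat.card F - 1, by omega⟩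
    rw [hr, Nat.add_sub_cancel]
    have : (r + 1) ^ 3 = r * ((r + 1) ^ 2 + (r + 1) + 1) + 1 := by ring
    rw [this, Nat.add_sub_cancel]
  rw [h2, mul_assoc, mul_comm (Nat.card {b : Ω // b ≠ a})] at h1
  have h3 := Nat.eq_of_mul_eq_mul_left hq h1
  rw [card_ne' a, ← h3]

theorem A_eq (c : Cfg ρ) (hP : TypePt ρ) (a a' : Ω) :
    Nat.card {b : Ω // Pt (Xs (ρ a) b) e1} = Nat.card {b : Ω // Pt (Xs (ρ a') b) e1} := by
  have h1 := c.card_eq hP a
  rw [c.card_eq hP a'] at h1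
  have h2 := Nat.add_left_cancel h1
  exact (Nat.eq_of_mul_eq_mul_left (by positivity) h2).symm

theorem A_odd (c : Cfg ρ) (hP : TypePt ρ) (a : Ω) : Odd (Nat.card {b : Ω // Pt (Xs (ρ a) b) e1}) := by
  have h1 := c.card_eq hP a
  have h2 := c.even
  rw [h1] at h2
  by_contra h3
  rw [Nat.not_odd_iff_even] at h3
  have h4 : Even ((Nat.card F ^ 2 + Nat.card F + 1) * Nat.card {b : Ω // Pt (Xs (ρ a) b) e1}) := h3.mul_left _
  rw [Nat.even_iff] at h2 h4
  omega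

theorem A_pos (c : Cfg ρ) (hP : TypePt ρ) (a : Ω) {x : Fin 3 → F} (hx : x ≠ 0) : ∃ b : Ω, Pt (Xs (ρ a) b) x := by
  have h1 := c.A_odd hP a
  rw [← pt_count x hx] at h1
  have h2 := h1.pos
  have : Nonempty {b : Ω // Pt (Xs (ρ a) b) x} := (Nat.card_pos_iff.1 h2).1
  obtain ⟨⟨b, hb⟩⟩ := this
  exact ⟨b, hb⟩

omit [Finite F] [Finite (S F)] [Finite G] [Finite Ω] in
theorem ne_of_pt (c : Cfg ρ) {a b : Ω} {v : Fin 3 → F} (h : Pt (Xs (ρ a) b) v) : b ≠ a := by
  rintro rfl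
  exact c.not_pt b v h

end Cfg

/-- three collinear points -/
def Col (ρ : Ω → (S F →* G)) (a b d : Ω) : Prop := ∃ v, Pt (Xs (ρ a) b) v ∧ Pt (Xs (ρ a) d) v

theorem Col.swap {a b d : Ω} (h : Col ρ a b d) : Col ρ a d b := by
  obtain ⟨v, h1, h2⟩ := h
  exact ⟨v, h2, h1⟩

theorem Col.trans {a b d e : Ω} (h : Col ρ a b d) (h' : Col ρ a b e) : Col ρ a d e := by
  obtain ⟨v, h1, h2⟩ := h
  obtain ⟨w, h3, h4⟩ := h'
  obtain ⟨k, hk, rfl⟩ := h3.par h1
  exact ⟨_, h2, h4.smul hk⟩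

theorem Qs_fix {ρ : S F →* G} {b : Ω} {v : Fin 3 → F} : (∀ x ∈ Qs ρ v, x • b = b) ↔ Ce (Xs ρ b) v := by
  constructor
  · intro h ψ hψ
    exact h _ ⟨ψ, hψ, rfl⟩
  · rintro h _ ⟨ψ, hψ, rfl⟩
    exact h ψ hψ

namespace Cfg

variable [Finite F] [CharP F 2] [Finite (S F)] [Finite G] [Finite Ω]

/-- `Col` is symmetric -/
theorem col_rot (c : Cfg ρ) (hP : TypePt ρ) {a b d : Ω} (hbd : b ≠ d) (h : Col ρ a b d) : Col ρ b a d := by
  obtain ⟨v, h1, h2⟩ := h
  have hab := c.ne_of_pt h1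
  have had := c.ne_of_pt h2
  obtain ⟨v', h3⟩ := hP b a hab.symm
  obtain ⟨u, h4⟩ := hP b d hbd.symm
  have h5 : ∀ x ∈ Qs (ρ b) v', x • d = d := by
    rw [← c.Q_eq hab h1 h3]
    exact Qs_fix.2 h2.ce
  have h6 := Qs_fix.1 h5
  obtain ⟨k, hk⟩ := cen_unique h3.1 h6 h4.2.1
  have hk0 : k ≠ 0 := by
    rintro rfl
    rw [zero_smul] at hk
    exact h4.1 hk
  refine ⟨u, ?_, h4⟩
  rw [hk]
  exact h3.smul hk0

/-- points fixed by a transvection of `N a` -/
theorem fix_tv_iff (c : Cfg ρ) (hP : TypePt ρ) {a : Ω} {w φ : Fin 3 → F} (hd : φ ⬝ᵥ w = 0) (hw : w ≠ 0) (d : Ω) :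
    ρ a (tv w φ) • d = d ↔ d = a ∨ ∃ v, Pt (Xs (ρ a) d) v ∧ φ ⬝ᵥ v = 0 := by
  constructor
  · intro h
    by_cases hda : d = a
    · exact Or.inl hda
    right
    obtain ⟨v, hv⟩ := hP a d hda
    obtain ⟨μ, hμ⟩ := hv.2.1 _ (mem_Xs.2 h)
    exact ⟨v, hv, dot_of_fix hd hw hμ⟩
  · rintro (rfl | ⟨v, hv, hφ⟩)
    · exact c.fix d _
    · exact hv.2.2 _ (tv_fix hd hφ)

end Cfg

end Cfsg.Agent.H438.SLThree
end

-- part: H438/SLThreeQ
section
/-!
# The configurations of type `Pt`, IV: the eigenvalue group (helper438, S3727)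
-/

set_option autoImplicit false
set_option linter.unusedSectionVars false
set_option linter.unusedSimpArgs false

namespace Cfsg.Agent.H438.SLThree

open Matrix MulAction
open Cfsg.Agent.ClassicalGeometry.AutPSL.Auto

theorem cyclic_eq {A : Type*} [CommGroup A] [Finite A] [IsCyclic A] {M M' : Subgroup A}
    (h : Nat.card M = Nat.card M') : M = M' := by
  classical
  have : Fintype A := Fintype.ofFinite A
  have key : ∀ M : Subgroup A, ∀ x : A, x ∈ M ↔ x ^ Nat.card M = 1 := by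
    intro M
    have h1 := IsCyclic.card_pow_eq_one_le (α := A) (n := Nat.card M) Nat.card_pos
    have h2 : (Finset.univ.filter (fun x : A => x ∈ M)) ⊆ Finset.univ.filter (fun x : A => x ^ Nat.card M = 1) := by
      intro x hx
      rw [Finset.mem_filter] at hx ⊢
      refine ⟨hx.1, ?_⟩
      have := congrArg Subtype.val (pow_card_eq_one' (x := (⟨x, hx.2⟩ : M)))
      exact this
    have h3 : (Finset.univ.filter (fun x : A => x ∈ M)).card = Nat.card M := by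
      rw [Nat.card_eq_fintype_card, Fintype.card_subtype]
    have h4 := Finset.eq_of_subset_of_card_le h2 (by rw [h3]; exact h1)
    intro x
    have h5 : x ∈ Finset.univ.filter (fun x : A => x ∈ M) ↔ x ∈ Finset.univ.filter (fun x : A => x ^ Nat.card M = 1) := by
      rw [h4]
    simpa using h5
  ext x
  rw [key M, key M', h]

variable {F : Type*} [Field F] {G Ω : Type*} [Group G] [MulAction G Ω]

/-- the group of the eigenvalues -/
def Mg [Finite F] [Finite Ω] (ρ : S F →* G) (b : Ω) (v : Fin 3 → F) (hv : v ≠ 0) : Subgroup Fˣ where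
  carrier := {u | EV ρ b v (u : F)}
  one_mem' := EV.one
  mul_mem' := fun h1 h2 => EV.mul h1 h2
  inv_mem' := by
    intro u hu
    change EV ρ b v ((u⁻¹ : Fˣ) : F)
    rw [Units.val_inv_eq_inv_val]
    exact EV.inv hv hu

theorem card_Xs [Finite F] [Finite Ω] [Finite (S F)] {ρ : S F →* G} {b : Ω} {v : Fin 3 → F} (h : Pt (Xs ρ b) v) :
    Nat.card (Xs ρ b) = Nat.card (stabilizer (S F) v) * Nat.card (Mg ρ b v h.1) := by
  classical
  have h1 : ∀ g : Xs ρ b, ∃ μ : F, g.1 • v = μ • v := fun g => h.2.1 g.1 g.2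
  choose f hf using h1
  have hf0 : ∀ g, f g ≠ 0 := by
    intro g h0
    have := hf g
    rw [h0, zero_smul] at this
    exact smul_ne' h.1 _ this
  let χ : Xs ρ b →* Fˣ := MonoidHom.mk' (fun g => Units.mk0 (f g) (hf0 g)) (by
    intro g k
    apply Units.ext
    change f (g * k) = f g * f k
    have h2 := hf (g * k)
    have h3 : (g * k).1 • v = (f g * f k) • v := by
      change (g.1 * k.1) • v = _
      rw [mul_smul, hf k, smul_smul_comm', hf g, smul_smul, mul_comm]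
    rw [h3] at h2
    exact (smul_left_injective F h.1 h2).symm)
  have hχ : ∀ g, ((χ g : Fˣ) : F) = f g := fun g => rfl
  have hr : χ.range = Mg ρ b v h.1 := by
    ext u
    constructor
    · rintro ⟨g, rfl⟩
      exact ⟨g.1, g.2, hf g⟩
    · rintro ⟨g, hg, hgv⟩
      refine ⟨⟨g, hg⟩, ?_⟩
      apply Units.ext
      rw [hχ]
      have := hf ⟨g, hg⟩
      rw [hgv] at this
      exact (smul_left_injective F h.1 this).symm
  have hk : Nat.card χ.ker = Nat.card (stabilizer (S F) v) := by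
    apply Nat.card_congr
    refine
      { toFun := fun g => ⟨g.1.1, ?_⟩
        invFun := fun g => ⟨⟨g.1, h.2.2 g.1 g.2⟩, ?_⟩
        left_inv := fun g => rfl
        right_inv := fun g => rfl }
    · have h2 : χ g.1 = 1 := g.2
      have h3 : f g.1 = 1 := by rw [← hχ, h2]; rfl
      have h4 := hf g.1
      rw [h3, one_smul] at h4
      exact h4
    · rw [MonoidHom.mem_ker]
      apply Units.ext
      rw [hχ]
      have h2 := hf ⟨g.1, h.2.2 g.1 g.2⟩
      have h3 : g.1 • v = v := g.2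
      change g.1 • v = _ at h2
      rw [h3] at h2
      have h4 : (1 : F) • v = f ⟨g.1, h.2.2 g.1 g.2⟩ • v := by rw [one_smul]; exact h2
      exact (smul_left_injective F h.1 h4).symm
  rw [← hr, ← hk, ← Subgroup.index_ker, Subgroup.card_mul_index]

theorem card_stab_eq [Finite (S F)] {v v' : Fin 3 → F} (hv : v ≠ 0) (hv' : v' ≠ 0) :
    Nat.card (stabilizer (S F) v) = Nat.card (stabilizer (S F) v') := by
  obtain ⟨g, hg⟩ := exists_smul hv
  obtain ⟨k, hk⟩ := exists_smul hv'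
  have h1 : v' = (k * g⁻¹) • v := by
    rw [mul_smul, ← hg, inv_smul_smul, hk]
  rw [h1, stabilizer_smul_eq_stabilizer_map_conj]
  exact Nat.card_congr ((stabilizer (S F) v).equivMapOfInjective _ (MulAut.conj (k * g⁻¹)).injective).toEquiv

variable {ρ : Ω → (S F →* G)}

namespace Cfg

variable [Finite F] [CharP F 2] [Finite (S F)] [Finite G] [Finite Ω]

/-- the eigenvalue groups of all pairs coincide -/
theorem ev_iff (c : Cfg ρ) {a b a' b' : Ω} {v v' : Fin 3 → F} (h : Pt (Xs (ρ a) b) v) (h' : Pt (Xs (ρ a') b') v')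
    (μ : F) : EV (ρ a) b v μ ↔ EV (ρ a') b' v' μ := by
  have hi := c.index_eq (c.ne_of_pt h) (c.ne_of_pt h')
  have h1 := Subgroup.card_mul_index (Xs (ρ a) b)
  have h2 := Subgroup.card_mul_index (Xs (ρ a') b')
  rw [← h2, hi] at h1
  have h3 : Nat.card (Xs (ρ a) b) = Nat.card (Xs (ρ a') b') := by
    refine Nat.eq_of_mul_eq_mul_right ?_ h1
    exact Nat.pos_of_ne_zero Subgroup.index_ne_zero_of_finite
  rw [card_Xs h, card_Xs h', card_stab_eq h.1 h'.1] at h3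
  have h4 : Nat.card (Mg (ρ a) b v h.1) = Nat.card (Mg (ρ a') b' v' h'.1) :=
    Nat.eq_of_mul_eq_mul_left Nat.card_pos h3
  have h5 := cyclic_eq h4
  by_cases hμ : μ = 0
  · constructor
    · rintro ⟨g, -, hg⟩
      rw [hμ, zero_smul] at hg
      exact (smul_ne' h.1 g hg).elim
    · rintro ⟨g, -, hg⟩
      rw [hμ, zero_smul] at hg
      exact (smul_ne' h'.1 g hg).elim
  · have h6 : Units.mk0 μ hμ ∈ Mg (ρ a) b v h.1 ↔ Units.mk0 μ hμ ∈ Mg (ρ a') b' v' h'.1 := by rw [h5]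
    exact h6

/-- If the eigenvalue group is not trivial then there is only one point over each vector. -/
theorem A_one (c : Cfg ρ) (hP : TypePt ρ) {a0 b0 : Ω} {v0 : Fin 3 → F} (h0 : Pt (Xs (ρ a0) b0) v0) {μ : F}
    (hμ : EV (ρ a0) b0 v0 μ) (hμ1 : μ ≠ 1) (a : Ω) : Nat.card {b : Ω // Pt (Xs (ρ a) b) e1} = 1 := by
  classical
  have : Fintype Ω := Fintype.ofFinite Ω
  have hμ0 : μ ≠ 0 := by
    rintro rfl
    obtain ⟨g, -, hg⟩ := hμ
    rw [zero_smul] at hg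
    exact smul_ne' h0.1 g hg
  have hμμ : μ * μ ≠ 1 := by
    intro h1
    apply hμ1
    have h2F : (2 : F) = 0 := CharTwo.two_eq_zero
    have h3 : (μ - 1) * (μ - 1) = 0 := by linear_combination h1 - (μ - 1) * h2F
    exact sub_eq_zero.1 (mul_self_eq_zero.1 h3)
  have hdet : 1 * μ * μ⁻¹ = 1 := by rw [one_mul, mul_inv_cancel₀ hμ0]
  set η := dg 1 μ μ⁻¹ hdet with hη
  have hev : ∀ {b : Ω} {v : Fin 3 → F}, Pt (Xs (ρ a) b) v → EV (ρ a) b v μ := fun h => (c.ev_iff h0 h μ).1 hμ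
  -- the three lines
  have e2_ne : (![0, 1, 0] : Fin 3 → F) ≠ 0 := fun h => by simpa using congrFun h 1
  have e3'_ne : (![0, 0, 1] : Fin 3 → F) ≠ 0 := fun h => by simpa using congrFun h 2
  have hη1 : η • (e1 : Fin 3 → F) = e1 := by
    rw [hη, dg_apply]; apply ext3 <;> simp
  have hη2 : η • (![0, 1, 0] : Fin 3 → F) = μ • ![0, 1, 0] := by
    rw [hη, dg_apply]; apply ext3 <;> simp [smul_ap]
  have hη3 : η • (![0, 0, 1] : Fin 3 → F) = μ⁻¹ • ![0, 0, 1] := by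
    rw [hη, dg_apply]; apply ext3 <;> simp [smul_ap]
  have hcase : ∀ d : Ω, ρ a η • d = d → d = a ∨ Pt (Xs (ρ a) d) e1 ∨ Pt (Xs (ρ a) d) ![0, 1, 0] ∨
      Pt (Xs (ρ a) d) ![0, 0, 1] := by
    intro d hd
    by_cases hda : d = a
    · exact Or.inl hda
    right
    obtain ⟨v, hv⟩ := hP a d hda
    obtain ⟨l, hl⟩ := hv.2.1 _ (mem_Xs.2 hd)
    rw [hη, dg_apply] at hl
    have c0 : 1 * v 0 = l * v 0 := congrFun hl 0
    have c1 : μ * v 1 = l * v 1 := congrFun hl 1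
    have c2 : μ⁻¹ * v 2 = l * v 2 := congrFun hl 2
    have key : ∀ (i : Fin 3) (e : Fin 3 → F), (v i ≠ 0) → (∀ j, v j = v i * e j) → Pt (Xs (ρ a) d) e := by
      intro i e hi hj
      have : e = (v i)⁻¹ • v := by
        funext j
        rw [smul_ap, hj j, inv_mul_cancel_left₀ hi]
      rw [this]
      exact hv.smul (inv_ne_zero hi)
    by_cases hv0 : v 0 = 0
    · by_cases hv1 : v 1 = 0
      · right; right
        have hv2 : v 2 ≠ 0 := fun h => hv.1 (ext3 hv0 hv1 h)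
        refine key 2 _ hv2 ?_
        intro j
        fin_cases j
        · simp [hv0]
        · simp [hv1]
        · simp
      · right; left
        have hlμ : μ = l := mul_right_cancel₀ hv1 c1
        have hv2 : v 2 = 0 := by
          by_contra hv2
          have := mul_right_cancel₀ hv2 c2
          rw [← hlμ] at this
          apply hμμ
          nth_rewrite 1 [← this]
          exact inv_mul_cancel₀ hμ0
        refine key 1 _ hv1 ?_
        intro j
        fin_cases j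
        · simp [hv0]
        · simp
        · simp [hv2]
    · left
      have hl1 : 1 = l := mul_right_cancel₀ hv0 c0
      have hv1 : v 1 = 0 := by
        by_contra hv1
        exact hμ1 ((mul_right_cancel₀ hv1 c1).trans hl1.symm)
      have hv2 : v 2 = 0 := by
        by_contra hv2
        have := (mul_right_cancel₀ hv2 c2).trans hl1.symm
        exact hμ1 (by simpa using this)
      refine key 0 _ hv0 ?_
      intro j
      fin_cases j
      · simp
      · simp [hv1]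
      · simp [hv2]
  obtain ⟨c0, hc0⟩ := c.A_pos hP a e1_ne
  obtain ⟨b, hb⟩ := c.A_pos hP a e2_ne
  have hbc : b ≠ c0 := by
    rintro rfl
    obtain ⟨k, -, hk⟩ := hc0.par hb
    have := congrFun hk 1
    simp [smul_ap] at this
  have hηN := c.P_le hP (c.ne_of_pt hc0) hc0 hη1
  obtain ⟨η', hη'⟩ := hηN
  obtain ⟨u, hu⟩ := hP c0 b hbc
  have hbfix : η' ∈ Xs (ρ c0) b := by
    rw [mem_Xs, hη']
    exact hb.mem (hev hb) hη2
  obtain ⟨l, hl⟩ := hu.2.1 _ hbfix
  have hlev : EV (ρ c0) b u l := ⟨η', hbfix, hl⟩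
  have hdfix : ∀ d : Ω, Pt (Xs (ρ c0) d) u → ρ a η • d = d := by
    intro d hd
    rw [← hη']
    exact hd.mem ((c.ev_iff hu hd l).1 hlev) hl
  have hac0 : a ≠ c0 := (c.ne_of_pt hc0).symm
  have hab : a ≠ b := (c.ne_of_pt hb).symm
  have hnab : ¬ Col ρ c0 a b := by
    intro h1
    obtain ⟨v, h3, h4⟩ := c.col_rot hP hab h1
    obtain ⟨k, -, hk⟩ := hc0.par h3
    obtain ⟨k', -, hk'⟩ := hb.par h4
    rw [hk] at hk'
    have := congrFun hk' 1
    have h5 := congrFun hk' 0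
    have hv1 := h3.1
    rw [hk] at hv1
    simp [smul_ap] at this h5
    exact hv1 (by rw [h5, zero_smul])
  have hnot : ∀ d : Ω, Pt (Xs (ρ c0) d) u → d ≠ a ∧ ¬ Pt (Xs (ρ a) d) e1 := by
    intro d hd
    constructor
    · rintro rfl
      exact hnab ⟨u, hd, hu⟩
    · intro h1
      have h2 : Col ρ c0 a d := c.col_rot hP (c.ne_of_pt hd).symm ⟨e1, hc0, h1⟩
      exact hnab (h2.swap.trans ⟨u, hd, hu⟩)
  have hinj : ∀ (e : Fin 3 → F), (¬ ∃ k : F, e = k • e1) → ∀ d d' : Ω, Pt (Xs (ρ c0) d) u → Pt (Xs (ρ c0) d') u →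
      Pt (Xs (ρ a) d) e → Pt (Xs (ρ a) d') e → d = d' := by
    intro e he d d' h1 h2 h3 h4
    by_contra hne
    have h5 : Col ρ d a d' := c.col_rot hP hne ⟨e, h3, h4⟩
    have h6 : Col ρ d c0 d' := c.col_rot hP hne ⟨u, h1, h2⟩
    have h7 : Col ρ d a c0 := h5.swap.trans h6.swap
    obtain ⟨v, h8, h9⟩ := c.col_rot hP hac0 h7
    -- `d` over `e` and over `v`
    obtain ⟨k1, hk1, hk1'⟩ := h8.par h3
    obtain ⟨k2, hk2, hk2'⟩ := hc0.par h9
    exact he ⟨k1 * k2, by rw [hk1', hk2', smul_smul]⟩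
  -- conclusion
  have hle : Nat.card {d : Ω // Pt (Xs (ρ c0) d) u} ≤ 2 := by
    have h2 : Nat.card Bool = 2 := by simp
    rw [← h2]
    apply Nat.card_le_card_of_injective (fun d => decide (Pt (Xs (ρ a) d.1) ![0, 1, 0]))
    rintro ⟨d, hd⟩ ⟨d', hd'⟩ hdd
    apply Subtype.ext
    change d = d'
    have hiff : Pt (Xs (ρ a) d) ![0, 1, 0] ↔ Pt (Xs (ρ a) d') ![0, 1, 0] := by
      simpa using hdd
    have hn2 : ¬ ∃ k : F, (![0, 1, 0] : Fin 3 → F) = k • e1 := by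
      rintro ⟨k, hk⟩
      have := congrFun hk 1
      simp [smul_ap] at this
    have hn3 : ¬ ∃ k : F, (![0, 0, 1] : Fin 3 → F) = k • e1 := by
      rintro ⟨k, hk⟩
      have := congrFun hk 2
      simp [smul_ap] at this
    have h3 := ((hcase d (hdfix d hd)).resolve_left (hnot d hd).1).resolve_left (hnot d hd).2
    have h4 := ((hcase d' (hdfix d' hd')).resolve_left (hnot d' hd').1).resolve_left (hnot d' hd').2
    rcases h3 with h3 | h3
    · exact hinj _ hn2 d d' hd hd' h3 (hiff.1 h3)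
    · rcases h4 with h4 | h4
      · exact hinj _ hn2 d d' hd hd' (hiff.2 h4) h4
      · exact hinj _ hn3 d d' hd hd' h3 h4
  rw [pt_count u hu.1, c.A_eq hP c0 a] at hle
  have hodd := c.A_odd hP a
  rw [Nat.odd_iff] at hodd
  omega

end Cfg

end Cfsg.Agent.H438.SLThree
end
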